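import Mathlib
import Cfsg.Agent.PERM.C3.Loc

/-! The wreath product `SL(2, 3) ≀ S₃` and the extraspecial group `3^(1+6)`. -/

set_option autoImplicit false
set_option synthInstance.maxSize 8192
open Subgroup CL.McL3 CL.MSS CL.C3 QuaternionGroup Equiv

namespace CL.F3

/-- the field -/
abbrev Z3 := ZMod 3
/-- planes -/
abbrev P2 := Z3 × Z3
/-- the symplectic space -/
abbrev V := Fin 3 → P2

/-- the form on a plane -/
def w2 (p q : P2) : Z3 := p.1 * q.2 - p.2 * q.1
/-- the symplectic form -/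
def ω (u v : V) : Z3 := w2 (u 0) (v 0) + w2 (u 1) (v 1) + w2 (u 2) (v 2)
/-- matrices acting on a plane -/
def ap (A : V4) (p : P2) : P2 := (A.1 * p.1 + A.2.1 * p.2, A.2.2.1 * p.1 + A.2.2.2 * p.2)

theorem ap_add (A : V4) (p q : P2) : ap A (p + q) = ap A p + ap A q := by
  simp only [ap, Prod.fst_add, Prod.snd_add, Prod.mk_add_mk, Prod.mk.injEq]; constructor <;> ring
theorem ap_m2 (A B : V4) (p : P2) : ap (m2 A B) p = ap A (ap B p) := by
  simp only [ap, m2, Prod.mk.injEq]; constructor <;> ring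
theorem w2_ap (x : Q8) (k : Z3) (p q : P2) : w2 (ap (blk x k) p) (ap (blk x k) q) = w2 p q := by
  have h1 := blk_det x k
  generalize blk x k = A at h1
  simp only [w2, ap]
  linear_combination (p.1 * q.2 - p.2 * q.1) * h1
theorem blk_inj : ∀ x k x' k', ap (blk x k) (1, 0) = ap (blk x' k') (1, 0) →
    ap (blk x k) (0, 1) = ap (blk x' k') (0, 1) → x = x' ∧ k = k' := by decide +kernel
theorem ω_sum (u v : V) : ω u v = ∑ i, w2 (u i) (v i) := by simp [ω, Fin.sum_univ_three]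

@[simp] theorem ω_add_left (u v w : V) : ω (u + v) w = ω u w + ω v w := by simp [ω, w2]; ring
@[simp] theorem ω_add_right (u v w : V) : ω u (v + w) = ω u v + ω u w := by simp [ω, w2]; ring
@[simp] theorem ω_neg_left (u v : V) : ω (-u) v = -ω u v := by simp [ω, w2]; ring
@[simp] theorem ω_neg_right (u v : V) : ω u (-v) = -ω u v := by simp [ω, w2]; ring
@[simp] theorem ω_sub_left (u v w : V) : ω (u - v) w = ω u w - ω v w := by simp [ω, w2]; ring
@[simp] theorem ω_sub_right (u v w : V) : ω u (v - w) = ω u v - ω u w := by simp [ω, w2]; ring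
@[simp] theorem ω_smul_left (c : Z3) (u v : V) : ω (c • u) v = c * ω u v := by simp [ω, w2]; ring
@[simp] theorem ω_smul_right (c : Z3) (u v : V) : ω u (c • v) = c * ω u v := by simp [ω, w2]; ring
@[simp] theorem ω_zero_left (v : V) : ω 0 v = 0 := by simp [ω, w2]
@[simp] theorem ω_zero_right (v : V) : ω v 0 = 0 := by simp [ω, w2]
@[simp] theorem ω_self (v : V) : ω v v = 0 := by simp [ω, w2]; ring
theorem ω_comm (u v : V) : ω u v = -ω v u := by simp [ω, w2]; ring

/-- the first basis vectors -/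
def va (i : Fin 3) : V := Pi.single i (1, 0)
/-- the second basis vectors -/
def vb (i : Fin 3) : V := Pi.single i (0, 1)

theorem ω_va (v : V) (i : Fin 3) : ω v (va i) = -(v i).2 := by fin_cases i <;> simp [ω, w2, va]
theorem ω_vb (v : V) (i : Fin 3) : ω v (vb i) = (v i).1 := by fin_cases i <;> simp [ω, w2, vb]
theorem ω_nd {v : V} (h : ∀ u, ω v u = 0) : v = 0 := funext fun i =>
  Prod.ext ((ω_vb v i).symm.trans (h _)) (neg_eq_zero.1 ((ω_va v i).symm.trans (h _)))
theorem three_v (v : V) : v + v + v = 0 := by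
  have : ∀ p : P2, p + p + p = 0 := by decide
  exact funext fun i => this _

/-- the wreath product -/
@[ext] structure Wr where
  a : Fin 3 → Q8
  k : Fin 3 → Z3
  π : Perm (Fin 3)

instance : DecidableEq Wr := fun g h => decidable_of_iff (∀ j, g.a j = h.a j ∧ g.k j = h.k j ∧ g.π j = h.π j)
  ⟨fun e => Wr.ext (funext fun j => (e j).1) (funext fun j => (e j).2.1) (Equiv.ext fun j => (e j).2.2),
    fun e _ => e ▸ ⟨rfl, rfl, rfl⟩⟩

instance : Mul Wr := ⟨fun g h => ⟨fun j => g.a j * sk (g.k j) (h.a (g.π⁻¹ j)),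
  fun j => g.k j + h.k (g.π⁻¹ j), g.π * h.π⟩⟩
instance : One Wr := ⟨⟨1, 0, 1⟩⟩
instance : Inv Wr := ⟨fun g => ⟨fun j => sk (-g.k (g.π j)) (g.a (g.π j))⁻¹, fun j => -g.k (g.π j), g.π⁻¹⟩⟩

@[simp] theorem mul_a (g h : Wr) (j : Fin 3) : (g * h).a j = g.a j * sk (g.k j) (h.a (g.π⁻¹ j)) := rfl
@[simp] theorem mul_k (g h : Wr) (j : Fin 3) : (g * h).k j = g.k j + h.k (g.π⁻¹ j) := rfl
@[simp] theorem mul_π (g h : Wr) : (g * h).π = g.π * h.π := rfl
@[simp] theorem one_a : (1 : Wr).a = 1 := rfl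
@[simp] theorem one_k : (1 : Wr).k = 0 := rfl
@[simp] theorem one_π : (1 : Wr).π = 1 := rfl
@[simp] theorem inv_a (g : Wr) (j : Fin 3) : g⁻¹.a j = sk (-g.k (g.π j)) (g.a (g.π j))⁻¹ := rfl
@[simp] theorem inv_k (g : Wr) (j : Fin 3) : g⁻¹.k j = -g.k (g.π j) := rfl
@[simp] theorem inv_π (g : Wr) : g⁻¹.π = g.π⁻¹ := rfl

instance : Group Wr := Group.ofLeftAxioms
  (fun f g h => by
    refine Wr.ext (funext fun j => ?_) (funext fun j => ?_) (mul_assoc _ _ _)
    · simp [sk_mul, sk_add, mul_assoc]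
    · simp [add_assoc])
  (fun g => by ext <;> simp)
  (fun g => by
    refine Wr.ext (funext fun j => ?_) (funext fun j => ?_) (inv_mul_cancel _)
    · simp [← sk_mul]
    · simp)

instance : SMul Wr V := ⟨fun g v j => ap (blk (g.a j) (g.k j)) (v (g.π⁻¹ j))⟩
theorem smul_ap (g : Wr) (v : V) (j : Fin 3) : (g • v) j = ap (blk (g.a j) (g.k j)) (v (g.π⁻¹ j)) := rfl

instance : DistribMulAction Wr V where
  one_smul v := funext fun j => by simp [smul_ap, ap]
  mul_smul g h v := funext fun j => by simp [smul_ap, blk_mul, ap_m2]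
  smul_zero g := funext fun j => by simp [smul_ap, ap]
  smul_add g u v := funext fun j => ap_add ..

theorem smul_c (g : Wr) (c : Z3) (v : V) : g • c • v = c • g • v :=
  ZMod.map_smul (DistribSMul.toAddMonoidHom V g) c v

@[simp] theorem ω_smul (g : Wr) (u v : V) : ω (g • u) (g • v) = ω u v := by
  simp only [ω_sum, smul_ap, w2_ap]
  exact Equiv.sum_comp g.π⁻¹ fun i => w2 (u i) (v i)

theorem ap_ne : ∀ x k (p : P2), ap (blk x k) p = 0 → p = 0 := by decide +kernel

theorem ext_smul {g h : Wr} (e : ∀ v : V, g • v = h • v) : g = h := by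
  have hπ : g.π⁻¹ = h.π⁻¹ := Equiv.ext fun j => by_contra fun n => by
    have := congrFun (e (va (g.π⁻¹ j))) j
    rw [smul_ap, smul_ap, va, Pi.single_eq_same, Pi.single_eq_of_ne' n] at this
    exact absurd (ap_ne _ _ _ (this.trans (by simp [ap]))) (by decide)
  have k : ∀ j, g.a j = h.a j ∧ g.k j = h.k j := fun j => by
    have h1 := congrFun (e fun _ => (1, 0)) j
    have h2 := congrFun (e fun _ => (0, 1)) j
    exact blk_inj _ _ _ _ h1 h2
  exact Wr.ext (funext fun j => (k j).1) (funext fun j => (k j).2) (inv_injective hπ)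

/-- the parameters -/
def Wr.eq : Wr ≃ (Fin 3 → Q8) × (Fin 3 → Z3) × Perm (Fin 3) :=
  ⟨fun g => (g.a, g.k, g.π), fun p => ⟨p.1, p.2.1, p.2.2⟩, fun _ => rfl, fun _ => rfl⟩

instance : Finite Wr := Finite.of_equiv _ Wr.eq.symm

theorem card_Wr : Nat.card Wr = 3 ^ 4 * 1024 := by
  rw [Nat.card_congr Wr.eq]; simp [Fintype.card_perm, QuaternionGroup.card]; decide

/-- all components are nonzero -/
def Full (v : V) : Prop := ∀ i, v i ≠ 0

theorem full_smul {g : Wr} {v : V} : Full (g • v) ↔ Full v :=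
  ⟨fun h i e => h (g.π i) (by simp [smul_ap, e, ap]), fun h _ e => h _ (ap_ne _ _ _ e)⟩

/-- the base group -/
def bs (a : Fin 3 → Q8) : Wr := ⟨a, 0, 1⟩
/-- the central involutions of the factors -/
def fl (i : Fin 3) : Wr := bs (Pi.mulSingle i (a 2))
/-- the shift -/
def sh : Perm (Fin 3) := finRotate 3
/-- the elements of a Sylow 3-subgroup -/
def un (k : Fin 3 → Z3) (n : Z3) : Wr := ⟨1, k, sh ^ n.val⟩
/-- the shift -/
def σ : Wr := un 0 1
/-- the diagonal unipotent element -/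
def δ : Wr := un 1 0

theorem bs_mul (a b : Fin 3 → Q8) : bs (a * b) = bs a * bs b := by ext <;> simp [bs]
theorem fl_smul (i j : Fin 3) (v : V) : (fl i • v) j = if j = i then -v j else v j := by
  have : ∀ p : P2, ap (2, 0, 0, 2) p = -p := by decide
  by_cases h : j = i <;> simp [smul_ap, fl, bs, h, this]
  simp [ap]
theorem fl_sq : ∀ i, fl i * fl i = 1 := by decide +kernel
theorem fl_comm : ∀ i j, fl i * fl j = fl j * fl i := by decide +kernel
theorem un_smul (k : Fin 3 → Z3) (n : Z3) (v : V) (j : Fin 3) :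
    (un k n • v) j = ((v ((sh ^ n.val)⁻¹ j)).1 + k j * (v ((sh ^ n.val)⁻¹ j)).2, (v ((sh ^ n.val)⁻¹ j)).2) := by
  simp [smul_ap, un, ap]
theorem un0_smul (k : Fin 3 → Z3) (v : V) (j : Fin 3) :
    (un k 0 • v) j = ((v j).1 + k j * (v j).2, (v j).2) := by simp [un_smul]

/-- the base group -/
def Bs : Subgroup Wr := sub (fun g => g.k = 0 ∧ g.π = 1) ⟨rfl, rfl⟩ fun g h hg hh =>
  ⟨funext fun j => by simp [hg.1, hh.1], by simp [hg.2, hh.2]⟩
/-- the Sylow 3-subgroup -/
def Un : Subgroup Wr := sub (fun g => ∃ k n, g = un k n) ⟨0, 0, rfl⟩ (by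
  rintro _ _ ⟨k, n, rfl⟩ ⟨k', n', rfl⟩
  refine ⟨_, n + n', Wr.ext (funext fun j => by simp [un]) rfl ?_⟩
  revert n n'; simp only [un, mul_π]; decide)

theorem mem_Bs {g : Wr} : g ∈ Bs ↔ g.k = 0 ∧ g.π = 1 := Iff.rfl
theorem mem_Un {g : Wr} : g ∈ Un ↔ ∃ k n, g = un k n := Iff.rfl
theorem bs_mem (a : Fin 3 → Q8) : bs a ∈ Bs := ⟨rfl, rfl⟩
theorem eq_bs {g : Wr} (h : g ∈ Bs) : g = bs g.a := Wr.ext rfl h.1 h.2

instance : Bs.Normal := ⟨fun g hg h => ⟨funext fun j => by simp [hg.1, hg.2], by simp [hg.2]⟩⟩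

theorem card_Un : Nat.card Un = 3 ^ 4 := by
  rw [card_of (H := Un) (fun p : (Fin 3 → Z3) × Z3 => un p.1 p.2) (fun p q h => Prod.ext (congrArg Wr.k h)
    ((show ∀ m n : Z3, sh ^ m.val = sh ^ n.val → m = n by decide) _ _ (congrArg Wr.π h)))
    fun g => ⟨fun ⟨k, n, e⟩ => ⟨(k, n), e.symm⟩, fun ⟨p, e⟩ => ⟨_, _, e.symm⟩⟩]
  simp

theorem syl_Un : SylIn 3 Un ⊤ := sylIn_card le_top card_Un (card_top.trans card_Wr) (by decide)

theorem pBs : IsPGroup 2 Bs := isPGroup_iff_forall_mem.2 fun g hg => ⟨2, by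
  have : ∀ x : Q8, x * (x * (x * x)) = 1 := by decide +kernel
  rw [eq_bs hg, show 2 ^ 2 = 4 from rfl, pow_succ', pow_three, ← bs_mul, ← bs_mul, ← bs_mul]
  exact congrArg bs (funext fun j => this _)⟩

/-- the extraspecial group -/
@[ext] structure He where
  v : V
  c : Z3

instance : DecidableEq He := fun p q => decidable_of_iff (p.v = q.v ∧ p.c = q.c) He.ext_iff.symm

instance : Mul He := ⟨fun p q => ⟨p.v + q.v, p.c + q.c + 2 * ω p.v q.v⟩⟩
instance : One He := ⟨⟨0, 0⟩⟩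
instance : Inv He := ⟨fun p => ⟨-p.v, -p.c⟩⟩

@[simp] theorem mul_v (p q : He) : (p * q).v = p.v + q.v := rfl
@[simp] theorem mul_c (p q : He) : (p * q).c = p.c + q.c + 2 * ω p.v q.v := rfl
@[simp] theorem one_v : (1 : He).v = 0 := rfl
@[simp] theorem one_c : (1 : He).c = 0 := rfl
@[simp] theorem inv_v (p : He) : p⁻¹.v = -p.v := rfl
@[simp] theorem inv_c (p : He) : p⁻¹.c = -p.c := rfl

instance : Group He := Group.ofLeftAxioms
  (fun p q r => He.ext (add_assoc _ _ _) (by simp; ring)) (fun p => by ext1 <;> simp)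
  (fun p => by ext1 <;> simp)

/-- the parameters -/
def He.eq : He ≃ V × Z3 := ⟨fun q => (q.v, q.c), fun p => ⟨p.1, p.2⟩, fun _ => rfl, fun _ => rfl⟩

instance : Finite He := Finite.of_equiv _ He.eq.symm

theorem card_He : Nat.card He = 3 ^ 7 := by rw [Nat.card_congr He.eq]; simp

theorem three_z (c : Z3) : c + c + c = 0 := by revert c; decide
theorem He.cube (q : He) : q ^ 3 = 1 := by
  rw [pow_three']; exact He.ext (three_v _) (by simp [three_z])
theorem He.comm {p q : He} : p * q = q * p ↔ ω p.v q.v = 0 := by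
  have : ∀ c : Z3, 2 * c = 2 * -c ↔ c = 0 := by decide
  rw [He.ext_iff, mul_v, mul_v, mul_c, mul_c, add_comm p.v, add_comm p.c, ω_comm q.v]
  simp only [true_and, add_right_inj, this]

/-- the automorphisms -/
def au (y : V) (g : Wr) (q : He) : He := ⟨g • q.v, q.c + ω y (g • q.v)⟩

@[simp] theorem au_v (y : V) (g : Wr) (q : He) : (au y g q).v = g • q.v := rfl
@[simp] theorem au_c (y : V) (g : Wr) (q : He) : (au y g q).c = q.c + ω y (g • q.v) := rfl

theorem He.cj (p q : He) : p * q * p⁻¹ = au p.v 1 q := by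
  refine He.ext (by simp) ?_
  simp [ω_comm q.v p.v]
  generalize ω p.v q.v = x
  revert x; generalize p.c = a; generalize q.c = b; revert a b; decide

attribute [irreducible] ω

end CL.F3
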