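import Mathlib
import Cfsg.Agent.PERM.F3.Wr

/-! Coordinates on a three-centralizer of shape `3^(1+6).2^(3+4)`. -/

set_option autoImplicit false
set_option linter.unusedSectionVars false
set_option synthInstance.maxSize 8192
open Subgroup CL.McL3 CL.MSS CL.C3 QuaternionGroup Equiv Cfsg
open CL.Odd hiding e3

namespace CL.F3

variable {G : Type*} [Group G]

theorem cj_fl (g : Wr) (i : Fin 3) : g * fl i * g⁻¹ = fl (g.π i) := ext_smul fun v => funext fun j => by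
  have : ∀ x k (p : P2), ap (blk x k) (-p) = -ap (blk x k) p := by decide +kernel
  obtain ⟨v, rfl⟩ : ∃ u, g • u = v := MulAction.surjective g v
  rw [mul_smul, mul_smul, inv_smul_smul, smul_ap, fl_smul, fl_smul, smul_ap]
  by_cases h : j = g.π i
  · simp [h, this]
  · rw [if_neg h, if_neg fun e => h (by simp [← e])]

/-- the largest normal 3-subgroup of the centralizer -/
abbrev QO (z : G) : Subgroup G := pCoreOf 3 (cz z)

theorem QO_le (z : G) : QO z ≤ cz z := PComp.pCoreOf_le 3 _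

theorem cz_cj (g z : G) : cz (g * z * g⁻¹) = g •ᶜ cz z := (cj_centralizer_singleton g z).symm

theorem comm_of_cop' {h t ζ : G} {n : ℕ} (e : h * t * h⁻¹ = ζ * t) (c : ζ * t = t * ζ) (h3 : ζ ^ 3 = 1)
    (ht : t ^ n = 1) (hn : n.Coprime 3) : h ∈ cz t := by
  have : ζ ^ n = 1 := by
    have := congrArg (· ^ n) e
    simp only [conj_pow, ht, (show Commute ζ t from c).mul_pow] at this
    simpa using this.symm
  rw [mem_cz, e, eq_one_of_cop this h3 hn, one_mul]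

variable [Finite G]

theorem QO_cj (g z : G) : QO (g * z * g⁻¹) = g •ᶜ QO z := by
  rw [QO, cz_cj]; exact PComp.pCoreOf_map_of_injective 3 _ (MulAut.conj g).injective

theorem pQO (z : G) : IsPGroup 3 (QO z) := PComp.pCoreOf_isPGroup 3 _
theorem nQO (z : G) : cz z ≤ Nm (QO z) := PComp.le_normalizer_pCoreOf 3 _
theorem QO_conj {z h q : G} (hh : h ∈ cz z) (hq : q ∈ QO z) : h * q * h⁻¹ ∈ QO z :=
  conj_mem_of_normalizes (nQO z) hh hq

/-- the frame -/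
structure Fr (z : G) where
  φ : He →* G
  y : G → V
  M : G → Wr
  inj : Function.Injective φ
  hz : φ ⟨0, 1⟩ = z
  rng : φ.range = QO z
  act : ∀ h ∈ cz z, ∀ q, h * φ q * h⁻¹ = φ (au (y h) (M h) q)
  ker : ∀ h ∈ cz z, M h = 1 → h ∈ QO z
  efl : ∀ i, ∃ h ∈ cz z, M h = fl i
  card : Nat.card {g : Wr // g ∈ Bs ∧ ∃ h ∈ cz z, M h = g} = 128

namespace Fr
variable {z : G} (F : Fr z)
include F

theorem φQ (q : He) : F.φ q ∈ QO z := F.rng ▸ ⟨q, rfl⟩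
theorem φH (q : He) : F.φ q ∈ cz z := QO_le z (F.φQ q)
theorem exq {g : G} (h : g ∈ QO z) : ∃ q, F.φ q = g := (F.rng.ge h :)
theorem Q3 {g : G} (h : g ∈ QO z) : g ^ 3 = 1 := by
  obtain ⟨q, rfl⟩ := F.exq h
  rw [← map_pow, He.cube, map_one]
theorem zQ : z ∈ QO z := by simpa only [F.hz] using F.φQ ⟨0, 1⟩
theorem z3 : z ^ 3 = 1 := F.Q3 F.zQ
theorem ne {q : He} (h : q ≠ 1) : F.φ q ≠ 1 := fun e => h (F.inj (e.trans (map_one _).symm))
theorem z1 : z ≠ 1 := F.hz ▸ F.ne (by decide)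
theorem ZQ : zpowers z ≤ QO z := zpowers_le.2 F.zQ
theorem cQ : Nat.card (QO z) = 3 ^ 7 := by
  rw [← F.rng, ← card_He]; exact (Nat.card_congr (MonoidHom.ofInjective F.inj).toEquiv).symm
theorem cZ : Nat.card (zpowers z) = 3 := card_zpowers_three F.z1 F.z3

theorem φZ {q : He} : F.φ q ∈ zpowers z ↔ q.v = 0 := by
  have : ∀ c : Z3, (⟨0, c⟩ : He) = 1 ∨ (⟨0, c⟩ : He) = ⟨0, 1⟩ ∨ (⟨0, c⟩ : He) = (⟨0, 1⟩ : He)⁻¹ := by decide
  have e : F.φ (⟨0, 1⟩ : He)⁻¹ = z⁻¹ := by rw [map_inv, F.hz]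
  rw [mem_zpowers_three F.z3, ← e, ← map_one F.φ, F.inj.eq_iff, F.inj.eq_iff,
    show F.φ q = z ↔ q = ⟨0, 1⟩ from ⟨fun k => F.inj (k.trans F.hz.symm), fun k => k ▸ F.hz⟩]
  exact ⟨by rintro (rfl | rfl | rfl) <;> simp, fun e => (show (⟨0, q.c⟩ : He) = q from He.ext e.symm rfl) ▸ this _⟩

theorem exz {g : G} (h : g ∈ zpowers z) : ∃ c, F.φ ⟨0, c⟩ = g := by
  obtain ⟨q, rfl⟩ := F.exq (F.ZQ h)
  exact ⟨q.c, congrArg _ (He.ext (F.φZ.1 h).symm rfl)⟩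

theorem zc {g h : G} (hg : g ∈ zpowers z) (hh : h ∈ cz z) : g * h = h * g := by
  obtain ⟨k, rfl⟩ := hg
  exact ((show Commute h z from mem_cz'.1 hh).zpow_right k).symm

theorem uniq {h : G} (hh : h ∈ cz z) {y : V} {g : Wr} (e : ∀ q, h * F.φ q * h⁻¹ = F.φ (au y g q)) :
    F.y h = y ∧ F.M h = g := by
  have k : ∀ q, au (F.y h) (F.M h) q = au y g q := fun q => F.inj ((F.act h hh q).symm.trans (e q))
  have k1 : F.M h = g := ext_smul fun v => congrArg He.v (k ⟨v, 0⟩)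
  refine ⟨sub_eq_zero.1 (ω_nd fun u => ?_), k1⟩
  have := congrArg He.c (k ⟨g⁻¹ • u, 0⟩)
  simpa [k1, sub_eq_zero] using this

theorem yM_mul {g h : G} (hg : g ∈ cz z) (hh : h ∈ cz z) :
    F.y (g * h) = F.y g + F.M g • F.y h ∧ F.M (g * h) = F.M g * F.M h := F.uniq (mul_mem hg hh) fun q => by
  rw [show g * h * F.φ q * (g * h)⁻¹ = g * (h * F.φ q * h⁻¹) * g⁻¹ by group, F.act h hh, F.act g hg]
  exact congrArg _ (He.ext (mul_smul _ _ _).symm (by simp [mul_smul]; ring))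

theorem y_mul {g h : G} (hg : g ∈ cz z) (hh : h ∈ cz z) : F.y (g * h) = F.y g + F.M g • F.y h :=
  (F.yM_mul hg hh).1
theorem M_mul {g h : G} (hg : g ∈ cz z) (hh : h ∈ cz z) : F.M (g * h) = F.M g * F.M h :=
  (F.yM_mul hg hh).2
theorem yM_φ (q : He) : F.y (F.φ q) = q.v ∧ F.M (F.φ q) = 1 := F.uniq (F.φH q) fun p => by
  rw [← map_inv, ← map_mul, ← map_mul, He.cj]
@[simp] theorem y_φ (q : He) : F.y (F.φ q) = q.v := (F.yM_φ q).1
@[simp] theorem M_φ (q : He) : F.M (F.φ q) = 1 := (F.yM_φ q).2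
@[simp] theorem y_one : F.y 1 = 0 := by simpa using F.y_φ 1
@[simp] theorem M_one : F.M 1 = 1 := by simpa using F.M_φ 1
theorem M_Q {g : G} (h : g ∈ QO z) : F.M g = 1 := by obtain ⟨q, rfl⟩ := F.exq h; simp
theorem y_Z {g : G} (h : g ∈ zpowers z) : F.y g = 0 := by obtain ⟨c, rfl⟩ := F.exz h; simp

/-- the action on `Q / Z` -/
def Mh : cz z →* Wr := MonoidHom.mk' (fun h => F.M h) fun g h => F.M_mul g.2 h.2

theorem M_inv {h : G} (hh : h ∈ cz z) : F.M h⁻¹ = (F.M h)⁻¹ := map_inv F.Mh ⟨h, hh⟩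
theorem M_pow {h : G} (hh : h ∈ cz z) (n : ℕ) : F.M (h ^ n) = F.M h ^ n := map_pow F.Mh ⟨h, hh⟩ n
theorem y_inv {h : G} (hh : h ∈ cz z) : F.y h⁻¹ = -((F.M h)⁻¹ • F.y h) := by
  have := F.y_mul (inv_mem hh) hh
  rw [inv_mul_cancel, y_one, F.M_inv hh] at this
  exact eq_neg_of_add_eq_zero_left this.symm
theorem M_cj {g h : G} (hg : g ∈ cz z) (hh : h ∈ cz z) : F.M (g * h * g⁻¹) = F.M g * F.M h * (F.M g)⁻¹ := by
  rw [F.M_mul (mul_mem hg hh) (inv_mem hg), F.M_mul hg hh, F.M_inv hg]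
theorem y_cj {g h : G} (hg : g ∈ cz z) (hh : h ∈ cz z) :
    F.y (g * h * g⁻¹) = F.y g + F.M g • F.y h - (F.M g * F.M h * (F.M g)⁻¹) • F.y g := by
  rw [F.y_mul (mul_mem hg hh) (inv_mem hg), F.y_mul hg hh, F.M_mul hg hh, F.y_inv hg, smul_neg, ← mul_smul,
    sub_eq_add_neg]
theorem cjH {g h : G} (hg : g ∈ cz z) (hh : h ∈ cz z) : g * h * g⁻¹ ∈ cz z :=
  mul_mem (mul_mem hg hh) (inv_mem hg)
theorem M_cjφ (q : He) {h : G} (hh : h ∈ cz z) : F.M (F.φ q * h * (F.φ q)⁻¹) = F.M h := by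
  simp [F.M_cj (F.φH q) hh]
theorem y_cjφ (q : He) {h : G} (hh : h ∈ cz z) : F.y (F.φ q * h * (F.φ q)⁻¹) = q.v + F.y h - F.M h • q.v := by
  simp [F.y_cj (F.φH q) hh]

theorem memZ {h : G} (hh : h ∈ cz z) (h1 : F.M h = 1) (h2 : F.y h = 0) : h ∈ zpowers z := by
  obtain ⟨q, rfl⟩ := F.exq (F.ker h hh h1)
  exact F.φZ.2 (by simpa using h2)

theorem divZ {g h : G} (hg : g ∈ cz z) (hh : h ∈ cz z) (h1 : F.M g = F.M h) (h2 : F.y g = F.y h) :
    g * h⁻¹ ∈ zpowers z := F.memZ (mul_mem hg (inv_mem hh))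
  (by rw [F.M_mul hg (inv_mem hh), F.M_inv hh, h1, mul_inv_cancel])
  (by rw [F.y_mul hg (inv_mem hh), F.y_inv hh, h1, h2]; simp)

theorem comm_φ {h : G} (hh : h ∈ cz z) {q : He} :
    F.φ q ∈ cz h ↔ F.M h • q.v = q.v ∧ ω (F.y h) q.v = 0 := by
  rw [mem_cz_comm, mem_cz, F.act h hh, F.inj.eq_iff, He.ext_iff]
  exact and_congr_right fun e => by simp [show F.M h • q.v = q.v from e]

theorem comm_φφ {p q : He} : F.φ q ∈ cz (F.φ p) ↔ ω p.v q.v = 0 := by simp [F.comm_φ (F.φH p)]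

theorem Z3' {g : G} (h : g ∈ zpowers z) : g ^ 3 = 1 := F.Q3 (F.ZQ h)

theorem comm_of {h t : G} (hh : h ∈ cz z) (ht : t ∈ cz z) {n : ℕ} (tn : t ^ n = 1) (hn : n.Coprime 3)
    (h1 : F.M h * F.M t = F.M t * F.M h) (h2 : F.y h + F.M h • F.y t = F.y t + F.M t • F.y h) : h ∈ cz t := by
  have := F.divZ (mul_mem hh ht) (mul_mem ht hh) (by rw [F.M_mul hh ht, F.M_mul ht hh, h1])
    (by rw [F.y_mul hh ht, F.y_mul ht hh, h2])
  exact comm_of_cop' (ζ := h * t * (t * h)⁻¹) (by group) (F.zc this ht) (F.Z3' this) tn hn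

theorem eq_of {g h : G} (hg : g ∈ cz z) (hh : h ∈ cz z) {n : ℕ} (gn : g ^ n = 1) (hn : h ^ n = 1)
    (c : n.Coprime 3) (h1 : F.M g = F.M h) (h2 : F.y g = F.y h) : g = h := by
  have k := F.divZ hg hh h1 h2
  have e : (g * h⁻¹) ^ n = 1 := by
    have := congrArg (· ^ n) (inv_mul_cancel_right g h)
    simpa only [(show Commute _ h from F.zc k hh).mul_pow, gn, hn, mul_one] using this
  exact mul_inv_eq_one.1 (eq_one_of_cop e (F.Z3' k) c)

/-- the image of the centralizer -/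
def Hb : Subgroup Wr := F.Mh.range

theorem mem_Hb {g : Wr} : g ∈ F.Hb ↔ ∃ h ∈ cz z, F.M h = g := ⟨fun ⟨h, e⟩ => ⟨h, h.2, e⟩, fun ⟨h, k, e⟩ => ⟨⟨h, k⟩, e⟩⟩
theorem M_mem {h : G} (hh : h ∈ cz z) : F.M h ∈ F.Hb := ⟨⟨h, hh⟩, rfl⟩

theorem lift {g : Wr} (hg : g ∈ F.Hb) : ∃ h ∈ cz z, F.M h = g ∧ F.y h = 0 := by
  obtain ⟨h, hh, rfl⟩ := F.mem_Hb.1 hg
  exact ⟨F.φ ⟨-F.y h, 0⟩ * h, mul_mem (F.φH _) hh, by simp [F.M_mul (F.φH _) hh], by simp [F.y_mul (F.φH _) hh]⟩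

theorem y_pow {h : G} (hh : h ∈ cz z) (h0 : F.y h = 0) (n : ℕ) : F.y (h ^ n) = 0 := by
  induction n with
  | zero => simp
  | succ n ih => rw [pow_succ, F.y_mul (pow_mem hh n) hh, ih, h0]; simp

theorem lift2 {g : Wr} (hg : g ∈ F.Hb) (h4 : g ^ 4 = 1) :
    ∃ h ∈ cz z, F.M h = g ∧ F.y h = 0 ∧ h ^ 4 = 1 ∧ (g * g = 1 → h * h = 1) := by
  obtain ⟨h, hh, rfl, h0⟩ := F.lift hg
  have k : ∀ n, F.M h ^ n = 1 → (h ^ 9) ^ n = 1 := fun n e => by
    rw [← pow_mul, show 9 * n = n * 3 * 3 by ring, pow_mul, pow_mul, F.Z3' (F.memZ (pow_mem hh n)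
      (by rw [F.M_pow hh, e]) (F.y_pow hh h0 n)), one_pow]
  exact ⟨h ^ 9, pow_mem hh _, by rw [F.M_pow hh, show 9 = 4 * 2 + 1 from rfl, pow_succ, pow_mul, h4]; simp,
    F.y_pow hh h0 _, k 4 h4, fun e => (pow_two _).symm.trans (k 2 ((pow_two _).trans e))⟩

theorem exr (i : Fin 3) : ∃ r ∈ cz z, F.M r = fl i ∧ F.y r = 0 ∧ r * r = 1 := by
  obtain ⟨r, h1, h2, h3, -, h4⟩ := F.lift2 (F.mem_Hb.2 (F.efl i)) (by revert i; decide +kernel)
  exact ⟨r, h1, h2, h3, h4 (fl_sq i)⟩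

/-- the involutions inverting one factor -/
noncomputable def r (i : Fin 3) : G := (F.exr i).choose

theorem rH (i : Fin 3) : F.r i ∈ cz z := (F.exr i).choose_spec.1
@[simp] theorem M_r (i : Fin 3) : F.M (F.r i) = fl i := (F.exr i).choose_spec.2.1
@[simp] theorem y_r (i : Fin 3) : F.y (F.r i) = 0 := (F.exr i).choose_spec.2.2.1
theorem r2 (i : Fin 3) : F.r i * F.r i = 1 := (F.exr i).choose_spec.2.2.2
theorem r_inv (i : Fin 3) : (F.r i)⁻¹ = F.r i := inv_eq_of_mul_eq_one_right (F.r2 i)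
theorem r1 (i : Fin 3) : F.r i ≠ 1 := fun e => by
  have := F.M_r i
  rw [e, M_one] at this
  clear e; revert i; decide +kernel

theorem comm_r {h : G} (hh : h ∈ cz z) {i : Fin 3} : h ∈ cz (F.r i) ↔ (F.M h).π i = i ∧ F.y h i = 0 := by
  have k : ∀ i j, fl i = fl j → i = j := by decide +kernel
  have k2 : ∀ p : P2, p = -p ↔ p = 0 := by decide
  constructor
  · intro e
    have h1 := F.M_cj hh (F.rH i)
    have h2 := congrFun (F.y_mul hh (F.rH i)) i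
    rw [mem_cz.1 e, M_r, cj_fl] at h1
    rw [mem_cz'.1 e, F.y_mul (F.rH i) hh] at h2
    exact ⟨(k _ _ h1).symm, by simpa [fl_smul, eq_comm, k2] using h2⟩
  · rintro ⟨h1, h2⟩
    refine F.comm_of hh (F.rH i) ((pow_two _).trans (F.r2 i)) (by decide) ?_ (funext fun j => ?_)
    · rw [M_r, ← mul_inv_eq_iff_eq_mul, cj_fl, h1]
    · by_cases e : j = i <;> simp [fl_smul, e, h2]

theorem rr (i j : Fin 3) : F.r i ∈ cz (F.r j) := (F.comm_r (F.rH i)).2 ⟨by simp [fl, bs], by simp⟩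

theorem cj_r {h : G} (hh : h ∈ cz z) (h0 : F.y h = 0) (i : Fin 3) : h * F.r i * h⁻¹ = F.r ((F.M h).π i) :=
  F.eq_of (n := 2) (F.cjH hh (F.rH i)) (F.rH _) (by rw [conj_pow, pow_two, r2]; simp) ((pow_two _).trans (F.r2 _))
    (by decide) (by simp [F.M_cj hh (F.rH i), cj_fl]) (by simp [F.y_cj hh (F.rH i), h0])

/-- conjugating a frame -/
def cj (g : G) : Fr (g * z * g⁻¹) where
  φ := (MulAut.conj g).toMonoidHom.comp F.φ
  y h := F.y (g⁻¹ * h * g)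
  M h := F.M (g⁻¹ * h * g)
  inj := (MulAut.conj g).injective.comp F.inj
  hz := congrArg (fun x => g * x * g⁻¹) F.hz
  rng := by rw [QO_cj, ← F.rng, MonoidHom.range_comp]
  act h hh q := by
    rw [cz_cj, mem_cj] at hh
    show h * (g * F.φ q * g⁻¹) * h⁻¹ = g * F.φ _ * g⁻¹
    rw [← F.act _ hh]; group
  ker h hh e := by
    rw [cz_cj, mem_cj] at hh
    rw [QO_cj, mem_cj]; exact F.ker _ hh e
  efl i := ⟨_, conj_mem_cz g (F.rH i), by simp [mul_assoc]⟩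
  card := F.card ▸ Nat.card_congr (Equiv.subtypeEquivRight fun _ => and_congr_right fun _ =>
    ⟨fun ⟨h, hh, e⟩ => ⟨_, by rwa [cz_cj, mem_cj] at hh, e⟩,
      fun ⟨h, hh, e⟩ => ⟨_, conj_mem_cz g hh, by simpa [mul_assoc] using e⟩⟩)

/-- changing the basis -/
def rb (g : Wr) : Fr z where
  φ := F.φ.comp (MonoidHom.mk' (fun q => ⟨g⁻¹ • q.v, q.c⟩) fun p q => He.ext (smul_add ..) (by simp))
  y h := g • F.y h
  M h := g * F.M h * g⁻¹
  inj := F.inj.comp fun p q e => He.ext (by simpa using congrArg He.v e) (congrArg He.c e :)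
  hz := (congrArg F.φ (He.ext (smul_zero _) rfl)).trans F.hz
  rng := by
    rw [← F.rng]
    exact le_antisymm (by rintro _ ⟨q, rfl⟩; exact ⟨_, rfl⟩) (by
      rintro _ ⟨q, rfl⟩; exact ⟨⟨g • q.v, q.c⟩, congrArg F.φ (He.ext (inv_smul_smul ..) rfl)⟩)
  act h hh q := (F.act h hh _).trans (congrArg F.φ (He.ext (by simp [mul_smul]) (by simp [mul_smul])))
  ker h hh e := F.ker h hh (by simpa using e)
  efl i := ⟨_, F.rH (g.π⁻¹ i), by simp [cj_fl]⟩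
  card := F.card ▸ Nat.card_congr ((MulAut.conj g⁻¹).toEquiv.subtypeEquiv fun x => and_congr
    (by simpa using (Normal.mem_comm_iff (inferInstance : Bs.Normal) (a := g⁻¹ * x) (b := g)).trans (by simp) |>.symm)
    (exists_congr fun h => and_congr_right fun _ => by
      show _ ↔ _ = g⁻¹ * x * g⁻¹⁻¹
      constructor <;> intro e
      · rw [← e]; group
      · rw [e]; group))

theorem rb_φ (g : Wr) (q : He) : (F.rb g).φ q = F.φ ⟨g⁻¹ • q.v, q.c⟩ := rfl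
theorem rb_M (g : Wr) (h : G) : (F.rb g).M h = g * F.M h * g⁻¹ := rfl
theorem rb_y (g : Wr) (h : G) : (F.rb g).y h = g • F.y h := rfl

end Fr

end CL.F3
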