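import Mathlib
import Cfsg.Agent.PERM.F3.Def

/-! The image of the three-centralizer in `SL(2, 3) ≀ S₃`. -/

set_option autoImplicit false
set_option linter.unusedSectionVars false
set_option synthInstance.maxSize 8192
set_option maxRecDepth 100000
open Subgroup CL.McL3 CL.MSS CL.C3 QuaternionGroup Equiv Cfsg
open CL.Odd hiding e3

namespace CL.F3

/-- central quaternions -/
abbrev Cn (q : Q8) : Prop := q = 1 ∨ q = a 2

theorem cj_bs (g : Wr) (x : Fin 3 → Q8) :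
    g * bs x * g⁻¹ = bs fun j => g.a j * sk (g.k j) (x (g.π⁻¹ j)) * (g.a j)⁻¹ := by
  refine Wr.ext (funext fun j => ?_) (funext fun j => ?_) ?_ <;> simp [bs, ← sk_add]

theorem bs_inv (x : Fin 3 → Q8) : (bs x)⁻¹ = bs x⁻¹ := by ext <;> simp [bs]
theorem bs_inj : Function.Injective bs := fun _ _ e => congrArg Wr.a e

theorem q_cn : ∀ (c x : Q8) (k : Z3), (Cn (c * sk k x * c⁻¹) ↔ Cn x) ∧
    (Cn (c * sk k x * c⁻¹ * x⁻¹) ↔ k = 0 ∨ Cn x) ∧
    (Cn (x * (c * sk k x * c⁻¹) * (c * sk k (c * sk k x * c⁻¹) * c⁻¹)) ↔ k ≠ 0 ∨ Cn x) := by decide +kernel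
theorem q_gen : ∀ (c x : Q8) (k : Z3), k ≠ 0 → ¬ Cn x → ∀ p, Cn p ∨ Cn (p * x) ∨
    Cn (p * (c * sk k x * c⁻¹)) ∨ Cn (p * (x * (c * sk k x * c⁻¹))) := by decide +kernel
theorem cn_mul : ∀ x y : Q8, Cn x → (Cn (x * y) ↔ Cn y) ∧ (Cn (y * x) ↔ Cn y) := by decide +kernel
theorem cn_inv : ∀ x : Q8, Cn x⁻¹ ↔ Cn x := by decide +kernel
@[simp] theorem cn_one : Cn 1 := .inl rfl

/-- the properties of the image -/
structure HW (B : Subgroup Wr) : Prop where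
  fl : ∀ i, fl i ∈ B
  card : Nat.card (B ⊓ Bs : Subgroup Wr) = 128
  o3 : ∀ g ∈ B, g ^ 3 = 1 → B ≤ cz g → g = 1

/-- some element of the base group is not central in the component `i` -/
def Nz (B : Subgroup Wr) (i : Fin 3) : Prop := ∃ x, bs x ∈ B ∧ ¬ Cn (x i)
/-- and central in all other components -/
def Li (B : Subgroup Wr) (i : Fin 3) : Prop := ∃ x, bs x ∈ B ∧ ¬ Cn (x i) ∧ ∀ j ≠ i, Cn (x j)

variable {B : Subgroup Wr}

theorem Nz.cj {i : Fin 3} (h : Nz B i) {g : Wr} (hg : g ∈ B) : Nz B (g.π i) :=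
  let ⟨x, h1, h2⟩ := h
  ⟨_, cj_bs g x ▸ mul_mem (mul_mem hg h1) (inv_mem hg), by simpa [(q_cn _ _ _).1] using h2⟩
theorem Li.cj {i : Fin 3} (h : Li B i) {g : Wr} (hg : g ∈ B) : Li B (g.π i) :=
  let ⟨x, h1, h2, h3⟩ := h
  ⟨_, cj_bs g x ▸ mul_mem (mul_mem hg h1) (inv_mem hg), by simpa [(q_cn _ _ _).1] using h2, fun j hj =>
    (q_cn _ _ _).1.2 (h3 _ fun e => hj (by simp [← e]))⟩

theorem Nz.li {i : Fin 3} (h : Nz B i) {g : Wr} (hg : g ∈ B) (h1 : g.π = 1) (h2 : g.k i ≠ 0)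
    (h3 : ∀ j ≠ i, g.k j = 0) : Li B i := by
  obtain ⟨x, k1, k2⟩ := h
  have := mul_mem (mul_mem (mul_mem hg k1) (inv_mem hg)) (inv_mem k1)
  rw [cj_bs, bs_inv, ← bs_mul, h1] at this
  exact ⟨_, this, fun e => ((q_cn _ _ _).2.1.1 e).elim h2 k2, fun j hj => (q_cn _ _ _).2.1.2 (.inl (h3 j hj))⟩

theorem Nz.li' {i : Fin 3} (h : Nz B i) {g : Wr} (hg : g ∈ B) (h1 : g.π = 1) (h2 : g.k i = 0)
    (h3 : ∀ j ≠ i, g.k j ≠ 0) : Li B i := by
  obtain ⟨x, k1, k2⟩ := h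
  have k3 := mul_mem (mul_mem hg k1) (inv_mem hg)
  have := mul_mem (mul_mem k1 k3) (mul_mem (mul_mem hg k3) (inv_mem hg))
  rw [cj_bs, cj_bs, ← bs_mul, ← bs_mul, h1] at this
  exact ⟨_, this, fun e => ((q_cn _ _ _).2.2.1 e).elim (· h2) k2, fun j hj => (q_cn _ _ _).2.2.2 (.inl (h3 j hj))⟩

theorem card_bs (p : (Fin 3 → Q8) → Prop) (h : ∀ x, bs x ∈ B ↔ p x) :
    Nat.card (B ⊓ Bs : Subgroup Wr) = Nat.card {x // p x} :=
  card_of (fun x : {x // p x} => bs x) (bs_inj.comp Subtype.val_injective) fun g =>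
    ⟨fun k => ⟨⟨g.a, (h _).1 (eq_bs k.2 ▸ k.1)⟩, (eq_bs k.2).symm⟩, fun ⟨x, e⟩ => e ▸ ⟨(h _).2 x.2, bs_mem _⟩⟩

namespace HW
variable (h : HW B)
include h

theorem cen {x : Fin 3 → Q8} (hx : ∀ j, Cn (x j)) : bs x ∈ B := by
  have k : ∀ x : Fin 3 → Q8, (∀ j, Cn (x j)) → bs x = (if x 0 = 1 then 1 else F3.fl 0) *
    (if x 1 = 1 then 1 else F3.fl 1) * if x 2 = 1 then 1 else F3.fl 2 := by decide +kernel
  rw [k x hx]
  refine mul_mem (mul_mem ?_ ?_) ?_ <;> split_ifs <;> first | exact one_mem _ | exact h.fl _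

theorem cen' {x y : Fin 3 → Q8} (hy : bs y ∈ B) (hx : ∀ j, Cn (x j * y j)) : bs x ∈ B := by
  have := mul_mem (h.cen hx) (inv_mem hy)
  rwa [bs_inv, ← bs_mul, show (fun j => x j * y j) * y⁻¹ = x from funext fun j => by simp] at this

theorem all_i {i : Fin 3} (l : Li B i) {g : Wr} (hg : g ∈ B) (h1 : g.π = 1) (h2 : g.k i ≠ 0) (p : Q8) :
    bs (Pi.mulSingle i p) ∈ B := by
  obtain ⟨x, k1, k2, k3⟩ := l
  have k4 := mul_mem (mul_mem hg k1) (inv_mem hg)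
  rw [cj_bs, h1] at k4
  have k5 : ∀ j ≠ i, Cn (g.a j * sk (g.k j) (x j) * (g.a j)⁻¹) := fun j hj => (q_cn _ _ _).1.2 (k3 j hj)
  rcases q_gen (g.a i) (x i) _ h2 k2 p with e | e | e | e
  · exact h.cen fun j => by by_cases hj : j = i <;> simp [hj, e]
  · exact h.cen' k1 fun j => by by_cases hj : j = i <;> simp [hj, e, k3]
  · exact h.cen' k4 fun j => by by_cases hj : j = i <;> simp [hj, e, k5]
  · have k6 := mul_mem k1 k4
    rw [← bs_mul] at k6
    refine h.cen' k6 fun j => ?_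
    by_cases hj : j = i
    · simpa [hj] using e
    · simpa [hj] using (cn_mul _ _ (k3 j hj)).1.2 (k5 j hj)

theorem not_all (k : ∀ i p, bs (Pi.mulSingle i p) ∈ B) : False := by
  have := h.card.symm.trans (card_bs (fun _ => True) fun x => iff_of_true (by
    have := mul_mem (mul_mem (k 0 (x 0)) (k 1 (x 1))) (k 2 (x 2))
    rwa [← bs_mul, ← bs_mul, show _ * _ * _ = x from funext fun j => by fin_cases j <;> simp] at this) trivial)
  simp [QuaternionGroup.card] at this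

theorem nz : ∃ i, Nz B i := by_contra fun k => by
  have := h.card.symm.trans (card_bs (fun x => ∀ j, Cn (x j)) fun x =>
    ⟨fun e j => by_contra fun n => k ⟨j, x, e, n⟩, h.cen⟩)
  rw [Nat.card_eq_fintype_card] at this
  revert this; decide +kernel

/-- if the factors are permuted transitively, diagonal elements are free -/
theorem full_k {s g : Wr} (hs : s ∈ B) (h0 : s.π = sh) (hg : g ∈ B) (h1 : g.π = 1) (h2 : g.k ≠ 0) (j : Fin 3) :
    g.k j ≠ 0 := fun h3 => by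
  have all : ∀ {p : Fin 3 → Prop}, (∀ i, p i → p (sh i)) → (∃ i, p i) → ∀ i, p i := fun k ⟨i, e⟩ j => by
    have : ∀ i j : Fin 3, j = i ∨ j = sh i ∨ j = sh (sh i) := by decide
    rcases this i j with rfl | rfl | rfl
    exacts [e, k _ e, k _ (k _ e)]
  have n := all (fun i (k : Nz B i) => h0 ▸ k.cj hs) h.nz
  have l := all (fun i (k : Li B i) => h0 ▸ k.cj hs) (by
    have : ∀ (k : Fin 3 → Z3) (j : Fin 3), k ≠ 0 → k j = 0 → (∀ i ≠ j, k i ≠ 0) ∨ ∃ i, k i ≠ 0 ∧ ∀ l ≠ i, k l = 0 := by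
      decide +kernel
    rcases this _ j h2 h3 with e | ⟨i, e, e'⟩
    exacts [⟨j, (n j).li' hg h1 h3 e⟩, ⟨i, (n i).li hg h1 e e'⟩])
  have d := all (p := fun i => ∃ g ∈ B, g.π = 1 ∧ g.k i ≠ 0) (fun i ⟨g, k1, k2, k3⟩ =>
    ⟨_, mul_mem (mul_mem hs k1) (inv_mem hs), by simp [k2], by simpa [k2, h0] using k3⟩)
    (by obtain ⟨i, e⟩ := Function.ne_iff.1 h2; exact ⟨i, g, hg, h1, e⟩)
  exact h.not_all fun i p => let ⟨_, k1, k2, k3⟩ := d i; h.all_i (l i) k1 k2 k3 p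

theorem wt1 {i : Fin 3} (hg : un (Pi.single i 1) 0 ∈ B) : Nz B i := by_contra fun n => by
  have k1 : ∀ x, bs x ∈ B → Cn (x i) := fun x e => by_contra fun k => n ⟨x, e, k⟩
  have k2 : ∀ x : Fin 3 → Q8, Cn (x i) → bs x ∈ B := fun x hx => by
    have e := h.card.symm.trans (card_bs (fun x => bs x ∈ B) fun _ => Iff.rfl)
    have e' : Nat.card {x : Fin 3 → Q8 // Cn (x i)} = 128 := by
      rw [Nat.card_eq_fintype_card]; clear * -; revert i; decide +kernel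
    exact (Set.eq_of_subset_of_ncard_le (s := {x | bs x ∈ B}) (t := {x | Cn (x i)}) k1
      (e'.trans e).le (Set.toFinite _)).ge hx
  refine absurd (h.o3 _ hg (by clear * -; revert i; decide +kernel) fun x hx => ?_) (by clear * -; revert i; decide +kernel)
  have k3 : x.π⁻¹ i = i := by_contra fun e => by
    have := k1 _ (cj_bs x _ ▸ mul_mem (mul_mem hx (k2 (Pi.mulSingle (x.π⁻¹ i) (a 1)) (by rw [Pi.mulSingle_eq_of_ne' e]; exact cn_one))) (inv_mem hx))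
    rw [(q_cn _ _ _).1, Pi.mulSingle_eq_same] at this
    revert this; decide
  have k4 : ∀ j, (Pi.single i 1 : Fin 3 → Z3) (x.π⁻¹ j) = (Pi.single i 1 : Fin 3 → Z3) j := fun j => by
    by_cases e : j = i
    · rw [e, k3]
    · rw [Pi.single_eq_of_ne e, Pi.single_eq_of_ne fun e' => e (x.π⁻¹.injective (e'.trans k3.symm))]
  have k5 : x * un (Pi.single i 1) 0 * x⁻¹ * (un (Pi.single i 1) 0)⁻¹ =
      bs fun j => x.a j * sk ((Pi.single i 1 : Fin 3 → Z3) j) (x.a j)⁻¹ := by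
    simp only [Perm.coe_inv] at k4
    refine Wr.ext (funext fun j => ?_) (funext fun j => ?_) ?_ <;> simp [un, bs, ← sk_add, k4]
  have k6 := k1 _ (k5 ▸ mul_mem (mul_mem (mul_mem hx hg) (inv_mem hx)) (inv_mem hg))
  rw [mem_cz, ← mul_inv_eq_one, k5]
  refine congrArg bs (funext fun j => ?_)
  by_cases e : j = i
  · simp only [e, Pi.single_eq_same, Pi.one_apply] at k6 ⊢
    revert k6; generalize x.a i = y; revert y; decide +kernel
  · simp [e]

theorem cj (g : Wr) : HW (g •ᶜ B) where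
  fl i := by simpa [cj_fl] using conj_mem_cj (g := g) (h.fl (g.π⁻¹ i))
  card := by rw [← cj_eq_of_normal g Bs, ← cj_inf, card_cj, h.card]
  o3 x hx h3 k := by
    obtain ⟨x, hx', rfl⟩ := mem_cj'.1 hx
    rw [cz_cj, cj_le_cj_iff] at k
    rw [h.o3 x hx' (by simpa [conj_pow] using h3) k]; simp

theorem nine0 {S : Subgroup Wr} (h1 : S ≤ B) (h2 : S ≤ Un) : Nat.card S ≤ 9 := by
  have k0 : ∀ n : Z3, sh ^ n.val = 1 → n = 0 := by decide
  by_cases hs : ∃ s ∈ S, s.π = sh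
  · obtain ⟨s, hs, e⟩ := hs
    refine (Nat.card_le_card_of_injective (fun x : S => (x.1.k 0, x.1.π 0)) fun x y e' => ?_).trans (by simp)
    obtain ⟨k, n, e1⟩ := h2 (mul_mem x.2 (inv_mem y.2))
    obtain ⟨k1, n1, e2⟩ := h2 x.2
    obtain ⟨k2, n2, e3⟩ := h2 y.2
    simp only [e2, e3, Prod.mk.injEq] at e'
    obtain rfl : n1 = n2 := (show ∀ m n : Z3, (sh ^ m.val) 0 = (sh ^ n.val) 0 → m = n by decide) _ _ e'.2
    have e4 : (x.1 * y.1⁻¹).π = 1 := by simp [e2, e3, un]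
    refine Subtype.ext (mul_inv_eq_one.1 (by_contra fun ne => h.full_k (h1 hs) e
      (h1 (mul_mem x.2 (inv_mem y.2))) e4 (fun e5 => ne ?_) 0 ?_))
    · rw [e1] at e4 e5 ⊢
      rw [k0 n e4, show k = 0 from e5]; rfl
    · simpa [e2, e3, un, add_neg_eq_zero] using e'.1
  · have k1 : ∀ x ∈ S, x = un x.k 0 := fun x hx => by
      obtain ⟨k, n, rfl⟩ := h2 hx
      have : ∀ n : Z3, n = 0 ∨ sh ^ n.val = sh ∨ (sh ^ n.val)⁻¹ = sh := by decide
      rcases this n with rfl | e | e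
      exacts [rfl, (hs ⟨_, hx, e⟩).elim, (hs ⟨_, inv_mem hx, e⟩).elim]
    have inj : Function.Injective fun x : S => x.1.k := fun x y e =>
      Subtype.ext ((k1 _ x.2).trans ((congrArg (un · 0) e).trans (k1 _ y.2).symm))
    have c := Nat.card_le_card_of_injective _ inj
    obtain ⟨m, hm, e⟩ := (Nat.dvd_prime_pow Nat.prime_three).1 (card_Un ▸ card_dvd_of_le h2)
    by_contra n
    have sur := (inj.bijective_of_nat_card_le (by
      rw [e, show Nat.card (Fin 3 → Z3) = 27 by simp] at *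
      interval_cases m <;> omega)).2
    refine h.not_all fun i => ?_
    obtain ⟨x, e⟩ := sur (Pi.single i 1)
    have := h1 x.2
    rw [k1 _ x.2, show x.1.k = _ from e] at this
    exact h.all_i ((h.wt1 this).li this rfl (by simp [un]) fun j hj => by simp [un, hj]) this rfl (by simp [un])

theorem nine {S : Subgroup Wr} (h1 : S ≤ B) (h2 : IsPGroup 3 S) : Nat.card S ≤ 9 := by
  obtain ⟨g, -, e⟩ := syl_Un.exists_conj_le h2 le_top
  exact card_cj g S ▸ (h.cj g).nine0 (cj_mono g h1) e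

end HW

/-- the form as a bilinear form -/
def ωB : LinearMap.BilinForm Z3 V := LinearMap.mk₂ Z3 ω ω_add_left ω_smul_left ω_add_right ω_smul_right

theorem iso27 {U : AddSubgroup V} (h : ∀ u ∈ U, ∀ v ∈ U, ω u v = 0) : Nat.card U ≤ 27 := by
  let W := AddSubgroup.toZModSubmodule 3 U
  have h1 := LinearMap.BilinForm.finrank_orthogonal (B := ωB) ⟨fun v e => ω_nd e, fun v e => ω_nd fun u => by
    rw [ω_comm, show ω u v = 0 from e u, neg_zero]⟩ W
  have h2 := Submodule.finrank_mono (show W ≤ ωB.orthogonal W from fun v hv u hu => h u hu v hv)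
  have h3 : Module.finrank (ZMod 3) V = 6 := by simp [Module.finrank_pi_fintype]
  have h4 := Module.natCard_eq_pow_finrank (K := ZMod 3) (V := W)
  rw [show Nat.card U = Nat.card W from rfl, h4, Nat.card_zmod]
  rw [h1, h3] at h2
  exact Nat.pow_le_pow_right (n := 3) (j := 3) (by decide) (by have : Module.finrank (ZMod 3) W ≤ 6 - Module.finrank (ZMod 3) W := h2; omega)

theorem dbl {x u : V} (h : ∀ v, ω x v = 0 → ω u v = 0) : ∃ c : Z3, u = c • x := by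
  by_cases hx : x = 0
  · exact ⟨0, by simpa using ω_nd fun v => h v (by simp [hx])⟩
  obtain ⟨w, hw⟩ : ∃ w, ω x w = 1 := by
    obtain ⟨w, hw⟩ := not_forall.1 (mt ω_nd hx)
    exact ⟨ω x w • w, by simpa using (show ∀ c : Z3, c ≠ 0 → c * c = 1 by decide) _ hw⟩
  refine ⟨ω u w, sub_eq_zero.1 (ω_nd fun v => ?_)⟩
  have := h (v - ω x v • w) (by simp [hw])
  simpa [mul_comm] using this

variable {G : Type*} [Group G] [Finite G]

theorem card_ker {X : Type*} [Group X] {S N : Subgroup G} (f : S →* X) (h : f.ker = N.subgroupOf S) :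
    Nat.card S = Nat.card f.range * Nat.card (S ⊓ N : Subgroup G) := by
  rw [← index_ker, h, inf_comm, ← subgroupOf_map_subtype, card_map_of_injective S.subtype_injective, index_mul_card]

namespace Fr
variable {z : G} (F : Fr z)
include F

theorem hw : HW F.Hb where
  fl i := F.mem_Hb.2 (F.efl i)
  card := F.card ▸ Nat.card_congr (Equiv.subtypeEquivRight fun _ => and_comm.trans (and_congr_right fun _ => F.mem_Hb))
  o3 g hg h3 k := by
    obtain ⟨x, hx, rfl⟩ := F.mem_Hb.1 hg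
    let N := ((zpowers (F.M x)).comap F.Mh).map (cz z).subtype
    have m : ∀ y, y ∈ N ↔ y ∈ cz z ∧ F.M y ∈ zpowers (F.M x) := fun y =>
      ⟨by rintro ⟨y, e, rfl⟩; exact ⟨y.2, e⟩, fun e => ⟨⟨y, e.1⟩, e.2, rfl⟩⟩
    refine F.M_Q (PComp.le_pCoreOf (N := N) (map_subtype_le _) (fun g hg => Tr.mem_normalizer_of_conj_mem fun y hy =>
      (m _).2 ⟨F.cjH hg ((m _).1 hy).1, ?_⟩) (isPGroup_iff_forall_mem.2 fun y hy => ⟨2, ?_⟩)
      ((m _).2 ⟨hx, mem_zpowers _⟩))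
    · obtain ⟨h1, n, h2⟩ := (m _).1 hy
      rw [F.M_cj hg h1, ← h2, ← conj_zpow, mem_cz.1 (k (F.M_mem hg))]
      exact ⟨n, rfl⟩
    · obtain ⟨h1, n, h2⟩ := (m _).1 hy
      rw [pow_two, pow_mul]
      refine F.Q3 (F.ker _ (pow_mem h1 _) ?_)
      rw [F.M_pow h1, ← h2, ← zpow_natCast, ← zpow_mul, mul_comm, zpow_mul, zpow_natCast, h3, one_zpow]

/-- images of subgroups -/
def im (S : Subgroup G) : Subgroup Wr := (S.subgroupOf (cz z)).map F.Mh

theorem mem_im {S : Subgroup G} (hS : S ≤ cz z) {g : Wr} : g ∈ F.im S ↔ ∃ h ∈ S, F.M h = g :=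
  ⟨fun ⟨h, k, e⟩ => ⟨h, k, e⟩, fun ⟨h, k, e⟩ => ⟨⟨h, hS k⟩, k, e⟩⟩
theorem im_le (S : Subgroup G) : F.im S ≤ F.Hb := map_le_range _ _
theorem p_im {p : ℕ} {S : Subgroup G} (h : IsPGroup p S) : IsPGroup p (F.im S) := (isPGroup_subgroupOf h _).map _

theorem card_im {S : Subgroup G} (hS : S ≤ cz z) :
    Nat.card S = Nat.card (F.im S) * Nat.card (S ⊓ QO z : Subgroup G) := by
  let f : S →* Wr := F.Mh.comp (inclusion hS)
  have h1 : f.range = F.im S := ext fun g => by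
    rw [F.mem_im hS]; exact ⟨fun ⟨x, e⟩ => ⟨x, x.2, e⟩, fun ⟨x, k, e⟩ => ⟨⟨x, k⟩, e⟩⟩
  have h2 : f.ker = (QO z).subgroupOf S := ext fun x => ⟨F.ker _ (hS x.2), F.M_Q⟩
  rw [← h1, card_ker f h2]

theorem nine {S : Subgroup G} (hS : S ≤ cz z) (h : IsPGroup 3 S) :
    Nat.card S ≤ 9 * Nat.card (S ⊓ QO z : Subgroup G) :=
  (F.card_im hS).le.trans (Nat.mul_le_mul_right _ (F.hw.nine (F.im_le S) (F.p_im h)))

theorem norm {S : Subgroup G} (hS : S ≤ cz z) (h : IsPGroup 3 S) : ∃ g, ∀ x ∈ S, (F.rb g).M x ∈ Un := by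
  obtain ⟨g, -, e⟩ := syl_Un.exists_conj_le (F.p_im h) le_top
  exact ⟨g, fun x hx => e (conj_mem_cj ((F.mem_im hS).2 ⟨x, hx, rfl⟩))⟩

/-- images of subgroups of `Q` -/
def bar (A : Subgroup G) : AddSubgroup V where
  carrier := {v | ∃ c, F.φ ⟨v, c⟩ ∈ A}
  zero_mem' := ⟨0, (show F.φ 1 ∈ A by simp)⟩
  add_mem' := fun ⟨_, h⟩ ⟨_, k⟩ => ⟨_, (map_mul F.φ _ _ ▸ mul_mem h k :)⟩
  neg_mem' := fun ⟨_, h⟩ => ⟨_, (map_inv F.φ _ ▸ inv_mem h :)⟩

theorem mem_bar {A : Subgroup G} {v : V} : v ∈ F.bar A ↔ ∃ c, F.φ ⟨v, c⟩ ∈ A := Iff.rfl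

theorem card_bar {A : Subgroup G} (hA : A ≤ QO z) :
    Nat.card A = Nat.card (F.bar A) * Nat.card (A ⊓ zpowers z : Subgroup G) := by
  let f : A →* Multiplicative V := MonoidHom.mk' (fun x => .ofAdd (F.y x)) fun x y => by
    simp [F.y_mul (QO_le z (hA x.2)) (QO_le z (hA y.2)), F.M_Q (hA x.2)]
  have h1 : f.range = (F.bar A).toSubgroup := ext fun g => ⟨fun ⟨x, e⟩ => by
      obtain ⟨q, k⟩ := F.exq (hA x.2)
      exact ⟨q.c, by rw [← e]; simp [f, ← k]; exact k ▸ x.2⟩, fun ⟨c, k⟩ => ⟨⟨_, k⟩, by simp [f]⟩⟩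
  have h2 : f.ker = (zpowers z).subgroupOf A := ext fun x =>
    ⟨fun e => F.memZ (QO_le z (hA x.2)) (F.M_Q (hA x.2)) e, fun e => congrArg Multiplicative.ofAdd (F.y_Z e)⟩
  rw [card_ker f h2, h1]; rfl

theorem iso_bar {A : Subgroup G} (h : ∀ a ∈ A, A ≤ cz a) : ∀ u ∈ F.bar A, ∀ v ∈ F.bar A, ω u v = 0 :=
  fun _ ⟨_, hu⟩ _ ⟨_, hv⟩ => (F.comm_φφ.1 (h _ hu hv) :)

theorem ab81 {A : Subgroup G} (hA : A ≤ QO z) (h : ∀ a ∈ A, A ≤ cz a) :
    Nat.card A ≤ 27 * Nat.card (A ⊓ zpowers z : Subgroup G) :=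
  (F.card_bar hA).le.trans (Nat.mul_le_mul_right _ (iso27 (F.iso_bar h)))

end Fr

end CL.F3
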