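import Mathlib
import Cfsg.Agent.PERM.F3.HW

/-! The centre of `Q` is not weakly closed in `Q`. -/

set_option autoImplicit false
set_option linter.unusedSectionVars false
set_option synthInstance.maxSize 8192
set_option maxRecDepth 100000
open Subgroup CL.McL3 CL.MSS CL.C3 QuaternionGroup Equiv Cfsg
open CL.Odd hiding e3

namespace CL.F3

variable {G : Type*} [Group G] [Finite G]

theorem σ_smul (v : V) : σ • v = ![v 2, v 0, v 1] := funext fun j => by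
  fin_cases j <;> simp [σ, un_smul] <;> rfl
theorem δ_smul (v : V) (j : Fin 3) : (δ • v) j = ((v j).1 + (v j).2, (v j).2) := by simp [δ, un0_smul]
theorem to_σ : ∀ k n, n ≠ 0 → un k n ^ 3 = 1 → ∃ m, un m 0 * un k n * (un m 0)⁻¹ = σ ∨
    un m 0 * (un k n)⁻¹ * (un m 0)⁻¹ = σ := by decide +kernel
theorem un_one : un 0 0 = 1 := rfl
/-- minus one -/
def m1 : Wr := fl 0 * fl 1 * fl 2
theorem m1_smul (v : V) : m1 • v = -v := funext fun j => by fin_cases j <;> simp [m1, mul_smul, fl_smul]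
theorem m1_comm (g : Wr) : g * m1 = m1 * g := ext_smul fun v => by simp [mul_smul, m1_smul]

theorem QO_inv (x : G) : QO x⁻¹ = QO x := by
  rw [QO, show cz x⁻¹ = cz x from ext fun g => by rw [mem_cz_comm, inv_mem_iff, mem_cz_comm]]

/-- commuting conjugates -/
structure Pair (z x : G) : Prop where
  cj : IsConj z x
  cm : x ∈ cz z
  nz : x ∉ zpowers z

/-- weak closure -/
def WQ (z : G) : Prop := ∀ x, IsConj z x → x ∈ QO z → x ∈ zpowers z

theorem WQ.cj {z x : G} (h : WQ z) (e : IsConj z x) : WQ x := fun y hy k => by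
  obtain ⟨g, rfl⟩ := isConj_iff.1 e
  rw [QO_cj, mem_cj] at k
  rw [← cj_zpowers, mem_cj]
  exact h _ ((e.trans hy).trans (isConj_iff.2 ⟨g⁻¹, by simp⟩)) k

theorem Pair.conj {z x h : G} (p : Pair z x) (hh : h ∈ cz z) : Pair z (h * x * h⁻¹) :=
  ⟨p.cj.trans (isConj_iff.2 ⟨h, rfl⟩), mul_mem (mul_mem hh p.cm) (inv_mem hh), fun e => p.nz (by
    rwa [← mem_cz.1 hh, ← cj_zpowers, conj_mem_cj_iff] at e)⟩

namespace Fr
variable {z x : G} (F : Fr z)
include F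

theorem exF (e : IsConj z x) : Nonempty (Fr x) := by
  obtain ⟨g, rfl⟩ := isConj_iff.1 e; exact ⟨F.cj g⟩
theorem x3 (e : IsConj z x) : x ^ 3 = 1 := (F.exF e).some.z3
theorem xQ (e : IsConj z x) : x ∈ QO x := (F.exF e).some.zQ

theorem symm (p : Pair z x) : Pair x z := ⟨p.cj.symm, mem_cz_comm.1 p.cm, fun e => p.nz (by
  rcases (mem_zpowers_three (F.x3 p.cj)).1 e with e | e | e
  exacts [(F.z1 e).elim, e ▸ mem_zpowers _, by rw [e, zpowers_inv]; exact mem_zpowers _])⟩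

theorem c0 (h : z ∉ QO x) {c : Z3} (e : F.φ ⟨0, c⟩ ∈ QO x) : c = 0 := by_contra fun n => h (by
  have : ∀ c : Z3, c ≠ 0 → (⟨0, 1⟩ : He) = ⟨0, c⟩ ∨ (⟨0, 1⟩ : He) = (⟨0, c⟩ : He)⁻¹ := by decide
  rcases this c n with k | k <;> have := F.hz <;> rw [k] at this <;> rw [← this]
  exacts [e, map_inv F.φ _ ▸ inv_mem e])

theorem EZ (h : z ∉ QO x) : (QO z ⊓ QO x) ⊓ zpowers z = ⊥ := eq_bot_iff.2 fun g hg => by
  obtain ⟨c, rfl⟩ := F.exz hg.2
  rw [F.c0 h hg.1.2]; exact map_one F.φ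

/-- the central inversion -/
noncomputable def w : G := F.r 0 * F.r 1 * F.r 2

theorem wH : F.w ∈ cz z := mul_mem (mul_mem (F.rH _) (F.rH _)) (F.rH _)
theorem M_w : F.M F.w = m1 := by simp [w, F.M_mul, mul_mem, F.rH, m1]
theorem y_w : F.y F.w = 0 := by simp [w, F.y_mul, mul_mem, F.rH]
theorem w2' : F.w * F.w = 1 := by
  have c : ∀ i j, Commute (F.r i) (F.r j) := fun i j => mem_cz'.1 (F.rr i j)
  rw [w, ((c 0 2).mul_left (c 1 2)).symm.mul_mul_mul_comm, (c 1 0).mul_mul_mul_comm, r2, r2, r2]; simp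
theorem comm_w {h : G} (hh : h ∈ cz z) : h ∈ cz F.w ↔ F.y h = 0 := by
  refine ⟨fun e => ?_, fun e => F.comm_of hh F.wH ((pow_two _).trans F.w2') (by decide) (by rw [M_w, m1_comm])
    (by simp [e, y_w])⟩
  have h2 := F.y_mul hh F.wH
  rw [mem_cz'.1 e, F.y_mul F.wH hh, y_w, M_w, m1_smul] at h2
  exact funext fun j => (show ∀ p : P2, -p = p → p = 0 by decide) _ (by simpa using congrFun h2 j)
theorem act_w (q : He) : F.w * F.φ q * F.w⁻¹ = F.φ ⟨-q.v, q.c⟩ := by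
  rw [F.act _ F.wH, M_w, y_w]; exact congrArg _ (He.ext (m1_smul _) (by simp))
theorem act0 {h : G} (hh : h ∈ cz z) (h0 : F.y h = 0) (q : He) : h * F.φ q * h⁻¹ = F.φ ⟨F.M h • q.v, q.c⟩ := by
  rw [F.act _ hh, h0]; exact congrArg _ (He.ext rfl (by simp))

theorem c0' (h : z ∉ QO x) (hx : x ∈ cz z) (h0 : F.y x = 0) {q : He} (e : F.φ q ∈ QO x) : q.c = 0 := by
  have := mul_mem e (QO_conj (mem_cz_comm.1 ((F.comm_w hx).2 h0)) e)
  rw [act_w, ← map_mul, show q * ⟨-q.v, q.c⟩ = ⟨0, q.c + q.c⟩ from He.ext (by simp) (by simp)] at this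
  exact (show ∀ c : Z3, c + c = 0 → c = 0 by decide) _ (F.c0 h this)

theorem cmt (hx : x ∈ cz z) (v : V) : F.φ ⟨v, 0⟩ * x * (F.φ ⟨v, 0⟩)⁻¹ =
    F.φ ⟨v - F.M x • v, ω v (F.M x • v) - ω (F.y x) (F.M x • v)⟩ * x := by
  rw [← mul_inv_eq_iff_eq_mul, ← map_inv, mul_assoc, mul_assoc, ← mul_assoc x, F.act x hx, ← map_mul]
  refine congrArg _ (He.ext (by simp [sub_eq_add_neg]) ?_)
  simp
  generalize ω v _ = a; generalize ω (F.y x) _ = b; revert a b; decide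

theorem DE (e : IsConj z x) :
    Nat.card (QO z ⊓ cz x : Subgroup G) ≤ 9 * Nat.card (QO z ⊓ QO x : Subgroup G) := by
  simpa only [inf_assoc, inf_eq_right.2 (QO_le x)] using
    (F.exF e).some.nine (S := QO z ⊓ cz x) inf_le_right ((pQO z).to_le inf_le_left)

theorem pig (e : IsConj z x) (hx : x ∈ cz z) (h : z ∉ QO x) {u v : V} (hu : F.φ ⟨u, 0⟩ ∈ cz x)
    (hv : F.φ ⟨v, 0⟩ ∈ cz x) : ∃ i j : Z3, ¬ (i = 0 ∧ j = 0) ∧ i • u + j • v ∈ F.bar (QO x) := by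
  obtain ⟨F'⟩ := F.exF e
  have m : ∀ p : Z3 × Z3 × Z3, F.φ ⟨p.1 • u + p.2.1 • v, p.2.2⟩ ∈ cz x := fun p => by
    rw [F.comm_φ hx] at hu hv ⊢
    simp only at hu hv
    simp [smul_c, hu.1, hu.2, hv.1, hv.2]
  have := Fintype.ofFinite (F'.im (QO z ⊓ cz x))
  obtain ⟨p, q, n, k⟩ := Fintype.exists_ne_map_eq_of_card_lt (fun p => (⟨_, (F'.mem_im inf_le_right).2
    ⟨_, ⟨F.φQ _, m p⟩, rfl⟩⟩ : F'.im (QO z ⊓ cz x))) (by
      have := F'.hw.nine (F'.im_le _) (F'.p_im (S := QO z ⊓ cz x) ((pQO z).to_le inf_le_left))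
      rw [Nat.card_eq_fintype_card] at this
      simp; omega)
  have k2 := F'.ker _ (mul_mem (m p) (inv_mem (m q))) (by
    rw [F'.M_mul (m p) (inv_mem (m q)), F'.M_inv (m q), show F'.M _ = F'.M _ from congrArg Subtype.val k, mul_inv_cancel])
  rw [← map_inv, ← map_mul] at k2
  refine ⟨p.1 - q.1, p.2.1 - q.2.1, fun ⟨e1, e2⟩ => n ?_, _, by convert k2 using 2; exact He.ext (by simp [sub_smul]; abel) rfl⟩
  rw [sub_eq_zero] at e1 e2
  rw [e1, e2, show (⟨_, p.2.2⟩ : He) * (⟨_, q.2.2⟩ : He)⁻¹ = ⟨0, p.2.2 - q.2.2⟩ from He.ext (by simp)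
    (by simp only [mul_c, inv_c, inv_v, ω_neg_right, ω_self]; ring)] at k2
  exact Prod.ext e1 (Prod.ext e2 (sub_eq_zero.1 (F.c0 h k2)))

theorem DE0 (h : z ∉ QO x) {p q : He} (hp : F.φ p ∈ cz x) (hq : F.φ q ∈ QO x) : ω p.v q.v = 0 := by
  have := mul_mem (QO_conj hp hq) (inv_mem hq)
  rw [← map_inv, ← map_inv, ← map_mul, ← map_mul, ← map_mul, He.cj,
    show au p.v 1 q * q⁻¹ = ⟨0, ω p.v q.v⟩ from He.ext (by simp) (by simp)] at this
  exact F.c0 h this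

theorem isoD (e : IsConj z x) (hx : x ∈ cz z) (h : z ∉ QO x) {u v : V} (hu : F.φ ⟨u, 0⟩ ∈ cz x)
    (hv : F.φ ⟨v, 0⟩ ∈ cz x) : ω u v = 0 := by_contra fun n => by
  obtain ⟨i, j, h1, c, h2⟩ := F.pig e hx h hu hv
  have k1 := F.DE0 h hu h2
  have k2 := F.DE0 h hv h2
  simp [n, ω_comm v u] at k1 k2
  exact h1 ⟨k2, k1⟩

theorem abD (e : IsConj z x) (hx : x ∈ cz z) (h : z ∉ QO x) {a b : G} (ha : a ∈ QO z ⊓ cz x) (hb : b ∈ QO z ⊓ cz x) :
    a ∈ cz b := by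
  obtain ⟨p, rfl⟩ := F.exq ha.1
  obtain ⟨q, rfl⟩ := F.exq hb.1
  exact F.comm_φφ.2 (F.isoD e hx h ((F.comm_φ hx).2 ((F.comm_φ hx).1 hb.2 :)) ((F.comm_φ hx).2 ((F.comm_φ hx).1 ha.2 :)))

theorem to_y0 (hx : x ∈ cz z) {u : V} (h : F.M x • u - u = F.y x) :
    F.y (F.φ ⟨u, 0⟩ * x * (F.φ ⟨u, 0⟩)⁻¹) = 0 := by rw [F.y_cjφ _ hx, ← h]; simp

theorem y_cube (hx : x ∈ cz z) (h3 : x ^ 3 = 1) : F.y x + F.M x • F.y x + F.M x • F.M x • F.y x = 0 := by
  have := F.y_mul hx (mul_mem hx hx)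
  rw [← pow_three, h3, F.y_mul hx hx, y_one] at this
  rw [this, smul_add, add_assoc]

theorem σ_y0 (hx : x ∈ cz z) (h3 : x ^ 3 = 1) (h : F.M x = σ) : ∃ u, F.M x • u - u = F.y x := by
  have := congrFun (F.y_cube hx h3) 0
  refine ⟨![0, -F.y x 1, -F.y x 1 - F.y x 2], funext fun j => ?_⟩
  simp only [h, σ_smul] at this ⊢
  have e : F.y x 0 + F.y x 2 + F.y x 1 = 0 := this
  fin_cases j <;> simp
  linear_combination (exp := 1) -e

theorem full_y0 {k : Fin 3 → Z3} (h : F.M x = un k 0) (hk : ∀ j, k j ≠ 0) (ht : ∀ j, (F.y x j).2 = 0) :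
    ∃ u, F.M x • u - u = F.y x := ⟨fun j => (0, k j * (F.y x j).1), funext fun j => Prod.ext (by
  simp [h, un0_smul, ← mul_assoc, (show ∀ c : Z3, c ≠ 0 → c * c = 1 by decide) _ (hk j)]) (by simp [h, un0_smul, ht])⟩

variable (W : WQ z) (p : Pair z x)
include W p

theorem zn : z ∉ QO x := fun e => (F.symm p).nz ((W.cj p.cj) z p.cj.symm e)
theorem xn : x ∉ QO z := fun e => p.nz (W x p.cj e)

theorem gam {v : V} (h : F.φ ⟨v - F.M x • v, ω v (F.M x • v) - ω (F.y x) (F.M x • v)⟩ ∈ QO x) : F.M x • v = v := by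
  have k := (W.cj p.cj) _ (isConj_iff.2 ⟨F.φ ⟨v, 0⟩, rfl⟩) (F.cmt p.cm v ▸ mul_mem h (F.xQ p.cj))
  obtain ⟨F'⟩ := F.exF p.cj
  exact ((F.comm_φ p.cm).1 (mem_cz'.2 (NZ.three (((mem_zpowers_three F'.z3).1 k).resolve_left
    (by simpa using F'.z1)) F'.z1 F'.z3 (k := 1) (F.Q3 (F.φQ _))))).1

omit p in
theorem sig0 {x' : G} (e : x' = x ∨ x' = x⁻¹) (p : Pair z x') (h : F.M x = σ) (h0 : F.y x = 0) : False := by
  have hx : x ∈ cz z := by rcases e with rfl | rfl; exacts [p.cm, inv_mem_iff.1 p.cm]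
  have e1 : QO x' = QO x := by rcases e with rfl | rfl; exacts [rfl, QO_inv _]
  have e2 : cz x' = cz x := by
    rcases e with rfl | rfl; exacts [rfl, ext fun g => by rw [mem_cz_comm, inv_mem_iff, mem_cz_comm]]
  have h1 := F.DE p.cj
  have h2 : 27 ≤ Nat.card (QO z ⊓ cz x : Subgroup G) := le_of_eq_of_le (by simp) (Nat.card_le_card_of_injective
    (fun q : P2 × Z3 => (⟨F.φ ⟨fun _ => q.1, q.2⟩, F.φQ _, (F.comm_φ hx).2 ⟨by
      rw [h, σ_smul]; exact funext fun j => by fin_cases j <;> rfl, by simp [h0]⟩⟩ : (QO z ⊓ cz x : Subgroup G)))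
    fun q q' e => by
      have := F.inj (congrArg Subtype.val e)
      exact Prod.ext (congrFun (congrArg He.v this) 0) (congrArg He.c this))
  rw [e1, e2] at h1
  obtain ⟨g, hg, g1⟩ := (QO z ⊓ QO x).bot_or_exists_ne_one.resolve_left fun e => by rw [e, card_bot] at h1; omega
  obtain ⟨q, rfl⟩ := F.exq hg.1
  have h3 := ((F.comm_φ hx).1 (QO_le _ hg.2)).1
  have h4 := F.c0' (e1 ▸ F.zn W p) hx h0 hg.2
  rw [h, σ_smul] at h3
  have h5 : q.v 1 = q.v 0 := (congrFun h3 1).symm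
  have h6 : q.v 2 = q.v 0 := congrFun h3 0
  have h7 : ∀ p : P2, p = -p - p := by decide
  have hg2 : F.φ q ∈ QO x := hg.2
  have h8 : q.v 0 = 0 := by
    rcases e with rfl | rfl
    · have := congrFun (F.gam W p (v := ![q.v 0, -q.v 0, 0]) (by
        convert hg2 using 2
        refine He.ext (funext fun j => ?_) (by simp [h, h0, h4, σ_smul, ω, w2, mul_comm])
        fin_cases j <;> simp [h, σ_smul, h5, h6, ← h7])) 0
      simpa [h, σ_smul] using this.symm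
    · have k : F.M x⁻¹ = σ * σ := by rw [F.M_inv hx, h]; decide +kernel
      have := congrFun (F.gam W p (v := ![q.v 0, 0, -q.v 0]) (by
        rw [e1]
        convert hg2 using 2
        refine He.ext (funext fun j => ?_) (by simp [k, F.y_inv hx, mul_smul, h0, h4, σ_smul, ω, w2, mul_comm])
        fin_cases j <;> simp [k, mul_smul, σ_smul, h5, h6, ← h7])) 0
      simpa [k, mul_smul, σ_smul] using this.symm
  exact g1 (by rw [show q = 1 from He.ext (funext fun j => by fin_cases j <;> simp [h5, h6, h8]) h4, map_one])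

theorem sig {k : Fin 3 → Z3} {n : Z3} (h : F.M x = un k n) : n = 0 := by_contra fun hn => by
  have x3 := F.x3 p.cj
  obtain ⟨m, e | e⟩ := to_σ k n hn (by rw [← h, ← F.M_pow p.cm, x3, M_one])
  · have e1 : (F.rb (un m 0)).M x = σ := by rw [rb_M, h, e]
    obtain ⟨u, e2⟩ := (F.rb _).σ_y0 p.cm x3 e1
    exact (F.rb _).sig0 W (.inl rfl) (p.conj ((F.rb _).φH _)) (((F.rb _).M_cjφ _ p.cm).trans e1)
      ((F.rb _).to_y0 p.cm e2)
  · have e1 : (F.rb (un m 0)).M x⁻¹ = σ := by rw [rb_M, F.M_inv p.cm, h, e]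
    obtain ⟨u, e2⟩ := (F.rb _).σ_y0 (inv_mem p.cm) (by rw [inv_pow, x3, inv_one]) e1
    exact (F.rb (un m 0)).sig0 W (.inr (by group)) (p.conj ((F.rb (un m 0)).φH ⟨u, 0⟩)) (((F.rb _).M_cjφ _ (inv_mem p.cm)).trans e1)
      ((F.rb _).to_y0 (inv_mem p.cm) e2)

theorem caseA {f v : V} (h1 : F.M x • f = f) (h2 : ω (F.y x) f ≠ 0) (h3 : v - F.M x • v ∈ F.bar (QO x)) :
    F.M x • v = v := by
  obtain ⟨c, h3⟩ := h3
  have h4 : ω f (F.M x • v) = ω f v := by rw [← ω_smul (F.M x) f v, h1]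
  obtain ⟨d, e⟩ : ∃ d : Z3, ω v (F.M x • v) - ω (F.y x) (F.M x • v) - d * ω (F.y x) f = c :=
    (show ∀ a b c : Z3, b ≠ 0 → ∃ d : Z3, a - d * b = c by decide) _ _ _ h2
  have := F.gam W p (v := v + d • f) (by
    convert h3 using 2
    exact He.ext (by simp [smul_c, h1]) (by simp [smul_c, h1, h4, ω_comm v f, ← e]; ring))
  simpa [smul_c, h1] using this

theorem caseB {k : Fin 3 → Z3} (h : F.M x = un k 0) {f : V} (h1 : F.M x • f = f) (h2 : ω (F.y x) f ≠ 0)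
    {s s' : Fin 3 → Z3} (h3 : ∀ i j : Z3, i • s + j • s' = 0 → i = 0 ∧ j = 0)
    (h4 : ∀ j, k j = 0 → s j = 0 ∧ s' j = 0) (h5 : ∑ j, s j * (F.y x j).2 = 0 ∧ ∑ j, s' j * (F.y x j).2 = 0) :
    False := by
  have m : ∀ s : Fin 3 → Z3, ∑ j, s j * (F.y x j).2 = 0 → F.φ ⟨fun j => (s j, 0), 0⟩ ∈ cz x := fun s e =>
    (F.comm_φ p.cm).2 ⟨funext fun j => by simp [h, un0_smul], by simpa [ω_sum, w2, mul_comm] using e⟩
  obtain ⟨i, j, n, e⟩ := F.pig p.cj p.cm (F.zn W p) (m s h5.1) (m s' h5.2)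
  have k1 : ∀ c t : Z3, (c = 0 → t = 0) → c * (c * t) = t := by decide
  have k2 : ∀ l, k l * (k l * (i * s l + j * s' l)) = i * s l + j * s' l := fun l =>
    k1 _ _ fun e => by simp [h4 l e]
  have := F.caseA W p h1 h2 (v := fun l => (0, -(k l * (i * s l + j * s' l)))) (by
    convert e using 1
    exact funext fun l => by simp [h, un0_smul, k2])
  refine n (h3 i j (funext fun l => ?_))
  have := congrArg Prod.fst (congrFun this l)
  simp [h, un0_smul, k2] at this ⊢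
  linear_combination -this

theorem diag {k : Fin 3 → Z3} (h : F.M x = un k 0) : (∀ j, k j ≠ 0) ∧ ∀ j, (F.y x j).2 = 0 := by
  have iso := fun u v hu hv hu' hv' => F.isoD p.cj p.cm (F.zn W p) (u := u) (v := v)
    ((F.comm_φ p.cm).2 ⟨hu, hu'⟩) ((F.comm_φ p.cm).2 ⟨hv, hv'⟩)
  have fa : ∀ i, F.M x • va i = va i := fun i => funext fun j => by
    by_cases e : j = i <;> simp [h, un0_smul, va, e]
  have f0 : ∀ i q, k i = 0 → F.M x • (Pi.single i q : V) = Pi.single i q := fun i q e => funext fun j => by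
    by_cases e' : j = i <;> simp [h, un0_smul, e, e']
  have sg : ∀ (v : V) i q, ω v (Pi.single i q) = w2 (v i) q := fun v i q => by fin_cases i <;> simp [ω, w2]
  have y0 : ∀ j, k j = 0 → F.y x j ≠ 0 := fun j e e' => absurd (iso (va j) (vb j) (fa j) (f0 j _ e)
    (by simp [ω_va, e']) (by simp [ω_vb, e'])) (by simp [ω_vb, va])
  have hk : ∀ j, k j ≠ 0 := fun j e => by
    obtain ⟨q, hq⟩ := (show ∀ p : P2, p ≠ 0 → ∃ q, w2 p q = 1 by decide) _ (y0 j e)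
    have key : ∀ v, F.M x • v = v → v j = 0 → ω (F.y x) v = 0 := fun v h1 h2 => by
      have := iso (v - ω (F.y x) v • (Pi.single j q : V)) (Pi.single j (F.y x j)) (by simp [smul_sub, smul_c, h1, f0 j _ e])
        (f0 j _ e) (by simp [sg, hq]) (by simp [sg, w2, mul_comm])
      rw [sg] at this
      simp [h2, w2] at this hq
      linear_combination this - ω (F.y x) v * hq
    have k1 : ∀ l ≠ j, (F.y x l).2 = 0 := fun l hl => by
      simpa [ω_va] using key _ (fa l) (by simp [va, hl.symm])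
    have k2 : ∀ l ≠ j, k l ≠ 0 := fun l hl e' => y0 l e' (Prod.ext (by
      simpa [ω_vb] using key (vb l) (f0 l _ e') (by simp [vb, hl.symm])) (k1 l hl))
    refine F.caseB W p h (f0 j q e) (by simp [sg, hq]) (s := Pi.single (sh j) 1) (s' := Pi.single (sh (sh j)) 1)
      (by clear * -; revert j; decide +kernel) (fun l hl => ?_) ?_
    · obtain rfl : l = j := by_contra fun n => k2 l n hl
      clear * -; revert l; decide
    · simp [Pi.single_apply, k1 _ (show sh j ≠ j by clear * -; revert j; decide),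
        k1 _ (show sh (sh j) ≠ j by clear * -; revert j; decide)]
  refine ⟨hk, fun j => by_contra fun n => ?_⟩
  obtain ⟨s, s', h1, h2⟩ := (show ∀ t : Fin 3 → Z3, ∃ s s' : Fin 3 → Z3, (∀ i j : Z3, i • s + j • s' = 0 → i = 0 ∧ j = 0) ∧
    ∑ j, s j * t j = 0 ∧ ∑ j, s' j * t j = 0 by decide +kernel) fun j => (F.y x j).2
  exact F.caseB W p h (fa j) (by simpa [ω_va] using n) h1 (fun l e => (hk l e).elim) h2

theorem nf0 {k : Fin 3 → Z3} (h : F.M x = un k 0) (h0 : F.y x = 0) :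
    ∃ j, (∀ v, v ∈ F.bar (QO x) ↔ (∀ l, (v l).2 = 0) ∧ (v j).1 = 0) ∧
      Nat.card (QO z ⊓ QO x : Subgroup G) = 9 ∧ Nat.card (QO z ⊓ cz x : Subgroup G) = 81 := by
  have hk := (F.diag W p h).1
  have fx : ∀ v : V, F.M x • v = v ↔ ∀ l, (v l).2 = 0 := fun v => by
    simp [h, funext_iff, un0_smul, Prod.ext_iff, hk]
  have c1 : Nat.card (QO z ⊓ cz x : Subgroup G) = 81 := by
    rw [card_of (fun q : (Fin 3 → Z3) × Z3 => F.φ ⟨fun l => (q.1 l, 0), q.2⟩) (fun q q' e => Prod.ext (funext fun l =>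
      congrArg (fun p : He => (p.v l).1) (F.inj e)) (congrArg He.c (F.inj e))) fun g => ⟨fun hg => ?_, ?_⟩]
    · simp
    · obtain ⟨q, rfl⟩ := F.exq hg.1
      exact ⟨(fun l => (q.v l).1, q.c), congrArg F.φ (He.ext (funext fun l => Prod.ext rfl
        ((fx _).1 ((F.comm_φ p.cm).1 hg.2).1 l).symm) rfl)⟩
    · rintro ⟨q, rfl⟩
      exact ⟨F.φQ _, (F.comm_φ p.cm).2 ⟨(fx _).2 fun l => rfl, by simp [h0]⟩⟩
  have c2 := F.DE p.cj
  have c3 := F.card_bar (A := QO z ⊓ QO x) inf_le_left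
  rw [F.EZ (F.zn W p), card_bot, mul_one, show F.bar (QO z ⊓ QO x) = F.bar (QO x) from AddSubgroup.ext fun v =>
    exists_congr fun c => and_iff_right (F.φQ _)] at c3
  have t0 : ∀ v ∈ F.bar (QO x), ∀ l, (v l).2 = 0 := fun v ⟨c, e⟩ => (fx _).1 ((F.comm_φ p.cm).1 (QO_le _ e)).1
  obtain ⟨j, hj⟩ : ∃ j, va j ∉ F.bar (QO x) := by_contra fun n => by
    push Not at n
    obtain ⟨t, t1, t2⟩ := (show ∀ k : Fin 3 → Z3, ∃ t : Fin 3 → Z3, t 0 ≠ 0 ∧ ∑ j, k j * t j ^ 2 = 0 ∨ k 0 * k 1 * k 2 = 0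
      by decide +kernel) k |>.imp fun t e => e.resolve_right (by simp [hk])
    have m : (fun l => (0, t l) : V) - F.M x • (fun l => (0, t l) : V) ∈ F.bar (QO x) := by
      convert AddSubgroup.sum_mem _ fun l (_ : l ∈ Finset.univ) => ZMod.smul_mem (n l) (-(k l * t l)) using 1
      exact funext fun l => by fin_cases l <;> simp [h, un0_smul, va, Fin.sum_univ_three]
    obtain ⟨c, m⟩ := m
    have := (fx _).1 (F.gam W p (v := fun l => (0, t l)) (by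
      convert m using 3
      rw [show c = 0 from F.c0' (F.zn W p) p.cm h0 m]
      simp [h0, h, ω_sum, w2, un0_smul] at t2 ⊢
      rw [← t2]; exact Finset.sum_congr rfl fun l _ => by ring)) 0
    exact t1 this
  have s0 : ∀ v ∈ F.bar (QO x), (v j).1 = 0 := fun v ⟨c, e⟩ => by_contra fun n => hj (by
    have e1 := QO_conj (mem_cz_comm.1 ((F.comm_r p.cm (i := j)).2 ⟨by simp [h, un], by simp [h0]⟩)) e
    rw [F.act0 (F.rH j) (F.y_r j), M_r] at e1
    convert ZMod.smul_mem (sub_mem (show v ∈ F.bar (QO x) from ⟨_, e⟩) ⟨_, e1⟩) (-(v j).1) using 1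
    refine funext fun l => ?_
    by_cases e2 : l = j
    · have := t0 v ⟨c, e⟩ j
      simp only [e2, va, Pi.single_eq_same, Pi.smul_apply, Pi.sub_apply, fl_smul, if_true]
      exact (show ∀ q : P2, q.1 ≠ 0 → q.2 = 0 → ((1, 0) : P2) = -q.1 • (q - -q) by decide) _ n this
    · simp [va, e2, fl_smul])
  have c4 : Nat.card {v : V | (∀ l, (v l).2 = 0) ∧ (v j).1 = 0} = 9 := by
    rw [Nat.card_eq_fintype_card]; clear * -; revert j; decide +kernel
  have e := Set.eq_of_subset_of_ncard_le (s := (F.bar (QO x) : Set V)) (t := {v : V | (∀ l, (v l).2 = 0) ∧ (v j).1 = 0})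
    (fun v hv => ⟨t0 v hv, s0 v hv⟩) (by
      have : Nat.card _ ≤ Nat.card (F.bar (QO x)) := c4.le.trans (by omega)
      exact this) (Set.toFinite _)
  exact ⟨j, fun v => Set.ext_iff.1 e v, c3.trans ((congrArg (fun s : Set V => Nat.card s) e).trans c4), c1⟩

theorem nf1 {k : Fin 3 → Z3} {n : Z3} (h : F.M x = un k n) :
    ∃ q : He, F.M (F.φ q * x * (F.φ q)⁻¹) = un k 0 ∧ F.y (F.φ q * x * (F.φ q)⁻¹) = 0 := by
  obtain rfl := F.sig W p h
  obtain ⟨u, e⟩ := F.full_y0 h (F.diag W p h).1 (F.diag W p h).2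
  exact ⟨_, (F.M_cjφ _ p.cm).trans h, F.to_y0 p.cm e⟩

theorem cards : Nat.card (QO z ⊓ QO x : Subgroup G) = 9 ∧ Nat.card (QO z ⊓ cz x : Subgroup G) = 81 := by
  obtain ⟨g, e⟩ := F.norm (zpowers_le.2 p.cm) (isPGroup_zpowers (k := 1) (F.x3 p.cj))
  obtain ⟨k, n, e⟩ := e x (mem_zpowers _)
  obtain ⟨q, h1, h2⟩ := (F.rb g).nf1 W p e
  obtain ⟨-, -, h3⟩ := (F.rb g).nf0 W (p.conj ((F.rb g).φH q)) h1 h2
  rwa [QO_cj, cz_cj, ← cj_eq_of_mem ((F.rb g).φQ q), ← cj_inf, ← cj_inf, card_cj, card_cj] at h3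

theorem fin0 (h0 : F.y x = 0) (hU : ∀ h ∈ QO x ⊓ cz z, F.M h ∈ Un) : False := by
  obtain ⟨F'⟩ := F.exF p.cj
  have p' := F.symm p
  have W' := W.cj p.cj
  obtain ⟨k, n, h⟩ := hU x ⟨F'.zQ, p.cm⟩
  obtain rfl := F.sig W p h
  have hk := (F.diag W p h).1
  obtain ⟨j, hj, c1, -⟩ := F.nf0 W p h h0
  have rx : ∀ l, F.r l ∈ cz x := fun l => mem_cz_comm.1 ((F.comm_r p.cm).2 ⟨by simp [h, un], by simp [h0]⟩)
  have rD : ∀ g ∈ QO x ⊓ cz z, F.r j * g * (F.r j)⁻¹ ∈ QO x ⊓ cz z := fun g hg =>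
    ⟨QO_conj (rx j) hg.1, F.cjH (F.rH j) hg.2⟩
  have dg : ∀ g ∈ QO x ⊓ cz z, F.M g = un (F.M g).k 0 := fun g hg => by
    obtain ⟨k', n', e⟩ := hU g hg
    obtain ⟨k'', n'', e'⟩ := hU _ (rD g hg)
    rw [F.M_cj (F.rH j) hg.2, M_r, e] at e'
    have := congrFun (congrArg Wr.a e') j
    rw [e, show n' = 0 by
      simp only [mul_a, inv_a, mul_k, mul_π, un, fl, bs] at this
      revert this; clear * -; revert j n' k'; decide +kernel]
    rfl
  let f : (QO x ⊓ cz z : Subgroup G) →* Multiplicative Z3 := MonoidHom.mk' (fun g => .ofAdd ((F.M g).k j)) fun g g' => by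
    rw [coe_mul, F.M_mul g.2.2 g'.2.2, dg _ g.2]; rfl
  obtain ⟨g, hg, g1, g2⟩ : ∃ g ∈ QO x ⊓ cz z, (F.M g).k j = 0 ∧ g ∉ QO z := by_contra fun n => by
    have c2 := f.ker.card_mul_index
    have c3 := card_le_card_group f.range
    have c4 := card_le_of_le (show f.ker.map (Subgroup.subtype _) ≤ QO z ⊓ QO x by
      rintro _ ⟨g, e, rfl⟩
      exact ⟨by_contra fun k => n ⟨g, g.2, e, k⟩, g.2.1⟩)
    rw [index_ker, (F'.cards W' p').2] at c2
    rw [card_map_of_injective (subtype_injective _), c1] at c4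
    rw [show Nat.card (Multiplicative Z3) = 3 by simp] at c3
    nlinarith
  have yA : ∀ l, (F.y g l).2 = 0 := fun l => by
    have := F.y_mul hg.2 p.cm
    rw [mem_cz'.1 (QO_le _ hg.1), F.y_mul p.cm hg.2, h0, h] at this
    simpa [un0_smul, hk] using congrArg Prod.fst (congrFun this l)
  have m1 := mul_mem hg (rD g hg)
  have M1 : F.M (g * (F.r j * g * (F.r j)⁻¹)) = F.M g * F.M g := by
    rw [F.M_mul hg.2 (rD g hg).2, F.M_cj (F.rH j) hg.2, M_r, dg g hg]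
    generalize (F.M g).k = k'; clear * -; revert j k'; decide +kernel
  have b1 : F.φ ⟨vb j, 0⟩ ∈ cz (g * (F.r j * g * (F.r j)⁻¹)) := (F.comm_φ m1.2).2 ⟨by
    rw [M1, dg g hg]; exact funext fun l => by by_cases e : l = j <;> simp [mul_smul, un0_smul, vb, e, g1], by
    rw [ω_vb, F.y_mul hg.2 (rD g hg).2, F.y_cj (F.rH j) hg.2, dg g hg]
    simp [un0_smul, fl_smul, yA]⟩
  have e2 := F.cmt p.cm (vb j)
  have p2 : Pair x (F.φ ⟨vb j, 0⟩ * x * (F.φ ⟨vb j, 0⟩)⁻¹) := ⟨isConj_iff.2 ⟨_, rfl⟩, e2 ▸ mul_mem ((F.comm_φ p.cm).2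
    ⟨funext fun l => by by_cases e : l = j <;> simp [h, un0_smul, vb, e], by simp [h0]⟩) (mem_cz.2 (by simp)), fun e => by
      have := F'.ZQ e
      rw [e2, mul_mem_cancel_right F'.zQ] at this
      simpa [h, un0_smul, vb, hk] using ((hj _).1 ⟨_, this⟩).2⟩
  have key : ∀ y ∈ QO x, F.φ ⟨vb j, 0⟩ ∈ cz y → y ∈ QO (F.φ ⟨vb j, 0⟩ * x * (F.φ ⟨vb j, 0⟩)⁻¹) := fun y hy e => by
    rw [QO_cj, ← mem_cz.1 e]; exact conj_mem_cj hy
  have := eq_of_le_of_card_ge (H := QO z ⊓ QO x) (K := QO x ⊓ _) (fun y hy => ⟨hy.2, key y hy.2 (by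
    obtain ⟨q, rfl⟩ := F.exq hy.1
    exact F.comm_φφ.2 ((ω_vb _ _).trans ((hj _).1 ⟨_, hy.2⟩).2))⟩) ((F'.cards W' p2).1.trans c1.symm).le
  have k1 := F.M_Q (this.ge ⟨m1.1, key _ m1.1 b1⟩).1
  rw [M1] at k1
  exact g2 (F.ker g hg.2 (eq_one_of_cop ((pow_two _).trans k1) (by
    rw [← F.M_pow hg.2, F'.Q3 hg.1, M_one] : F.M g ^ 3 = 1) (by decide)))

theorem fin1 : False := by
  obtain ⟨g, e⟩ := F.norm (S := QO x ⊓ cz z) inf_le_right ((pQO x).to_le inf_le_left)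
  obtain ⟨k, n, h⟩ := e x ⟨F.xQ p.cj, p.cm⟩
  obtain ⟨q, -, h2⟩ := (F.rb g).nf1 W p h
  refine (F.rb g).fin0 W (p.conj ((F.rb g).φH q)) h2 fun y hy => ?_
  rw [QO_cj, ← cj_eq_of_mem ((F.rb g).φH q), ← cj_inf] at hy
  obtain ⟨y', hy', rfl⟩ := mem_cj'.1 hy
  rw [(F.rb g).M_cjφ _ hy'.2]; exact e y' hy'

omit W p

theorem cenQ {h : G} (hh : h ∈ cz z) (e : ∀ q, F.φ q ∈ cz h) : h ∈ zpowers z :=
  have := F.uniq hh (y := 0) (g := 1) fun q => (mem_cz.1 (mem_cz_comm.1 (e q))).trans (congrArg _ (He.ext (by simp) (by simp)))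
  F.memZ hh this.2 this.1

theorem sylT {T : Subgroup G} (h : SylIn 3 T (cz z)) :
    QO z ≤ T ∧ (∀ g ∈ T, T ≤ cz g → g ∈ zpowers z) ∧ SylIn 3 T ⊤ := by
  have h1 : QO z ≤ T := h.le_of_normalized (pQO z) (QO_le z) (h.le.trans (nQO z))
  have h2 : ∀ g ∈ T, T ≤ cz g → g ∈ zpowers z := fun g hg e => F.cenQ (h.le hg) fun q => e (h1 (F.φQ q))
  refine ⟨h1, h2, sylIn_up F.z1 F.z3 (by rwa [top_inf_eq]) fun g hg => h2 _
    (conj_mem_of_normalizes le_rfl hg (h1 F.zQ)) ?_⟩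
  rw [cz_cj, ← cj_eq_of_mem_normalizer hg]; exact cj_mono g h.le

theorem notWC {S : Sylow 3 G} (h1 : zpowers z ≤ S) (h2 : ¬ IsWeaklyClosed (zpowers z) S) :
    ∃ x, IsConj z x ∧ x ∈ QO z ∧ x ∉ zpowers z := by_contra fun n => by
  have W : WQ z := fun x k1 k2 => by_contra fun k3 => n ⟨x, k1, k2, k3⟩
  obtain ⟨T, hT⟩ := exists_sylIn 3 (cz z)
  obtain ⟨g, -, e⟩ := (F.sylT hT).2.2.exists_conj (sylIn_top S)
  have k1 : (S : Subgroup G) ≤ cz (g * z * g⁻¹) := by rw [cz_cj, ← e]; exact cj_mono g hT.le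
  have k2 : g * z * g⁻¹ ∈ zpowers z := by_contra fun k => F.fin1 W
    ⟨isConj_iff.2 ⟨g, rfl⟩, mem_cz_comm.1 (k1 (h1 (mem_zpowers z))), k⟩
  refine h2 ⟨h1, fun g' hg => ?_⟩
  change g' •ᶜ _ ≤ _ at hg
  rw [cj_zpowers, zpowers_le] at hg
  refine cj_eq_of_le (by
    rw [cj_zpowers, zpowers_le]
    refine by_contra fun k => F.fin1 W ⟨isConj_iff.2 ⟨g', rfl⟩, ?_, k⟩
    have := k1 hg
    rcases (mem_zpowers_three F.z3).1 k2 with e | e | e <;> rw [e] at this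
    exacts [(F.z1 (by simpa using e)).elim, this, mem_cz_comm.1 (inv_mem_iff.1 (mem_cz_comm.1 this))])

end Fr

end CL.F3
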