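import Mathlib
import Cfsg.Agent.PERM.F3.HW

/-! Coordinates on a central product of three extraspecial groups of order 27, and its automorphisms. -/

set_option autoImplicit false
set_option synthInstance.maxSize 8192
open Subgroup CL.McL3 CL.C3 QuaternionGroup Equiv Cfsg
open CL.Odd hiding e3

namespace CL.F3.ExA

variable {X : Type*} [Group X]

/-- powers with exponents modulo 3 -/
def pw (g : X) (s : Z3) : X := g ^ s.val

theorem pw_add {g : X} (h : g ^ 3 = 1) (s t : Z3) : pw g (s + t) = pw g s * pw g t := by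
  rw [pw, ZMod.val_add, ← pow_eq_pow_mod _ h, pow_add]; rfl

@[simp] theorem pw_zero (g : X) : pw g 0 = 1 := pow_zero g
@[simp] theorem pw_one (g : X) : pw g 1 = g := pow_one g

theorem heis {a b z : X} (hz : ∀ g, Commute z g) (h3 : z ^ 3 = 1) (h : a * b = z * b * a) (s t : Z3) :
    pw a s * pw b t = pw b t * pw a s * pw z (s * t) := by
  have h1 : a * b ^ t.val * a⁻¹ = z ^ t.val * b ^ t.val := by
    rw [← conj_pow, h, mul_inv_cancel_right, (hz b).mul_pow]
  have h2 : (b ^ t.val)⁻¹ * a * (b ^ t.val)⁻¹⁻¹ = a * z ^ t.val := by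
    rw [inv_inv, mul_assoc, mul_inv_eq_iff_eq_mul.1 h1, ((hz _).pow_left _).eq, mul_assoc, inv_mul_cancel_left,
      ((hz a).pow_left _).eq]
  have h4 := congrArg (· ^ s.val) h2
  simp only [conj_pow, ((hz a).pow_left _).symm.mul_pow] at h4
  rw [pw, pw, pw, ZMod.val_mul, ← pow_eq_pow_mod _ h3, mul_comm s.val, pow_mul, mul_assoc, ← h4]; group

/-- the section on one factor -/
def ee (a b z : X) (p : P2) : X := pw a p.1 * pw b p.2 * pw z (p.1 * p.2)

@[simp] theorem ee_zero (a b z : X) : ee a b z 0 = 1 := by simp [ee]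

theorem ee_mul {a b z : X} (hz : ∀ g, Commute z g) (h3 : z ^ 3 = 1) (ha : a ^ 3 = 1) (hb : b ^ 3 = 1)
    (h : a * b = z * b * a) (p q : P2) : ee a b z p * ee a b z q = ee a b z (p + q) * pw z (2 * w2 p q) := by
  have c : ∀ s g, pw z s * g = g * pw z s := fun s g => ((hz g).pow_left _).eq
  have e : p.1 * p.2 + q.1 * q.2 = q.1 * p.2 + ((p + q).1 * (p + q).2 + 2 * w2 p q) := by
    revert p q; decide
  calc _ = pw a p.1 * pw b p.2 * (pw z (p.1 * p.2) * (pw a q.1 * pw b q.2)) * pw z (q.1 * q.2) := by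
        simp only [ee, mul_assoc]
    _ = pw a p.1 * (pw b p.2 * pw a q.1) * (pw b q.2 * pw z (q.1 * p.2)) *
        (pw z ((p + q).1 * (p + q).2) * pw z (2 * w2 p q)) := by
        rw [c]; simp only [mul_assoc]; rw [← pw_add h3, e, pw_add h3, pw_add h3]
    _ = _ := by
        rw [← c, ee, Prod.fst_add, Prod.snd_add, pw_add ha, pw_add hb, mul_assoc (pw a p.1) (pw a q.1),
          ← mul_assoc (pw a q.1), heis hz h3 h]
        simp only [mul_assoc]

theorem exists_hom {z : X} (hz : ∀ g, Commute z g) (h3 : z ^ 3 = 1) (E : Fin 3 → P2 → X)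
    (hm : ∀ i p q, E i p * E i q = E i (p + q) * pw z (2 * w2 p q))
    (hc : ∀ i j, i ≠ j → ∀ p q, Commute (E i p) (E j q)) :
    ∃ φ : He →* X, ∀ q, φ q = E 0 (q.v 0) * E 1 (q.v 1) * E 2 (q.v 2) * pw z q.c := by
  have c : ∀ s g, Commute (pw z s) g := fun s g => (hz g).pow_left _
  refine ⟨MonoidHom.mk' (fun q => E 0 (q.v 0) * E 1 (q.v 1) * E 2 (q.v 2) * pw z q.c) fun p q => ?_, fun _ => rfl⟩
  rw [(c _ _).mul_mul_mul_comm, ((hc 2 0 (by decide) _ _).mul_right (hc 2 1 (by decide) _ _)).mul_mul_mul_comm,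
    (hc 1 0 (by decide) _ _).mul_mul_mul_comm, hm, hm, hm, (c _ _).mul_mul_mul_comm, ← pw_add h3,
    (c _ _).mul_mul_mul_comm, ← pw_add h3, ← pw_add h3, mul_assoc _ (pw z _), ← pw_add h3]
  simp only [mul_v, mul_c, Pi.add_apply, ω_sum, Fin.sum_univ_three]
  congr 2; ring

theorem inj {φ : He →* X} (h : ∀ c, φ ⟨0, c⟩ = 1 → c = 0) : Function.Injective φ :=
  (injective_iff_map_eq_one φ).2 fun q hq => by
    have : q.v = 0 := ω_nd fun u => h _ (by
      have e : (⟨0, ω q.v u⟩ : He) = q * ⟨u, 0⟩ * q⁻¹ * (⟨u, 0⟩ : He)⁻¹ := by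
        rw [He.cj]; exact He.ext (by simp) (by simp)
      rw [e]; simp [hq])
    exact He.ext this (h _ (by rw [← hq, ← this]))

theorem ext_V {W : Type*} [AddCommGroup W] {f g : V →+ W} (ha : ∀ i, f (va i) = g (va i))
    (hb : ∀ i, f (vb i) = g (vb i)) (v : V) : f v = g v := by
  have k : ∀ p : P2, p = p.1.val • ((1, 0) : P2) + p.2.val • (0, 1) := by decide
  have : v = ∑ i, ((v i).1.val • va i + (v i).2.val • vb i) := by
    simp only [va, vb, ← Pi.single_smul, ← Pi.single_add, ← k, Finset.univ_sum_single]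
  rw [this]; simp only [map_sum, map_add, map_nsmul, ha, hb]

theorem exists_y (f : V →+ Z3) : ∃ y, ∀ v, f v = ω y v :=
  ⟨fun j => (f (vb j), -f (va j)), ext_V (g := AddMonoidHom.mk' (ω _) (ω_add_right _))
    (fun i => by simp [ω_va]) fun i => by simp [ω_vb]⟩

theorem m_inj {m : V →+ V} (h : ∀ u v, ω (m u) (m v) = ω u v) : Function.Injective m :=
  (injective_iff_map_eq_zero m).2 fun v e => ω_nd fun u => by rw [← h, e, ω_zero_left]

/-- endomorphisms fixing the centre -/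
theorem aut (α : He →* He) (h : α ⟨0, 1⟩ = ⟨0, 1⟩) : ∃ (m : V →+ V) (y : V), (∀ u v, ω (m u) (m v) = ω u v) ∧
    ∀ q, α q = ⟨m q.v, q.c + ω y (m q.v)⟩ := by
  have h0 : ∀ c, α ⟨0, c⟩ = ⟨0, c⟩ := fun c => by
    have : ∀ c : Z3, (⟨0, c⟩ : He) = ⟨0, 1⟩ ^ c.val := by decide +kernel
    rw [this, map_pow, h]
  have h1 : ∀ v c, α ⟨v, c⟩ = ⟨(α ⟨v, 0⟩).v, c + (α ⟨v, 0⟩).c⟩ := fun v c => by
    rw [show (⟨v, c⟩ : He) = ⟨0, c⟩ * ⟨v, 0⟩ from He.ext (by simp) (by simp), map_mul, h0]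
    exact He.ext (by simp) (by simp)
  have h2 : ∀ u v, α ⟨u, 0⟩ * α ⟨v, 0⟩ = ⟨(α ⟨u + v, 0⟩).v, 2 * ω u v + (α ⟨u + v, 0⟩).c⟩ := fun u v => by
    rw [← map_mul, ← h1]; exact congrArg _ (He.ext rfl (by simp))
  have h3 : ∀ u v, (α ⟨u + v, 0⟩).c = (α ⟨u, 0⟩).c + (α ⟨v, 0⟩).c ∧ ω (α ⟨u, 0⟩).v (α ⟨v, 0⟩).v = ω u v := fun u v => by
    have e1 := congrArg He.c (h2 u v)
    have e2 := congrArg He.c (h2 v u)
    simp only [mul_c, add_comm v u, ω_comm v u, ω_comm (α ⟨v, 0⟩).v] at e1 e2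
    have : ∀ a b c d e : Z3, a + b + 2 * c = 2 * d + e → b + a + 2 * -c = 2 * -d + e → e = a + b ∧ c = d := by decide
    exact this _ _ _ _ _ e1 e2
  let m : V →+ V := AddMonoidHom.mk' (fun v => (α ⟨v, 0⟩).v) fun u v => (congrArg He.v (h2 u v)).symm
  have hm : ∀ u v, ω (m u) (m v) = ω u v := fun u v => (h3 u v).2
  let m' := AddEquiv.ofBijective m (Finite.injective_iff_bijective.1 (m_inj hm))
  obtain ⟨y, hy⟩ := exists_y ((AddMonoidHom.mk' (fun v => (α ⟨v, 0⟩).c) fun u v => (h3 u v).1).comp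
    m'.symm.toAddMonoidHom)
  refine ⟨m, y, hm, fun q => (h1 q.v q.c).trans (He.ext rfl (congrArg (q.c + ·) ?_))⟩
  rw [← hy]
  exact congrArg (fun v => (α ⟨v, 0⟩).c) (m'.symm_apply_apply q.v).symm

theorem diag {m : V →+ V} {s : Fin 3 → Z3} (h : ∀ j p, m (Pi.single j p) = s j • Pi.single j p) (v : V) (j : Fin 3) :
    m v j = s j • v j := by
  conv_lhs => rw [← Finset.univ_sum_single v, map_sum]
  simp only [h, ← Pi.single_smul]
  rw [Finset.univ_sum_single fun j => s j • v j]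

/-- a symplectic map conjugating the reflections into diagonal sign matrices permutes the planes -/
theorem exists_wr {m : V →+ V} (hm : ∀ u v, ω (m u) (m v) = ω u v) (s : Fin 3 → Fin 3 → Z3)
    (hs : ∀ i j, s i j = 1 ∨ s i j = -1) (h : ∀ i v j, m (fl i • v) j = s i j • m v j) : ∃ g : Wr, ∀ v, m v = g • v := by
  have k1 : ∀ p : P2, -p = p → p = 0 := by decide
  have f1 : ∀ i (p : P2), fl i • (Pi.single i p : V) = -Pi.single i p := fun i p => funext fun j => by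
    by_cases e : j = i <;> simp [fl_smul, e]
  have f2 : ∀ i i', i' ≠ i → ∀ p : P2, fl i' • (Pi.single i p : V) = Pi.single i p := fun i i' n p =>
    funext fun j => by by_cases e : j = i' <;> simp [fl_smul, e, n]
  have h1 : ∀ i p j, m (Pi.single i p) j ≠ 0 → s i j = -1 ∧ ∀ i' ≠ i, s i' j = 1 := fun i p j n =>
    ⟨(hs i j).resolve_left fun e => n (k1 _ (by simpa [f1, e] using h i (Pi.single i p) j)),
      fun i' n' => (hs i' j).resolve_right fun e => n (k1 _ (by simpa [f2 i i' n', e] using (h i' (Pi.single i p) j).symm))⟩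
  have h2 : ∀ i, ∃ j, m (va i) j ≠ 0 := fun i => by_contra fun n => by
    have : va i = 0 := m_inj hm ((funext fun j => by_contra fun e => n ⟨j, e⟩).trans (map_zero m).symm)
    clear n; revert i; decide
  choose π hπ using h2
  have ne : (1 : Z3) ≠ -1 := by decide
  have hi : Function.Injective π := fun i i' e => by_contra fun n =>
    ne (((h1 _ _ _ (hπ i')).2 i n).symm.trans (e ▸ (h1 _ _ _ (hπ i)).1))
  let τ : Perm (Fin 3) := Equiv.ofBijective π (Finite.injective_iff_bijective.1 hi)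
  have h3 : ∀ i p j, τ⁻¹ j ≠ i → m (Pi.single i p) j = 0 := fun i p j n => by_contra fun e => by
    obtain ⟨i', rfl⟩ := τ.surjective j
    exact ne (((h1 _ _ _ e).2 i' (by simpa using n)).symm.trans (h1 _ _ _ (hπ i')).1)
  have k2 : ∀ u v : P2, w2 u v = 1 → ∃ x k, ap (blk x k) (1, 0) = u ∧ ap (blk x k) (0, 1) = v := by decide +kernel
  have h4 : ∀ j, w2 (m (va (τ⁻¹ j)) j) (m (vb (τ⁻¹ j)) j) = 1 := fun j => by
    have := hm (va (τ⁻¹ j)) (vb (τ⁻¹ j))
    rw [ω_vb, ω_sum, Finset.sum_eq_single j (fun j' _ n => by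
      rw [va, h3 _ _ j' (by simpa using n)]; simp [w2]) (by simp)] at this
    simpa [va] using this
  choose a k ha hb using fun j => k2 _ _ (h4 j)
  have z0 : ∀ A, ap A 0 = 0 := fun A => by simp [ap]
  refine ⟨⟨a, k, τ⟩, ext_V (g := DistribSMul.toAddMonoidHom V (⟨a, k, τ⟩ : Wr)) (fun i => funext fun j => ?_)
    fun i => funext fun j => ?_⟩ <;> show _ = ap _ ((Pi.single i _ : V) (τ⁻¹ j)) <;> by_cases e : τ⁻¹ j = i
  · rw [← e, Pi.single_eq_same, ha]
  · rw [Pi.single_eq_of_ne e, z0, va, h3 _ _ _ e]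
  · rw [← e, Pi.single_eq_same, hb]
  · rw [Pi.single_eq_of_ne e, z0, vb, h3 _ _ _ e]

/-- generators of one factor -/
theorem exists_ab [Finite X] {R : Subgroup X} (hR : IsExtraspecial 3 R) (hc : Nat.card R = 27) {z x : X}
    (hz : ∀ g, Commute z g) (h1 : z ≠ 1) (h3 : z ^ 3 = 1) (hzR : z ∈ R)
    (hx : ∀ q ∈ R, x * q * x⁻¹ * q ∈ zpowers z) :
    ∃ a ∈ R, ∃ b ∈ R, a ^ 3 = 1 ∧ b ^ 3 = 1 ∧ a * b = z * b * a := by
  obtain ⟨e1, e2⟩ := es hR hzR h1 h3 fun q _ => (hz q).symm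
  have c : ∀ {w}, w ∈ zpowers z → w ^ 3 = 1 ∧ ∀ g, Commute w g := by
    rintro _ ⟨k, rfl⟩
    exact ⟨by rw [← zpow_natCast, ← zpow_mul, mul_comm, zpow_mul, zpow_natCast, h3, one_zpow],
      fun g => (hz g).zpow_left k⟩
  have cube : ∀ q ∈ R, q ^ 3 = 1 := fun q hq => by
    have k1 := c (e2 _ (pow_mem hq 3) fun b hb => by
      have k := c (e1 b hb q hq)
      have : b * q ^ 3 * b⁻¹ = q ^ 3 := by
        rw [← conj_pow, ← inv_mul_cancel_right (b * q * b⁻¹) q, (k.2 q).mul_pow, k.1, one_mul]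
      exact (mul_inv_eq_iff_eq_mul.1 this).symm)
    have k2 := c (hx q hq)
    have : x * q ^ 3 * x⁻¹ = (q ^ 3)⁻¹ := by
      rw [← conj_pow, ← mul_inv_cancel_right (x * q * x⁻¹) q, (k2.2 q⁻¹).mul_pow, k2.1, one_mul, inv_pow]
    rw [← (k1.2 x).eq, mul_inv_cancel_right] at this
    exact eq_one_of_cop (m := 2) ((pow_two _).trans (mul_eq_one_iff_eq_inv.2 this)) k1.1 (by decide)
  by_contra n
  have : R ≤ zpowers z := fun a ha => e2 a ha fun b hb => by
    rcases (mem_zpowers_three h3).1 (e1 a ha b hb) with e | e | e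
    · exact commutatorElement_eq_one_iff_mul_comm.1 e
    · exact absurd ⟨a, ha, b, hb, cube a ha, cube b hb, by rw [← e]; group⟩ n
    · exact absurd ⟨b, hb, a, ha, cube b hb, cube a ha, by rw [← inv_inv z, ← e]; group⟩ n
  have := card_le_of_le this
  rw [hc, card_zpowers_three h1 h3] at this
  omega

end CL.F3.ExA
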