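import Mathlib
import Cfsg.Agent.PERM.F3.P1

/-! Conjugates of `z` inside `Q` and the normal form of the frame. -/

set_option autoImplicit false
set_option linter.unusedSectionVars false
set_option synthInstance.maxSize 8192
set_option maxRecDepth 100000
open Subgroup CL.McL3 CL.MSS CL.C3 QuaternionGroup Equiv Cfsg
open CL.Odd hiding e3

namespace CL.F3

variable {G : Type*} [Group G] [Finite G]

/-- the fixed vector -/
def α : V := fun _ => (1, 0)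
/-- the Lagrangian subspace -/
abbrev Eb (v : V) : Prop := (v 0).1 + (v 1).1 + (v 2).1 = 0 ∧ (v 1).2 = (v 0).2 ∧ (v 2).2 = (v 0).2

theorem fix_α : ∀ v : V, σ • v = v → δ • v = v → v = 0 ∨ v = α ∨ v = -α := by decide +kernel
theorem cen_σ : ∀ k n, un k n * σ = σ * un k n → ∃ c, k = fun _ => c := by decide +kernel
theorem Eb_perp : ∀ v : V, Eb v ↔ ω v ![(1, 0), (2, 0), 0] = 0 ∧ ω v ![0, (1, 0), (2, 0)] = 0 ∧ ω v (fun _ => (0, 1)) = 0 := by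
  simp only [ω_sum]; decide +kernel
theorem Eb_un : ∀ (c n : Z3) (v : V), (Eb v → Eb (un (fun _ => c) n • v)) ∧
    (un (fun _ => c) n • v = v → Eb v ∨ n = 0) := by decide +kernel
theorem Eb_iso {u v : V} (hu : Eb u) (hv : Eb v) : ω u v = 0 := by
  simp only [ω_sum, Fin.sum_univ_three, w2, hu.2.1, hu.2.2, hv.2.1, hv.2.2]
  linear_combination (v 0).2 * hu.1 - (u 0).2 * hv.1

theorem cj_inv {a b : G} (h : IsConj a b) : IsConj a⁻¹ b⁻¹ :=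
  let ⟨g, e⟩ := isConj_iff.1 h; isConj_iff.2 ⟨g, by rw [← e]; group⟩

/-- conjugates inside `Q` -/
structure QP (z x : G) : Prop where
  cj : IsConj z x
  mem : x ∈ QO z
  nz : x ∉ zpowers z

theorem QP.pair {z x : G} (p : QP z x) : Pair z x := ⟨p.cj, QO_le z p.mem, p.nz⟩
theorem QP.conj {z x h : G} (p : QP z x) (hh : h ∈ cz z) : QP z (h * x * h⁻¹) :=
  ⟨(p.pair.conj hh).cj, QO_conj hh p.mem, (p.pair.conj hh).nz⟩

theorem mem_D {z x g h : G} (hg : g ∈ cz z) : g * h * g⁻¹ ∈ QO (g * x * g⁻¹) ⊓ cz z ↔ h ∈ QO x ⊓ cz z := by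
  rw [QO_cj, ← cj_eq_of_mem hg, ← cj_inf, conj_mem_cj_iff, cj_eq_of_mem hg]

/-- a conjugate outside of the intersection -/
def SP (z x : G) : Prop := ∃ j e, IsConj z j ∧ j ∈ QO z ⊓ cz x ∧ j ∉ QO x ∧ e ∈ QO x ⊓ cz z ∧ e ∉ QO z ∧ j ∈ cz e

theorem SP.conj {z x g : G} (h : SP z x) (hg : g ∈ cz z) : SP z (g * x * g⁻¹) := by
  obtain ⟨j, e, h1, h2, h3, h4, h5, h6⟩ := h
  refine ⟨g * j * g⁻¹, g * e * g⁻¹, h1.trans (isConj_iff.2 ⟨g, rfl⟩), ⟨QO_conj hg h2.1, conj_mem_cz g h2.2⟩,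
    by rwa [QO_cj, conj_mem_cj_iff], (mem_D hg).2 h4, fun k => h5 ?_, conj_mem_cz g h6⟩
  simpa [mul_assoc] using QO_conj (inv_mem hg) k

/-- first normal form -/
structure N1 {z : G} (F : Fr z) (x : G) : Prop where
  p : QP z x
  un : ∀ h ∈ QO x ⊓ cz z, F.M h ∈ Un
  sg : ∃ s ∈ QO x ⊓ cz z, F.M s = σ

namespace Fr
variable {z x : G} (F : Fr z)
include F

theorem cardD (hx : x ∈ QO z) : 3 ^ 6 ≤ Nat.card (QO z ⊓ cz x : Subgroup G) := by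
  let f : QO z →* Multiplicative Z3 := MonoidHom.mk' (fun g => .ofAdd (ω (F.y x) (F.y g))) fun g g' => by
    simp [F.y_mul (QO_le z g.2) (QO_le z g'.2), F.M_Q g.2, ofAdd_add]
  have h1 := card_ker f (N := cz x) (ext fun ⟨g, hg⟩ => by
    obtain ⟨q, rfl⟩ := F.exq hg
    simp [f, mem_subgroupOf, F.comm_φ (QO_le z hx), F.M_Q hx])
  have h2 := card_le_card_group f.range
  rw [show Nat.card (Multiplicative Z3) = 3 by simp] at h2
  rw [F.cQ] at h1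
  nlinarith

theorem symmQ (p : QP z x) : QP x z := ⟨p.cj.symm, by_contra fun h => by
  have h1 := F.cardD p.mem
  have h2 := F.DE p.cj
  have h3 := F.ab81 (A := QO z ⊓ QO x) inf_le_left fun a ha b hb => by
    obtain ⟨q, rfl⟩ := F.exq ha.1
    obtain ⟨q', rfl⟩ := F.exq hb.1
    exact F.comm_φφ.2 (F.DE0 h (QO_le x ha.2) hb.2)
  rw [F.EZ h, card_bot] at h3
  omega, (F.symm p.pair).nz⟩

theorem cmZ {a b : G} (ha : a ∈ QO z) (hb : b ∈ QO z) : a * b * a⁻¹ * b⁻¹ ∈ zpowers z := by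
  obtain ⟨q, rfl⟩ := F.exq ha
  obtain ⟨q', rfl⟩ := F.exq hb
  rw [← map_inv, ← map_inv, ← map_mul, ← map_mul, ← map_mul, φZ]; simp

theorem zx (p : Pair z x) {g : G} (h1 : g ∈ zpowers z) (h2 : g ∈ zpowers x) : g = 1 := by
  rcases (mem_zpowers_three (F.x3 p.cj)).1 h2 with rfl | rfl | rfl
  exacts [rfl, (p.nz h1).elim, (p.nz (inv_mem_iff.1 h1)).elim]

theorem cmD (p : QP z x) {a b : G} (ha : a ∈ QO x) (hb : b ∈ QO x) (e : a * b * a⁻¹ * b⁻¹ ∈ zpowers z) :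
    a ∈ cz b := mem_cz'.2 (by
  have := F.zx p.pair e ((F.exF p.cj).some.cmZ ha hb)
  rwa [mul_inv_eq_one, mul_inv_eq_iff_eq_mul] at this)

theorem nineD (p : QP z x) : 9 ≤ Nat.card (F.im (QO x ⊓ cz z)) := by
  have h1 := (F.exF p.cj).some.cardD (F.symmQ p).mem
  have h2 := F.card_im (S := QO x ⊓ cz z) inf_le_right
  have h3 := F.ab81 (A := QO x ⊓ cz z ⊓ QO z) inf_le_right fun a ha b hb =>
    F.cmD p hb.1.1 ha.1.1 (F.cmZ hb.2 ha.2)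
  have h4 := (card_le_of_le (inf_le_right : QO x ⊓ cz z ⊓ QO z ⊓ zpowers z ≤ _)).trans F.cZ.le
  nlinarith

theorem abIm (p : QP z x) {a b : G} (ha : a ∈ QO x ⊓ cz z) (hb : b ∈ QO x ⊓ cz z) : F.M a * F.M b = F.M b * F.M a := by
  have := F.M_Q (zpowers_le.2 p.mem ((F.exF p.cj).some.cmZ ha.1 hb.1))
  rwa [F.M_mul (F.cjH ha.2 hb.2) (inv_mem hb.2), F.M_cj ha.2 hb.2, F.M_inv hb.2, mul_inv_eq_one,
    mul_inv_eq_iff_eq_mul] at this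

theorem dblQ {a b : G} (ha : a ∈ QO z) (hb : b ∈ QO z) (h : QO z ⊓ cz a ≤ cz b) :
    ∃ ζ ∈ zpowers z, b * ζ ∈ zpowers a := by
  obtain ⟨p, rfl⟩ := F.exq ha
  obtain ⟨q, rfl⟩ := F.exq hb
  obtain ⟨c, e⟩ := dbl (x := p.v) (u := q.v) fun v hv => F.comm_φφ.1 (h ⟨F.φQ ⟨v, 0⟩, F.comm_φφ.2 hv⟩)
  have k : ∀ n : He, n.v = q.v → F.φ n ∈ zpowers (F.φ p) → ∃ ζ ∈ zpowers z, F.φ q * ζ ∈ zpowers (F.φ p) :=
    fun n h1 h2 => ⟨F.φ (q⁻¹ * n), F.φZ.2 (by simp [h1]), by simpa using h2⟩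
  rcases (show ∀ c : Z3, c = 0 ∨ c = 1 ∨ c = -1 by decide) c with rfl | rfl | rfl
  exacts [k 1 (by simp [e]) (by simp), k p (by simp [e]) (by simp), k p⁻¹ (by simp [e]) (by simp)]

theorem mvE {h : G} (hh : h ∈ QO x ⊓ cz z) {v : V} (hv : F.φ ⟨v, 0⟩ ∈ cz x) :
    F.M h • v - v ∈ F.bar (QO x) := by
  have := mul_mem hh.1 (QO_conj hv (inv_mem hh.1))
  rw [← mul_assoc, ← mul_assoc, show h * F.φ ⟨v, 0⟩ * h⁻¹ = _ from F.act h hh.2 _, ← map_inv, ← map_mul] at this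
  exact sub_eq_add_neg (F.M h • v) v ▸ ⟨_, this⟩

theorem step0 (p : QP z x) (hU : ∀ h ∈ QO x ⊓ cz z, F.M h ∈ Un) :
    ∃ s ∈ QO x ⊓ cz z, ∃ k n, n ≠ 0 ∧ F.M s = un k n := by_contra fun hn => by
  have dg : ∀ h ∈ QO x ⊓ cz z, F.M h = un (F.M h).k 0 := fun h hh => by
    obtain ⟨k, n, e⟩ := hU h hh
    obtain rfl : n = 0 := by_contra fun e' => hn ⟨h, hh, k, n, e', e⟩
    rw [e]; rfl
  obtain ⟨F'⟩ := F.exF p.cj
  obtain ⟨q, rfl⟩ := F.exq p.mem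
  have key : ∀ h ∈ QO (F.φ q) ⊓ cz z, ∀ t s : Fin 3 → Z3, ω q.v (fun j => (s j, t j)) = 0 →
      ∃ c : Z3, ∀ j, ((F.M h).k j * t j, 0) = c • q.v j := fun h hh t s hv => by
    obtain ⟨c, e⟩ := F.mvE hh (F.comm_φφ.2 hv)
    have e0 : F.M h • (fun j => (s j, t j) : V) - (fun j => (s j, t j)) = fun j => ((F.M h).k j * t j, 0) := by
      generalize (F.M h).k = k, dg h hh = e
      rw [e]; exact funext fun j => by simp [un0_smul]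
    rw [e0] at e
    obtain ⟨ζ, h1, h2⟩ := F'.dblQ (F.symmQ p).mem e fun g hg => F.cmD p hg.1 e (by
      rw [F.act g hg.2, ← map_inv, ← map_mul, φZ, dg g hg]
      exact funext fun j => by simp [un0_smul])
    rcases (mem_zpowers_three F'.z3).1 h1 with rfl | rfl | rfl
    · rw [mul_one, φZ] at h2
      exact ⟨0, fun j => by simpa using congrFun h2 j⟩
    · rw [← map_mul, φZ] at h2
      exact ⟨-1, fun j => by simpa [add_eq_zero_iff_eq_neg] using congrFun h2 j⟩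
    · rw [← map_inv, ← map_mul, φZ] at h2
      exact ⟨1, fun j => by simpa [add_neg_eq_zero] using congrFun h2 j⟩
  have q0 : q.v ≠ 0 := fun e => p.nz (F.φZ.2 e)
  have fin : ∀ u : V, u ≠ 0 → (Finset.univ.filter fun k : Fin 3 → Z3 => ∀ t : Fin 3 → Z3,
      (∃ s : Fin 3 → Z3, ω u (fun j => (s j, t j)) = 0) → ∃ c : Z3, ∀ j, (k j * t j, (0 : Z3)) = c • u j).card ≤ 3 := fun u hu => by
    by_cases h0 : ∀ j, (u j).2 = 0
    · obtain ⟨s, rfl⟩ : ∃ s : Fin 3 → Z3, u = fun j => (s j, 0) := ⟨_, funext fun j => Prod.ext rfl (h0 j)⟩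
      simp only [ω_sum, w2, zero_mul, sub_zero, exists_const]
      revert s; decide +kernel
    · obtain ⟨l, hl⟩ := not_forall.1 h0
      refine (Finset.card_le_one.2 ?_).trans (by decide)
      suffices ∀ k : Fin 3 → Z3, k ∈ _ → k = 0 from fun a ha b hb => (this a ha).trans (this b hb).symm
      refine fun k hk => funext fun j => ?_
      obtain ⟨c, e⟩ := (Finset.mem_filter.1 hk).2 (Pi.single j 1) ⟨Pi.single l ((u l).2 * (u j).1), by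
        have := (show ∀ c : Z3, c ≠ 0 → c * c = 1 by decide) _ hl
        simp [ω_sum, w2, Pi.single_apply, ← mul_assoc, this]⟩
      obtain rfl : c = 0 := by simpa [hl] using congrArg Prod.snd (e l)
      simpa using e j
  have := F.nineD p
  have h2 := Nat.card_le_card_of_injective (fun g : F.im (QO (F.φ q) ⊓ cz z) => (⟨g.1.k, by
    obtain ⟨h, hh, e⟩ := (F.mem_im inf_le_right).1 g.2
    exact Finset.mem_filter.2 ⟨Finset.mem_univ _, fun t ⟨s, hs⟩ => e ▸ key h hh t s hs⟩⟩ :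
      (Finset.univ.filter fun k : Fin 3 → Z3 => ∀ t : Fin 3 → Z3,
      (∃ s : Fin 3 → Z3, ω q.v (fun j => (s j, t j)) = 0) → ∃ c : Z3, ∀ j, (k j * t j, (0 : Z3)) = c • q.v j))) fun g g' e => by
    obtain ⟨h, hh, e1⟩ := (F.mem_im inf_le_right).1 g.2
    obtain ⟨h', hh', e2⟩ := (F.mem_im inf_le_right).1 g'.2
    refine Subtype.ext ?_
    have e3 : g.1.k = g'.1.k := congrArg Subtype.val e
    rw [← e1, ← e2] at e3 ⊢
    rw [dg h hh, dg h' hh', e3]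
  rw [Nat.card_eq_finsetCard] at h2
  exact absurd (this.trans (h2.trans (fin _ q0))) (by decide)

theorem step1 (p : QP z x) : ∃ g, N1 (F.rb g) x := by
  obtain ⟨g, e⟩ := F.norm (S := QO x ⊓ cz z) inf_le_right ((pQO x).to_le inf_le_left)
  obtain ⟨s, hs, k, n, h1, h2⟩ := (F.rb g).step0 p e
  obtain ⟨m, e'⟩ := to_σ k n h1 (by rw [← h2, ← (F.rb g).M_pow hs.2, (F.exF p.cj).some.Q3 hs.1, M_one])
  have k1 : ∀ h, (F.rb (un m 0 * g)).M h = un m 0 * (F.rb g).M h * (un m 0)⁻¹ := fun h => by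
    simp only [rb_M]; group
  refine ⟨un m 0 * g, p, fun h hh => k1 h ▸ mul_mem (mul_mem ⟨_, _, rfl⟩ (e h hh)) (inv_mem ⟨_, _, rfl⟩), ?_⟩
  rcases e' with e' | e'
  exacts [⟨s, hs, by rw [k1, h2, e']⟩, ⟨s⁻¹, inv_mem hs, by rw [k1, (F.rb g).M_inv hs.2, h2, e']⟩]

end Fr

namespace N1
variable {z x : G} {F : Fr z} (N : N1 F x)
include N

theorem conj {g : G} (hg : g ∈ cz z) (e : ∀ h ∈ cz z, F.M (g * h * g⁻¹) = F.M h) : N1 F (g * x * g⁻¹) where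
  p := N.p.conj hg
  un h hh := by
    obtain ⟨h, rfl⟩ : ∃ k, g * k * g⁻¹ = h := ⟨g⁻¹ * h * g, by group⟩
    rw [mem_D hg] at hh
    rw [e h hh.2]; exact N.un h hh
  sg := let ⟨s, h1, h2⟩ := N.sg; ⟨_, (mem_D hg).2 h1, (e s h1.2).trans h2⟩

theorem cst {h : G} (hh : h ∈ QO x ⊓ cz z) : ∃ c n, F.M h = F3.un (fun _ => c) n := by
  obtain ⟨s, h1, h2⟩ := N.sg
  obtain ⟨k, n, e⟩ := N.un h hh
  obtain ⟨c, rfl⟩ := cen_σ k n (by rw [← e, ← h2, F.abIm N.p hh h1])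
  exact ⟨c, n, e⟩

theorem dl : ∃ d ∈ QO x ⊓ cz z, F.M d = δ := by
  have := Set.eq_of_subset_of_ncard_le (s := (F.im (QO x ⊓ cz z) : Set Wr))
    (t := Set.range fun p : Z3 × Z3 => F3.un (fun _ => p.1) p.2) (fun g hg => by
      obtain ⟨h, hh, rfl⟩ := (F.mem_im inf_le_right).1 hg
      obtain ⟨c, n, e⟩ := N.cst hh
      exact ⟨(c, n), e.symm⟩) (by
      have : Nat.card _ ≤ Nat.card (F.im (QO x ⊓ cz z)) := ((Finite.card_range_le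
        fun p : Z3 × Z3 => F3.un (fun _ => p.1) p.2).trans_eq (by simp)).trans (F.nineD N.p)
      exact this) (Set.toFinite _)
  exact (F.mem_im inf_le_right).1 (this.ge ⟨(1, 0), rfl⟩)

theorem pm {q : He} (e : F.φ q = x) : q.v = α ∨ q.v = -α := by
  subst e
  obtain ⟨s, h1, h2⟩ := N.sg
  obtain ⟨d, h3, h4⟩ := N.dl
  exact (fix_α _ (h2 ▸ ((F.comm_φ h1.2).1 (mem_cz_comm.1 (QO_le _ h1.1))).1)
    (h4 ▸ ((F.comm_φ h3.2).1 (mem_cz_comm.1 (QO_le _ h3.1))).1)).resolve_left fun e => N.p.nz (F.φZ.2 e)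

theorem to_α : ∃ g ∈ cz z, g * x * g⁻¹ = F.φ ⟨α, 0⟩ ∧ N1 F (F.φ ⟨α, 0⟩) := by
  have k : ∀ c : Z3, N1 F (F.φ ⟨α, c⟩) → ∃ g ∈ cz z, g * F.φ ⟨α, c⟩ * g⁻¹ = F.φ ⟨α, 0⟩ ∧ N1 F (F.φ ⟨α, 0⟩) := fun c N => by
    have e : F.φ ⟨c • vb 0, 0⟩ * F.φ ⟨α, c⟩ * (F.φ ⟨c • vb 0, 0⟩)⁻¹ = F.φ ⟨α, 0⟩ := by
      rw [← map_inv, ← map_mul, ← map_mul, He.cj]
      exact congrArg _ (He.ext (by simp) (by simp [ω_comm (vb 0), ω_vb, α]))
    exact ⟨_, F.φH _, e, e ▸ N.conj (F.φH _) fun h hh => F.M_cjφ _ hh⟩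
  obtain ⟨⟨v, c⟩, rfl⟩ := F.exq N.p.mem
  rcases N.pm rfl with e | e <;> obtain rfl : v = _ := e
  · exact k c N
  · have e := F.act_w ⟨-α, c⟩
    rw [neg_neg] at e
    obtain ⟨g, h1, h2, h3⟩ := k c (e ▸ N.conj F.wH fun h hh => by
      rw [F.M_cj F.wH hh, F.M_w, ← m1_comm, mul_inv_cancel_right])
    exact ⟨g * F.w, mul_mem h1 F.wH, by rw [← h2, ← e]; group, h3⟩

end N1

namespace N1
variable {z : G} {F : Fr z} (N : N1 F (F.φ ⟨α, 0⟩))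
include N

theorem memE (q : He) : F.φ q ∈ QO (F.φ ⟨α, 0⟩) ↔ Eb q.v := by
  obtain ⟨s, h1, h2⟩ := N.sg
  obtain ⟨d, h3, h4⟩ := N.dl
  have k1 : ∀ t : Fin 3 → Z3, t 0 + t 1 + t 2 = 0 → F.φ ⟨fun j => (0, t j), 0⟩ ∈ cz (F.φ ⟨α, 0⟩) := fun t e =>
    F.comm_φφ.2 (by simpa [ω_sum, Fin.sum_univ_three, w2, α] using e)
  have m1 : ![(1, 0), (2, 0), 0] ∈ F.bar (QO (F.φ ⟨α, 0⟩)) := by
    convert F.mvE h3 (k1 ![1, 2, 0] (by decide)) using 1; rw [h4]; decide +kernel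
  have m2 : ![0, (1, 0), (2, 0)] ∈ F.bar (QO (F.φ ⟨α, 0⟩)) := by
    convert F.mvE h3 (k1 ![0, 1, 2] (by decide)) using 1; rw [h4]; decide +kernel
  have m3 : (fun _ => (0, 1)) ∈ F.bar (QO (F.φ ⟨α, 0⟩)) := by
    convert F.mvE h1 (k1 ![2, 1, 0] (by decide)) using 1; rw [h2]; decide +kernel
  have iso : ∀ u ∈ F.bar (QO (F.φ ⟨α, 0⟩)), ω q.v u = 0 ∨ F.φ q ∉ QO (F.φ ⟨α, 0⟩) := fun u ⟨c, e⟩ =>
    or_iff_not_imp_right.2 fun k => F.comm_φφ.1 (F.cmD N.p e (not_not.1 k) (F.cmZ (F.φQ _) (F.φQ _)))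
  refine ⟨fun e => (Eb_perp _).2 ⟨(iso _ m1).resolve_right (· e), (iso _ m2).resolve_right (· e),
    (iso _ m3).resolve_right (· e)⟩, fun e => ?_⟩
  obtain ⟨c, k⟩ : q.v ∈ F.bar (QO (F.φ ⟨α, 0⟩)) := by
    convert add_mem (add_mem (ZMod.smul_mem m1 (q.v 0).1) (ZMod.smul_mem m2 (-(q.v 2).1))) (ZMod.smul_mem m3 (q.v 0).2) using 1
    revert e; generalize q.v = v; revert v; decide +kernel
  have := mul_mem k (zpowers_le.2 (F.symmQ N.p).mem (F.φZ.2 (rfl : (⟨0, q.c - c⟩ : He).v = 0)))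
  rwa [← map_mul, show (⟨q.v, c⟩ : He) * ⟨0, q.c - c⟩ = q from He.ext (by simp) (by simp)] at this

theorem yE {h : G} (hh : h ∈ QO (F.φ ⟨α, 0⟩) ⊓ cz z) : Eb (F.y h) := by
  obtain ⟨c, n, e⟩ := N.cst hh
  have key : ∀ v, Eb v → ω (F.y h) v = 0 := fun v hv => by
    have h1 : Eb ((F.M h)⁻¹ • v) := by
      obtain ⟨c, n, e⟩ := N.cst (inv_mem hh)
      rw [← F.M_inv hh.2, e]; exact (Eb_un c n v).1 hv
    have h2 := (F.exF N.p.cj).some.cmZ hh.1 ((N.memE ⟨_, 0⟩).2 h1)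
    rw [F.act h hh.2, ← map_inv, ← map_mul, mem_zpowers_three (F.x3 N.p.cj), ← map_one F.φ, ← map_inv,
      F.inj.eq_iff, F.inj.eq_iff, F.inj.eq_iff] at h2
    rcases h2 with k | k | k <;> simpa [Eb_iso hv h1] using congrArg He.c k
  exact (Eb_perp _).2 ⟨key _ (by decide), key _ (by decide), key _ (by decide)⟩

theorem lift0 {h : G} (hh : h ∈ QO (F.φ ⟨α, 0⟩) ⊓ cz z) :
    ∃ k ∈ QO (F.φ ⟨α, 0⟩) ⊓ cz z, F.M k = F.M h ∧ F.y k = 0 :=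
  ⟨(F.φ ⟨F.y h, 0⟩)⁻¹ * h, mul_mem (inv_mem ⟨(N.memE _).2 (N.yE hh), F.φH _⟩) hh,
    by simp [← map_inv, F.M_mul (F.φH _) hh.2], by simp [← map_inv, F.y_mul (F.φH _) hh.2]⟩

theorem sp : SP z (F.φ ⟨α, 0⟩) := by
  obtain ⟨d, h3, h4⟩ := N.dl
  obtain ⟨e, h1, h2, h5⟩ := N.lift0 h3
  refine ⟨F.r 0 * F.φ ⟨α, 0⟩ * (F.r 0)⁻¹, e, N.p.cj.trans (isConj_iff.2 ⟨_, rfl⟩), ?_⟩
  rw [F.act0 (F.rH 0) (F.y_r 0), F.M_r, N.memE]
  exact ⟨⟨F.φQ _, F.comm_φφ.2 (by simp only [ω_sum]; decide +kernel)⟩, by decide +kernel, h1, fun k => absurd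
    (h4.symm.trans (h2.symm.trans (F.M_Q k))) (by decide +kernel),
    (F.comm_φ h1.2).2 ⟨by rw [h2, h4]; decide +kernel, by simp [h5]⟩⟩

end N1

/-- the normal form -/
structure NF (z : G) extends Fr z where
  s : G
  d : G
  sH : s ∈ cz z
  dH : d ∈ cz z
  Ms : M s = σ
  Md : M d = δ
  ys : y s = 0
  yd : y d = 0
  s3 : s ^ 3 = 1
  sd : s ∈ cz d
  dz : IsConj z d
  az : IsConj z (φ ⟨α, 0⟩)

namespace Fr
variable {z x : G} (F : Fr z)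
include F

theorem full {q : He} (h : IsConj z (F.φ q)) (h0 : q.v ≠ 0) : Full q.v := by
  obtain ⟨g, N⟩ := F.step1 ⟨h, F.φQ q, fun e => h0 (F.φZ.1 e)⟩
  refine (full_smul (g := g)).1 ?_
  rcases N.pm (q := ⟨g • q.v, q.c⟩) (by simp [rb_φ]) with e | e <;> rw [show g • q.v = _ from e] <;>
    unfold Full <;> decide

theorem spQ (p : QP z x) : SP z x := by
  obtain ⟨g, N⟩ := F.step1 p
  obtain ⟨h, h1, h2, N'⟩ := N.to_α
  simpa [mul_assoc] using (h2 ▸ N'.sp : SP z (h * x * h⁻¹)).conj (inv_mem h1)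

theorem exNF (p : QP z x) : Nonempty (NF z) := by
  obtain ⟨g, N⟩ := F.step1 p
  obtain ⟨-, -, -, N⟩ := N.to_α
  generalize F.rb g = F at N
  obtain ⟨F'⟩ := F.exF N.p.cj
  obtain ⟨j, e, h1, h2, h3, h4, h5, h6⟩ := F'.spQ (F.symmQ N.p)
  obtain ⟨q, rfl⟩ := F.exq h4.1
  rw [N.memE] at h5
  rw [mem_cz_comm, F.comm_φ h2.2] at h6
  obtain ⟨c, n, k1⟩ := N.cst h2
  obtain rfl : n = 0 := ((Eb_un c n _).2 (k1 ▸ h6.1)).resolve_left h5
  have c0 : c ≠ 0 := fun e => h3 (F.ker j h2.2 (by rw [k1, e]; rfl))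
  have k2 := N.yE h2
  have k3 : ∀ l, (q.v l).2 = 0 := fun l => by simpa [k1, un0_smul, c0] using congrArg Prod.fst (congrFun h6.1 l)
  have k4 : (F.y j 0).2 = 0 := by
    have := h6.2
    simp only [ω_sum, Fin.sum_univ_three, w2, k3, k2.2.1, k2.2.2, Eb, and_true] at this h5
    refine (mul_eq_zero.1 ?_).resolve_right h5
    linear_combination -this
  have k5 : ∀ l, (F.y j l).2 = 0 := fun l => by fin_cases l; exacts [k4, k2.2.1.trans k4, k2.2.2.trans k4]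
  let u : He := ⟨fun l => (0, c * (F.y j l).1), 0⟩
  have k6 : F.φ u ∈ cz (F.φ ⟨α, 0⟩) := F.comm_φφ.2 (by
    simp only [ω_sum, Fin.sum_univ_three, w2, α, u]; linear_combination c * k2.1)
  have k7 : F.φ u * j * (F.φ u)⁻¹ ∈ QO (F.φ ⟨α, 0⟩) ⊓ cz z := ⟨QO_conj k6 h2.1, F.cjH (F.φH u) h2.2⟩
  have k8 : F.y (F.φ u * j * (F.φ u)⁻¹) = 0 := F.to_y0 h2.2 (funext fun l => Prod.ext (by
    simp [k1, un0_smul, ← mul_assoc, (show ∀ c : Z3, c ≠ 0 → c * c = 1 by decide) _ c0]) (by simp [k1, un0_smul, k5]))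
  have k9 : IsConj z (F.φ u * j * (F.φ u)⁻¹) := N.p.cj.trans (h1.trans (isConj_iff.2 ⟨_, rfl⟩))
  have zi : IsConj z z⁻¹ := N.p.cj.trans ((isConj_iff.2 ⟨F.w, (F.act_w _).trans (by
    rw [← map_inv]; exact congrArg _ (He.ext rfl (by simp)))⟩).trans (cj_inv N.p.cj.symm))
  obtain ⟨d, d1, d2, d3, d4⟩ : ∃ d ∈ QO (F.φ ⟨α, 0⟩) ⊓ cz z, F.M d = δ ∧ F.y d = 0 ∧ IsConj z d := by
    have e := (F.M_cjφ u h2.2).trans k1
    rcases (show ∀ c : Z3, c ≠ 0 → c = 1 ∨ c = -1 by decide) c c0 with rfl | rfl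
    · exact ⟨_, k7, e, k8, k9⟩
    · exact ⟨_, inv_mem k7, by rw [F.M_inv k7.2, e]; decide +kernel, by rw [F.y_inv k7.2, k8]; simp, zi.trans (cj_inv k9)⟩
  obtain ⟨s, s1, s2⟩ := N.sg
  obtain ⟨s, s1, s3, s4⟩ := N.lift0 s1
  exact ⟨⟨F, s, d, s1.2, d1.2, s3.trans s2, d2, s4, d3, F'.Q3 s1.1, F.cmD N.p s1.1 d1.1 (F.memZ
    (mul_mem (F.cjH s1.2 d1.2) (inv_mem d1.2)) (by
      rw [F.M_mul (F.cjH s1.2 d1.2) (inv_mem d1.2), F.M_cj s1.2 d1.2, F.M_inv d1.2, F.abIm N.p s1 d1]; simp) (by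
      simp [F.y_mul (F.cjH s1.2 d1.2) (inv_mem d1.2), F.y_cj s1.2 d1.2, F.y_inv d1.2, s4, d3])), d4, N.p.cj⟩⟩

end Fr

end CL.F3
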