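import Mathlib
import Cfsg.Agent.PERM.F3.ExA
import Cfsg.Agent.SIG.FStar

/-!
Existence of the frame.

Proof.  `Z(H)` has order 3 (`hZZ`, `hQex`), `Z = zpowers z`, `H = cz z`
(`cent_zp`); `Q = pCore 3 H` (`fstar_eq_pCore_iff_isPGroup`), `C_H(Q) ≤ Q` (`centralizer_fstar_le`).
1. In `Qᵢ`: commutators and cubes lie in `zpowers z` (`McL3.es`, Frattini = centre); the element `xᵢ` of
   `hcent` inverts `Qᵢ / Z` and fixes cubes, so `Qᵢ` has exponent 3.  Take `aᵢ, bᵢ ∈ Qᵢ` with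
   `aᵢ bᵢ = z bᵢ aᵢ` (non-commuting pair, invert `bᵢ` if necessary).  With `eᵢ (s,t) = aᵢ^s bᵢ^t z^(s t)`
   one has `eᵢ p * eᵢ q = eᵢ (p + q) * z^(2 * w2 p q)`; `φ ⟨v, c⟩ = e₀ (v 0) e₁ (v 1) e₂ (v 2) z^c` is a
   homomorphism `He →* G`, injective (the kernel meets the centre `⟨0, c⟩` trivially; use `He.comm`,
   `ω_nd`), with range `Q` by order (`card_He`); `Qᵢ = {φ ⟨Pi.single i p, c⟩}` by order.
2. For `h ∈ H` conjugation is `φ q ↦ φ ⟨m q.v, q.c + l q.v⟩` with `m` additive preserving `ω` and `l`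
   additive; `l v = ω y (m v)` for `y j = (l (m⁻¹ vb j), - l (m⁻¹ va j))` (`ω_va`, `ω_vb`).
   `h xᵢ h⁻¹ ∈ P` has square acting trivially on `Q / Z`, so by `hnorm`, `hinv` it acts as `±1` on each
   plane; its `-1`-eigenspace has 9 elements like that of `xᵢ`, so it is `fl j`; put `π i = j`
   (injective).  Then `m` maps plane `i` onto plane `π i` by a matrix of determinant one, which is some
   `blk x k` (decide).  This gives `M h`; define `y`, `M` by choice.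
3. `ker`: if `M h = 1` then `φ ⟨-y h, 0⟩ * h` centralises `Q`.  `efl`: `M xᵢ = fl i` (`ext_smul`).
   `card`: `h ∈ P ↔ M h ∈ Bs` (→: `hnorm`, `hexp4`, `(blk x k)^4 = 1 → k = 0`; ←: the preimage of `Bs`
   is normal and a 2-group modulo `Q`, `pBs`); `M` induces an injective homomorphism on `H ⧸ Q`.
-/

set_option autoImplicit false
open Subgroup Cfsg
open CL.Odd hiding e3

namespace CL.F3

/-- the frame inside the centralizer -/
theorem ExA.frame {X : Type*} [Group X] [Finite X] (Q : Subgroup X) [Q.Normal] (hQc : centralizer (Q : Set X) ≤ Q)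
    (hQ : Nat.card Q = 3 ^ 7) {z : X} (hz : center X = zpowers z) (h1 : z ≠ 1) (h3 : z ^ 3 = 1) (P : Subgroup X)
    (hP : P = (pCore 2 (X ⧸ Q)).comap (QuotientGroup.mk' Q)) (hPc : Nat.card (pCore 2 (X ⧸ Q)) = 2 ^ 7)
    (R : Fin 3 → Subgroup X) (hle : ∀ i, R i ≤ Q) (hzR : ∀ i, z ∈ R i) (hex : ∀ i, IsExtraspecial 3 (R i))
    (hcard : ∀ i, Nat.card (R i) = 27) (hcomm : ∀ i j, i ≠ j → ∀ a ∈ R i, ∀ b ∈ R j, a * b = b * a)
    (hnorm : ∀ x ∈ P, ∀ i, ∀ q ∈ R i, x * q * x⁻¹ ∈ R i)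
    (hexp : ∀ x ∈ P, ∀ i, ∀ q ∈ R i, x ^ 4 * q * (x ^ 4)⁻¹ * q⁻¹ ∈ center X)
    (hinv : ∀ x ∈ P, ∀ i, (∀ q ∈ R i, x ^ 2 * q * (x ^ 2)⁻¹ * q⁻¹ ∈ center X) →
      (∀ q ∈ R i, x * q * x⁻¹ * q⁻¹ ∈ center X) ∨ ∀ q ∈ R i, x * q * x⁻¹ * q ∈ center X)
    (hcent : ∀ i, ∃ x ∈ P, (∀ q ∈ R i, x * q * x⁻¹ * q ∈ center X) ∧
      ∀ j, R j ≠ R i → ∀ q ∈ R j, x * q * x⁻¹ * q⁻¹ ∈ center X) :
    ∃ (φ : He →* X) (y : X → V) (M : X → Wr), Function.Injective φ ∧ φ ⟨0, 1⟩ = z ∧ φ.range = Q ∧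
      (∀ h q, h * φ q * h⁻¹ = φ (au (y h) (M h) q)) ∧ (∀ h, M h = 1 → h ∈ Q) ∧ (∀ i, ∃ h, M h = fl i) ∧
      Nat.card {g : Wr // g ∈ Bs ∧ ∃ h, M h = g} = 128 := by
  have hzc : ∀ g, Commute z g := fun g => (mem_center_iff.1 (hz.ge (mem_zpowers z)) g).symm
  choose x xP hx1 hx2 using hcent
  choose a ha b hb a3 b3 hab using fun i =>
    exists_ab (hex i) (hcard i) hzc h1 h3 (hzR i) fun q hq => hz ▸ hx1 i q hq
  have eR : ∀ i p, ee (a i) (b i) z p ∈ R i := fun i p =>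
    mul_mem (mul_mem (pow_mem (ha i) _) (pow_mem (hb i) _)) (pow_mem (hzR i) _)
  obtain ⟨φ, hφ⟩ := exists_hom hzc h3 (fun i => ee (a i) (b i) z) (fun i => ee_mul hzc h3 (a3 i) (b3 i) (hab i))
    fun i j n p q => hcomm i j n _ (eR i p) _ (eR j q)
  have φ0 : ∀ c, φ ⟨0, c⟩ = pw z c := fun c => by simp [hφ]
  have hi : Function.Injective φ := inj fun c e => (ZMod.val_eq_zero c).1 (Nat.eq_zero_of_dvd_of_lt
    ((orderOf_eq_prime h3 h1).symm.dvd.trans (orderOf_dvd_of_pow_eq_one ((φ0 c).symm.trans e))) c.val_lt)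
  have φR : ∀ i p c, φ ⟨Pi.single i p, c⟩ ∈ R i := fun i p c => by
    have := mul_mem (eR i p) (pow_mem (hzR i) c.val)
    rw [hφ]; fin_cases i <;> simpa [pw] using this
  have rng : φ.range = Q := eq_of_le_of_card_ge (by
    rintro _ ⟨q, rfl⟩
    exact hφ q ▸ mul_mem (mul_mem (mul_mem (hle 0 (eR _ _)) (hle 1 (eR _ _))) (hle 2 (eR _ _)))
      (pow_mem (hle 0 (hzR 0)) _)) (by rw [hQ, ← card_He, Nat.card_congr (MonoidHom.ofInjective hi).toEquiv])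
  have cm : ∀ {p q}, φ p * φ q = φ q * φ p → ω p.v q.v = 0 := fun e =>
    He.comm.1 (hi (by rw [map_mul, map_mul, e]))
  have cen : ∀ q, φ q ∈ center X ↔ q.v = 0 := fun q =>
    ⟨fun e => ω_nd fun u => cm (q := ⟨u, 0⟩) (mem_center_iff.1 e _).symm, fun e => by
      rw [show q = ⟨0, q.c⟩ from He.ext e rfl, φ0, hz]; exact pow_mem (mem_zpowers z) _⟩
  have Rφ : ∀ i q, φ q ∈ R i → ∀ j ≠ i, q.v j = 0 := fun i q hq j n =>
    Prod.ext ((ω_vb _ j).symm.trans (cm (q := ⟨vb j, 0⟩) (hcomm i j n.symm _ hq _ (φR j _ _))))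
      (neg_eq_zero.1 ((ω_va _ j).symm.trans (cm (q := ⟨va j, 0⟩) (hcomm i j n.symm _ hq _ (φR j _ _)))))
  have ne : ∀ i j, j ≠ i → R j ≠ R i := fun i j n e => absurd ((Pi.single_eq_same j _).symm.trans (Rφ i _ (e ▸ φR j (1, 0) 0) j n)) (by decide)
  have cj : ∀ h, ∃ (m : V →+ V) (y : V), (∀ u v, ω (m u) (m v) = ω u v) ∧
      ∀ q, h * φ q * h⁻¹ = φ ⟨m q.v, q.c + ω y (m q.v)⟩ := fun h => by
    let α := (MonoidHom.ofInjective hi).symm.toMonoidHom.comp (((MulAut.conj h).toMonoidHom.comp φ).codRestrict φ.range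
      fun q => rng ▸ Normal.conj_mem inferInstance _ (rng ▸ ⟨q, rfl⟩) h)
    have e : ∀ q, φ (α q) = h * φ q * h⁻¹ := fun q => MonoidHom.apply_ofInjective_symm hi _
    obtain ⟨m, y, k1, k2⟩ := aut α (hi (by rw [e, φ0, pw_one, ← (hzc h).eq, mul_inv_cancel_right]))
    exact ⟨m, y, k1, fun q => by rw [← e, k2]⟩
  choose m y hm act using cj
  have m1 : ∀ v, m 1 v = v := fun v => congrArg He.v (hi (a₂ := ⟨v, 0⟩) ((act 1 ⟨v, 0⟩).symm.trans (by simp)))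
  have mm : ∀ g h v, m (g * h) v = m g (m h v) := fun g h v => (congrArg He.v (hi ((act (g * h) ⟨v, 0⟩).symm.trans
    (by rw [show g * h * φ ⟨v, 0⟩ * (g * h)⁻¹ = g * (h * φ ⟨v, 0⟩ * h⁻¹) * g⁻¹ by group, act h, act g]))) :)
  have t1 : ∀ h q, h * φ q * h⁻¹ * (φ q)⁻¹ ∈ center X ↔ m h q.v = (1 : Z3) • q.v := fun h q => by
    rw [act, ← map_inv, ← map_mul, cen, one_smul]; exact add_neg_eq_zero
  have t2 : ∀ h q, h * φ q * h⁻¹ * φ q ∈ center X ↔ m h q.v = (-1 : Z3) • q.v := fun h q => by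
    rw [act, ← map_mul, cen, neg_one_smul]; exact add_eq_zero_iff_eq_neg
  have xs : ∀ i v, m (x i) v = fl i • v := fun i v => funext fun j => by
    rw [diag (s := fun j => if j = i then -1 else 1) fun j p => ?_, fl_smul]
    · split_ifs <;> simp
    · split_ifs with e
      · exact (t2 _ ⟨_, 0⟩).1 (hx1 i _ (e ▸ φR j p 0))
      · exact (t1 _ ⟨_, 0⟩).1 (hx2 i j (ne i j e) _ (φR j p 0))
  have nP : P.Normal := hP ▸ inferInstance
  have wr : ∀ h, ∃ g : Wr, ∀ v, m h v = g • v := fun h => by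
    have : ∀ i j, ∃ s : Z3, (s = 1 ∨ s = -1) ∧ ∀ p, m (h * x i * h⁻¹) (Pi.single j p) = s • Pi.single j p := fun i j =>
      (hinv _ (nP.conj_mem _ (xP i) h) j fun q hq => by
        obtain ⟨q, rfl⟩ := rng.ge (hle j hq)
        rw [t1, conj_pow, pow_two, mm, mm, mm, xs, xs, ← mul_smul, fl_sq, one_smul, ← mm, mul_inv_cancel, m1,
          one_smul]).elim (fun k => ⟨1, .inl rfl, fun p => (t1 _ ⟨_, 0⟩).1 (k _ (φR j p 0))⟩)
        fun k => ⟨-1, .inr rfl, fun p => (t2 _ ⟨_, 0⟩).1 (k _ (φR j p 0))⟩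
    choose s hs k using this
    exact exists_wr (hm h) s hs fun i v j => by rw [← diag (k i), ← mm, inv_mul_cancel_right, mm, xs]
  choose M hM using wr
  have act' : ∀ h q, h * φ q * h⁻¹ = φ (au (y h) (M h) q) := fun h q => by rw [act, hM]; rfl
  have ker : ∀ h, M h = 1 → h ∈ Q := fun h e => (Q.mul_mem_cancel_left (rng.le ⟨⟨-y h, 0⟩, rfl⟩)).1 (hQc (by
    intro g hg
    obtain ⟨q, rfl⟩ := rng.ge hg
    rw [eq_comm, ← mul_inv_eq_iff_eq_mul, mul_inv_rev, mul_assoc, mul_assoc, ← mul_assoc (φ q), ← mul_assoc h,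
      ← mul_assoc h, act', e, ← map_inv, ← map_mul, ← map_mul, ← mul_assoc, He.cj]
    exact congrArg φ (He.ext (by simp) (by simp))))
  let Mh : X →* Wr := MonoidHom.mk' M fun g h => ext_smul fun v => by rw [mul_smul, ← hM, ← hM, ← hM, mm]
  have kQ : Q = Mh.ker := le_antisymm (fun g hg => by
    obtain ⟨q, rfl⟩ := rng.ge hg
    refine ext_smul fun v => (congrArg He.v (hi ((act' _ ⟨v, 0⟩).symm.trans ?_)) : _ = (au q.v 1 ⟨v, 0⟩).v)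
    rw [← map_inv, ← map_mul, ← map_mul, He.cj]) ker
  let f := QuotientGroup.lift Q Mh kQ.le
  have fi : Function.Injective f := (QuotientGroup.injective_lift_iff _ _ _).2 kQ
  refine ⟨φ, y, M, hi, (φ0 1).trans (pw_one z), rng, act', ker, fun i => ⟨x i, ext_smul fun v => by rw [← hM, xs]⟩, ?_⟩
  have toB : ∀ g ∈ P, M g ∈ Bs := fun g hg => by
    have e1 : (M g).π = 1 := Equiv.ext fun i => by_contra fun n => by
      have := Rφ i _ (act' g _ ▸ hnorm g hg i _ (φR i (1, 0) 0)) _ n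
      simpa using ap_ne _ _ _ this
    have e2 : M g ^ 4 = 1 := (map_pow Mh g 4).symm.trans (ext_smul fun v => funext fun j => by
      rw [one_smul, ← one_smul Z3 (v j), ← diag fun j p => (t1 _ ⟨_, 0⟩).1 (hexp g hg j _ (φR j p 0)), hM]; rfl)
    refine ⟨funext fun j => ?_, e1⟩
    have := congrFun (congrArg Wr.k e2) j
    simpa [pow_succ, e1, three_z] using this
  refine Eq.trans (Nat.card_congr (Equiv.ofBijective (fun g : pCore 2 (X ⧸ Q) =>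
    (⟨f g, ?_⟩ : {g : Wr // g ∈ Bs ∧ ∃ h, M h = g})) ⟨fun g g' e => Subtype.ext (fi (congrArg Subtype.val e)), ?_⟩)).symm hPc
  · obtain ⟨g, hg⟩ := g
    obtain ⟨g, rfl⟩ := QuotientGroup.mk_surjective g
    exact ⟨toB g (hP ▸ hg), g, rfl⟩
  · rintro ⟨_, hg, h, rfl⟩
    exact ⟨⟨h, le_sSup (s := {N : Subgroup (X ⧸ Q) | N.Normal ∧ IsPGroup 2 N}) (a := Bs.comap f)
      ⟨inferInstance, pBs.comap_of_injective f fi⟩ hg⟩, rfl⟩

theorem exists_fr {G : Type*} [Group G] [Finite G]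
    (H : Subgroup G) (Q : Subgroup H) (hQF : Q = Cfsg.generalizedFittingSubgroup H) [hQn : Q.Normal]
    (hQex : Cfsg.IsExtraspecial 3 Q) (hQcard : Nat.card Q = 3 ^ 7)
    (hZZ : (Subgroup.center Q).map Q.subtype = Subgroup.center H)
    (P : Subgroup H) (hP : P = (Cfsg.pCore 2 (H ⧸ Q)).comap (QuotientGroup.mk' Q))
    (hPcard : Nat.card (Cfsg.pCore 2 (H ⧸ Q)) = 2 ^ 7)
    (Q₁ Q₂ Q₃ : Subgroup H) (hle : Q₁ ≤ Q ∧ Q₂ ≤ Q ∧ Q₃ ≤ Q)
    (hZle : Subgroup.center H ≤ Q₁ ∧ Subgroup.center H ≤ Q₂ ∧ Subgroup.center H ≤ Q₃)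
    (hex : Cfsg.IsExtraspecial 3 Q₁ ∧ Cfsg.IsExtraspecial 3 Q₂ ∧ Cfsg.IsExtraspecial 3 Q₃)
    (hcard : Nat.card Q₁ = 27 ∧ Nat.card Q₂ = 27 ∧ Nat.card Q₃ = 27)
    (hcomm : (∀ a ∈ Q₁, ∀ b ∈ Q₂, a * b = b * a) ∧ (∀ a ∈ Q₁, ∀ b ∈ Q₃, a * b = b * a) ∧ (∀ a ∈ Q₂, ∀ b ∈ Q₃, a * b = b * a))
    (hprod : Q₁ ⊔ Q₂ ⊔ Q₃ = Q)
    (hnorm : ∀ x ∈ P, ∀ Qᵢ ∈ [Q₁, Q₂, Q₃], ∀ q ∈ Qᵢ, x * q * x⁻¹ ∈ Qᵢ)
    (hexp4 : ∀ x ∈ P, ∀ Qᵢ ∈ [Q₁, Q₂, Q₃], ∀ q ∈ Qᵢ, x ^ 4 * q * (x ^ 4)⁻¹ * q⁻¹ ∈ Subgroup.center H)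
    (hinv : ∀ x ∈ P, ∀ Qᵢ ∈ [Q₁, Q₂, Q₃], (∀ q ∈ Qᵢ, x ^ 2 * q * (x ^ 2)⁻¹ * q⁻¹ ∈ Subgroup.center H) →
      (∀ q ∈ Qᵢ, x * q * x⁻¹ * q⁻¹ ∈ Subgroup.center H) ∨ (∀ q ∈ Qᵢ, x * q * x⁻¹ * q ∈ Subgroup.center H))
    (hcent : ∀ Qᵢ ∈ [Q₁, Q₂, Q₃], ∃ x ∈ P, (∀ q ∈ Qᵢ, x * q * x⁻¹ * q ∈ Subgroup.center H) ∧
      ∀ Qⱼ ∈ [Q₁, Q₂, Q₃], Qⱼ ≠ Qᵢ → ∀ q ∈ Qⱼ, x * q * x⁻¹ * q⁻¹ ∈ Subgroup.center H)
    (Z : Subgroup G) (hZ : Z = (Subgroup.center H).map H.subtype) (hHC : H = Subgroup.centralizer (Z : Set G)) :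
    ∃ z : G, Z = zpowers z ∧ H = cz z ∧ Nonempty (Fr z) := by
  have c3 : Nat.card (center H) = 3 := by
    rw [← hZZ, card_map_of_injective Q.subtype_injective]; exact hQex.2
  have : Nontrivial (center H) := Finite.one_lt_card_iff_nontrivial.1 (by omega)
  obtain ⟨⟨⟨z, hzH⟩, hz⟩, h1⟩ := exists_ne (1 : center H)
  have h1' : (⟨z, hzH⟩ : H) ≠ 1 := fun e => h1 (Subtype.ext e)
  have h3 : (⟨z, hzH⟩ : H) ^ 3 = 1 := congrArg Subtype.val (c3 ▸ pow_card_eq_one' (x := (⟨_, hz⟩ : center H)))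
  have hz' : center H = zpowers ⟨z, hzH⟩ :=
    (eq_of_le_of_card_ge (zpowers_le.2 hz) (by rw [c3, card_zpowers_three h1' h3])).symm
  have eZ : Z = zpowers z := by rw [hZ, hz', MonoidHom.map_zpowers]; rfl
  have eH : H = cz z := by rw [hHC, eZ, McL3.cent_zp]
  refine ⟨z, eZ, eH, ?_⟩
  have hm : ∀ i, ![Q₁, Q₂, Q₃] i ∈ [Q₁, Q₂, Q₃] := fun i => by fin_cases i <;> simp
  obtain ⟨φ, y, M, k1, k2, k3, k4, k5, k6, k7⟩ := ExA.frame Q (hQF ▸ Comp.centralizer_fstar_le) hQcard hz' h1' h3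
    P hP hPcard ![Q₁, Q₂, Q₃] (fun i => by fin_cases i; exacts [hle.1, hle.2.1, hle.2.2])
    (fun i => by fin_cases i; exacts [hZle.1 hz, hZle.2.1 hz, hZle.2.2 hz])
    (fun i => by fin_cases i; exacts [hex.1, hex.2.1, hex.2.2])
    (fun i => by fin_cases i; exacts [hcard.1, hcard.2.1, hcard.2.2])
    (fun i j n a ha b hb => by
      fin_cases i <;> fin_cases j
      exacts [absurd rfl n, hcomm.1 a ha b hb, hcomm.2.1 a ha b hb, (hcomm.1 b hb a ha).symm, absurd rfl n,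
        hcomm.2.2 a ha b hb, (hcomm.2.1 b hb a ha).symm, (hcomm.2.2 b hb a ha).symm, absurd rfl n])
    (fun x hx i => hnorm x hx _ (hm i)) (fun x hx i => hexp4 x hx _ (hm i)) (fun x hx i => hinv x hx _ (hm i))
    (fun i => (hcent _ (hm i)).imp fun x hx => ⟨hx.1, hx.2.1, fun j => hx.2.2 _ (hm j)⟩)
  have eQ : Q = pCore 3 H := hQF.trans (Comp.fstar_eq_pCore_iff_isPGroup.2 (hQF ▸ hQex.1.1))
  clear hHC hZ eZ
  subst eH
  classical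
  exact ⟨{ φ := (cz z).subtype.comp φ
           y := fun h => if hh : h ∈ cz z then y ⟨h, hh⟩ else 0
           M := fun h => if hh : h ∈ cz z then M ⟨h, hh⟩ else 1
           inj := (cz z).subtype_injective.comp k1
           hz := congrArg Subtype.val k2
           rng := by rw [MonoidHom.range_comp, k3, eQ]; rfl
           act := fun h hh q => by rw [dif_pos hh, dif_pos hh]; exact congrArg Subtype.val (k4 ⟨h, hh⟩ q)
           ker := fun h hh e => ⟨⟨h, hh⟩, eQ ▸ k5 _ ((dif_pos hh).symm.trans e), rfl⟩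
           efl := fun i => let ⟨h, e⟩ := k6 i; ⟨h, h.2, (dif_pos h.2).trans e⟩
           card := k7 ▸ Nat.card_congr (Equiv.subtypeEquivRight fun _ => and_congr_right fun _ =>
             ⟨fun ⟨h, hh, e⟩ => ⟨⟨h, hh⟩, (dif_pos hh).symm.trans e⟩, fun ⟨h, e⟩ => ⟨h, h.2, (dif_pos h.2).trans e⟩⟩) }⟩

end CL.F3
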