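import Mathlib
import Cfsg.Agent.PERM.F3.P2

/-! The image of the three-centralizer in normal form. -/

set_option autoImplicit false
set_option linter.unusedSectionVars false
set_option synthInstance.maxSize 8192
set_option maxRecDepth 100000
open Subgroup CL.McL3 CL.MSS CL.C3 QuaternionGroup Equiv Cfsg
open CL.Odd hiding e3

namespace CL.F3

/-- the Sylow 3-subgroup of the image -/
def Tb : Subgroup Wr := sub (fun g => ∃ c n, g = un (fun _ => c) n) ⟨0, 0, rfl⟩ (by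
  rintro _ _ ⟨c, n, rfl⟩ ⟨c', n', rfl⟩
  revert c n c' n'; decide +kernel)

theorem un_c : ∀ c n : Z3, un (fun _ => c) n = σ ^ n.val * δ ^ c.val := by decide +kernel
theorem card_Tb : Nat.card Tb = 9 := by
  rw [card_of (H := Tb) (fun p : Z3 × Z3 => un (fun _ => p.1) p.2) (by decide +kernel)
    fun g => ⟨fun ⟨k, n, e⟩ => ⟨(k, n), e.symm⟩, fun ⟨p, e⟩ => ⟨_, _, e.symm⟩⟩]
  simp
theorem iso_Tb (c n : Z3) (h : un (fun _ => c) n ≠ 1) {u v : V} (hu : un (fun _ => c) n • u = u)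
    (hv : un (fun _ => c) n • v = v) : ω u v = 0 := by
  by_cases e : n = 0
  · subst e
    have c0 : c ≠ 0 := fun e => h (by rw [e]; rfl)
    have k : ∀ v : V, un (fun _ => c) 0 • v = v → ∀ l, (v l).2 = 0 := fun v e l => by
      simpa [un0_smul, c0] using congrArg Prod.fst (congrFun e l)
    simp [ω_sum, w2, k u hu, k v hv]
  · exact Eb_iso (((Eb_un c n u).2 hu).resolve_right e) (((Eb_un c n v).2 hv).resolve_right e)
theorem fix_Tb : ∀ c n : Z3, 9 ≤ Fintype.card {v : V // un (fun _ => c) n • v = v} := by decide +kernel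

theorem nd_inv {t : Wr} (t2 : t * t = 1) {v : V} (hv : t • v = v) (h : ∀ u, t • u = u → ω v u = 0) : v = 0 :=
  ω_nd fun u => by
    have := h (u + t • u) (by rw [smul_add, ← mul_smul, t2, one_smul, add_comm])
    rw [ω_add_right, ← hv, ω_smul, hv] at this
    exact (show ∀ c : Z3, c + c = 0 → c = 0 by decide) _ this

theorem cen_of {N : Subgroup Wr} (h : ∀ i, fl i ∈ N) {x y : Fin 3 → Q8} (hy : bs y ∈ N) (hx : ∀ j, Cn (x j * y j)) :
    bs x ∈ N := by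
  have k : ∀ x : Fin 3 → Q8, (∀ j, Cn (x j)) → bs x = (if x 0 = 1 then 1 else F3.fl 0) *
    (if x 1 = 1 then 1 else F3.fl 1) * if x 2 = 1 then 1 else F3.fl 2 := by decide +kernel
  have : bs (fun j => x j * y j) ∈ N := by
    rw [k _ hx]
    refine mul_mem (mul_mem ?_ ?_) ?_ <;> split_ifs <;> first | exact one_mem _ | exact h _
  have := mul_mem this (inv_mem hy)
  rwa [bs_inv, ← bs_mul, show (fun j => x j * y j) * y⁻¹ = x from funext fun j => by simp] at this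

theorem cm_δ {N : Subgroup Wr} (hd : δ ∈ N) {g : Wr} (hg : g * δ * g⁻¹ ∈ N) :
    ∃ y, bs y ∈ N ∧ ∀ j, Cn (g.a j * y j) := by
  have e : g * δ * g⁻¹ * δ⁻¹ = bs fun j => g.a j * sk 1 (g.a j)⁻¹ := by
    refine Wr.ext (funext fun j => ?_) (funext fun j => ?_) ?_ <;> simp [δ, un, bs, ← sk_add]
  have := mul_mem (mul_mem hd (mul_mem hg (inv_mem hd))) (inv_mem hd)
  rw [e, cj_bs] at this
  refine ⟨_, this, fun j => ?_⟩
  simp only [δ, un, Pi.one_apply, ZMod.val_zero, pow_zero, inv_one, Perm.coe_one, id]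
  generalize g.a j = x; revert x; decide +kernel

/-- the image in normal form -/
structure HS (B : Subgroup Wr) : Prop extends HW B where
  hs : σ ∈ B
  hd : δ ∈ B

namespace HS
variable {B : Subgroup Wr} (h : HS B)
include h

theorem Tb_le : Tb ≤ B := by
  rintro _ ⟨c, n, rfl⟩
  exact un_c c n ▸ mul_mem (pow_mem h.hs _) (pow_mem h.hd _)

theorem syl : SylIn 3 Tb B := by
  obtain ⟨P, hP⟩ := exists_sylIn 3 B
  exact hP.of_card_le (IsPGroup.of_card (n := 2) card_Tb) h.Tb_le (card_Tb ▸ h.nine hP.le hP.pgroup)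

theorem toT {g : Wr} (hg : g ∈ B) {k : ℕ} (h3 : g ^ 3 ^ k = 1) : ∃ x ∈ B, ∃ c n, x * g * x⁻¹ = un (fun _ => c) n :=
  let ⟨x, h1, h2⟩ := h.syl.exists_conj_le (isPGroup_zpowers h3) (zpowers_le.2 hg)
  ⟨x, h1, h2 (conj_mem_cj (mem_zpowers g))⟩

theorem iso3 {g : Wr} (hg : g ∈ B) {k : ℕ} (h3 : g ^ 3 ^ k = 1) (h1 : g ≠ 1) {u v : V} (hu : g • u = u)
    (hv : g • v = v) : ω u v = 0 := by
  obtain ⟨x, -, c, n, e⟩ := h.toT hg h3
  rw [← ω_smul x]
  exact iso_Tb c n (by simpa [← e] using h1) (by simp [← e, mul_smul, hu]) (by simp [← e, mul_smul, hv])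

theorem noLi (i : Fin 3) : ¬ Li B i := fun l => h.not_all fun j => by
  refine h.all_i ?_ h.hd rfl (by simp [δ, un])
  rcases (show ∀ i j : Fin 3, j = i ∨ j = σ.π i ∨ j = σ.π (σ.π i) by decide +kernel) i j with rfl | rfl | rfl
  exacts [l, l.cj h.hs, (l.cj h.hs).cj h.hs]

theorem k0 {g : Wr} (hg : g ∈ B) (h1 : g.π = 1) {j : Fin 3} (h0 : g.k j = 0) : g.k = 0 :=
  by_contra fun n => h.full_k h.hs (by decide +kernel) hg h1 n j h0

theorem abs {g : Wr} (hg : g ∈ B) : bs g.a ∈ B :=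
  let ⟨_, h1, h2⟩ := cm_δ h.hd (mul_mem (mul_mem hg h.hd) (inv_mem hg)); h.cen' h1 h2

theorem dec {g : Wr} (hg : g ∈ B) (h1 : g.π = 1) : g = bs g.a * δ ^ (g.k 0).val := by
  have e := h.k0 (mul_mem hg (inv_mem (h.Tb_le ⟨g.k 0, 0, rfl⟩))) (by simp [h1, un]) (j := 0) (by simp [un])
  rw [← one_mul (δ ^ _), ← pow_zero σ, ← ZMod.val_zero (n := 3), ← un_c]
  exact Wr.ext (funext fun j => by simp [bs, un]) (funext fun j => by
    simpa [bs, un, add_neg_eq_zero] using congrFun e j) (by simp [bs, un, h1])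

theorem one_of {i : Fin 3} {x : Fin 3 → Q8} (hx : bs x ∈ B) (h1 : ∀ j ≠ i, x j = 1) : bs x = 1 ∨ bs x = F3.fl i := by
  rcases (by_contra fun n => h.noLi i ⟨x, hx, n, fun j hj => .inl (h1 j hj)⟩ : Cn (x i)) with e | e
  · exact .inl (congrArg bs (funext fun j => by by_cases k : j = i <;> simp [k, e, h1]))
  · exact .inr (congrArg bs (funext fun j => by by_cases k : j = i <;> simp [k, e, h1]))

theorem surj (i : Fin 3) (p : Fin 3 → Q8) : ∃ x, bs x ∈ B ∧ ∀ j ≠ i, x j = p j := by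
  let f : (B ⊓ Bs : Subgroup Wr) →* ({j // j ≠ i} → Q8) := MonoidHom.mk' (fun g j => g.1.a j) fun g g' =>
    funext fun j => by simp [g.2.2.1, g.2.2.2]
  have h1 := f.ker.card_mul_index
  have h2 : Nat.card f.ker ≤ 2 := (Nat.card_le_card_of_injective (fun g : f.ker => decide (g.1.1 = 1)) fun g g' e => by
    have k : ∀ g : f.ker, g.1.1 = 1 ∨ g.1.1 = F3.fl i := fun g => eq_bs g.1.2.2 ▸
      h.one_of (eq_bs g.1.2.2 ▸ g.1.2.1) fun j hj => congrFun g.2 ⟨j, hj⟩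
    refine Subtype.ext (Subtype.ext ?_)
    rw [decide_eq_decide] at e
    by_cases e' : g.1.1 = 1
    exacts [e'.trans (e.1 e').symm, ((k g).resolve_left e').trans ((k g').resolve_left (mt e.2 e')).symm]).trans (by simp)
  rw [index_ker, h.card] at h1
  have h3 : f.range = ⊤ := eq_top_of_le_card _ (by
    rw [show Nat.card ({j // j ≠ i} → Q8) = 64 by simp [QuaternionGroup.card]]; nlinarith)
  obtain ⟨g, e⟩ : (fun j : {j // j ≠ i} => p j.1) ∈ f.range := h3 ▸ mem_top _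
  exact ⟨g.1.a, eq_bs g.2.2 ▸ g.2.1, fun j hj => (congrFun e ⟨j, hj⟩ :)⟩

theorem gen {N : Subgroup Wr} (hd : δ ∈ N) (hn : ∀ x, bs x ∈ B → ∀ n ∈ N, bs x * n * (bs x)⁻¹ ∈ N)
    {g : Wr} (hg : g ∈ B) (h1 : g.π = 1) : g ∈ N := by
  have k : ∀ i, F3.fl i ∈ N := fun i => by
    obtain ⟨x, k1, k2⟩ := h.surj (sh i) (Pi.mulSingle i (a 1))
    obtain ⟨x', k3, k4⟩ := h.surj (sh (sh i)) (Pi.mulSingle i (xa 0))
    obtain ⟨y, k5, k6⟩ := cm_δ hd (hn x k1 _ hd)
    have := mul_mem (hn x' k3 _ k5) (inv_mem k5)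
    rw [bs_inv, bs_inv, ← bs_mul, ← bs_mul, ← bs_mul] at this
    convert this using 2
    refine congrArg bs (funext fun j => ?_)
    have k7 := k6 j
    have q1 : ∀ y : Q8, Cn (a 1 * y) → a 2 = xa 0 * y * (xa 0)⁻¹ * y⁻¹ := by decide +kernel
    have q2 : ∀ p y : Q8, Cn (1 * y) → 1 = p * y * p⁻¹ * y⁻¹ := by decide +kernel
    have ne : ∀ i, i ≠ sh i ∧ i ≠ sh (sh i) ∧ sh i ≠ sh (sh i) := by decide
    simp only [bs, Pi.mul_apply, Pi.inv_apply] at k7 ⊢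
    rcases (show ∀ i j : Fin 3, j = i ∨ j = sh i ∨ j = sh (sh i) by decide) i j with rfl | rfl | rfl
    · rw [k2 _ (ne j).1, Pi.mulSingle_eq_same] at k7
      rw [k4 _ (ne j).2.1, Pi.mulSingle_eq_same, Pi.mulSingle_eq_same]; exact q1 _ k7
    · rw [k4 _ (ne i).2.2, Pi.mulSingle_eq_of_ne (ne i).1.symm, Pi.mulSingle_eq_of_ne (ne i).1.symm]; simp
    · rw [k2 _ (ne i).2.2.symm, Pi.mulSingle_eq_of_ne (ne i).2.1.symm] at k7
      rw [Pi.mulSingle_eq_of_ne (ne i).2.1.symm]; exact q2 _ _ k7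
  obtain ⟨y, k1, k2⟩ := cm_δ hd (hn _ (h.abs hg) _ hd)
  exact h.dec hg h1 ▸ mul_mem (cen_of k k1 k2) (pow_mem hd _)

theorem outer {g : Wr} (hg : g ∈ B) (h0 : g.π 0 = 0) (h1 : g.π ≠ 1) :
    ∃ c : Z3, (⟨1, ![0, c, -c], swap 1 2⟩ : Wr) ∈ B ∧ g.π = swap 1 2 := by
  have e : g.π = swap 1 2 := (show ∀ π : Perm (Fin 3), π 0 = 0 → π ≠ 1 → π = swap 1 2 by decide) _ h0 h1
  have k := mul_mem (mul_mem (inv_mem (h.abs hg)) hg) (inv_mem (h.Tb_le ⟨g.k 0, 0, rfl⟩))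
  have k1 := congrFun (h.k0 (mul_mem k k) (by simp [bs, un, e]) (j := 0) (by simp [bs, un, e, swap_apply_def])) 1
  refine ⟨g.k 1 - g.k 0, ?_, e⟩
  convert k using 1
  refine Wr.ext (funext fun j => by simp [bs, un]) (funext fun j => ?_) (by simp [bs, un, e])
  simp [bs, un, e] at k1
  fin_cases j <;> simp [bs, un, sub_eq_add_neg]
  linear_combination -k1

end HS

end CL.F3
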