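import Mathlib
import Cfsg.Agent.PERM.F3.HB

/-! Sylow 3-subgroups of involution centralizers and fusion of involutions. -/

set_option autoImplicit false
set_option linter.unusedSectionVars false
set_option synthInstance.maxSize 8192
set_option maxRecDepth 100000
open Subgroup CL.McL3 CL.MSS CL.C3 QuaternionGroup Equiv Cfsg
open CL.Odd hiding e3

namespace CL.F3

variable {G : Type*} [Group G] [Finite G]

theorem nz_Q {z n : G} (h : NZ z n) : n •ᶜ QO z = QO z := by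
  rw [← QO_cj]; rcases h with e | e <;> rw [e]; exact QO_inv z

theorem pz {g : G} (h : g ^ 3 = 1) : IsPGroup 3 (zpowers g) := isPGroup_zpowers (k := 1) h

namespace Fr
variable {z t : G} (F : Fr z)
include F

theorem nz_of {g : G} (h : g * z * g⁻¹ ∈ zpowers z) : NZ z g :=
  ((mem_zpowers_three F.z3).1 h).resolve_left (by simpa using F.z1)

theorem M2 (ht : t ∈ cz z) (t2 : t * t = 1) : F.M t * F.M t = 1 := by rw [← F.M_mul ht ht, t2, M_one]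

theorem fixy (ht : t ∈ cz z) (t2 : t * t = 1) (v : V) (e : F.M t • v = v) : ω (F.y t) v = 0 := by
  have := congrArg (ω · v) (F.y_mul ht ht)
  simp only [t2, y_one, ω_zero_left, ω_add_left] at this
  rw [← e, ω_smul, e] at this
  exact (show ∀ c : Z3, 0 = c + c → c = 0 by decide) _ this

theorem fixφ (ht : t ∈ cz z) (t2 : t * t = 1) {q : He} : F.φ q ∈ cz t ↔ F.M t • q.v = q.v :=
  (F.comm_φ ht).trans (and_iff_left_of_imp (F.fixy ht t2 _))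

theorem cardC (ht : t ∈ cz z) (h : ∀ v, F.M t • v = v → ω (F.y t) v = 0) :
    Nat.card (QO z ⊓ cz t : Subgroup G) = Fintype.card {v : V // F.M t • v = v} * 3 := by
  rw [card_of (fun q : {v : V // F.M t • v = v} × Z3 => F.φ ⟨q.1, q.2⟩) (fun q q' e => Prod.ext
    (Subtype.ext (congrArg He.v (F.inj e))) (congrArg He.c (F.inj e))) fun g => ⟨fun hg => ?_, ?_⟩]
  · simp
  · obtain ⟨q, rfl⟩ := F.exq hg.1
    exact ⟨(⟨_, ((F.comm_φ ht).1 hg.2).1⟩, q.c), rfl⟩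
  · rintro ⟨q, rfl⟩
    exact ⟨F.φQ _, (F.comm_φ ht).2 ⟨q.1.2, h _ q.1.2⟩⟩

theorem small (ht : t ∈ cz z) (h : ∀ v : V, F.M t • v = v → v = 0) {S : Subgroup G} (h1 : S ≤ cz z ⊓ cz t)
    (h2 : IsPGroup 3 S) : Nat.card S ≤ 27 := by
  have := F.nine (h1.trans inf_le_left) h2
  have := (card_le_of_le (show S ⊓ QO z ≤ zpowers z from fun g hg => by
    obtain ⟨q, rfl⟩ := F.exq hg.2
    exact F.φZ.2 (h _ ((F.comm_φ ht).1 (h1 hg.1).2).1))).trans F.cZ.le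
  omega

theorem invI (ht : t ∈ cz z) {n : G} (hn : NZ z n) (h : ∀ g ∈ F.Hb, (F.M t * (g * F.M t * g⁻¹)) ^ 2 = 1)
    {g : G} (hg : g ∈ cz z) : (n * t * n⁻¹ * (g * (n * t * n⁻¹) * g⁻¹)) ^ 2 ∈ QO z := by
  have k := conj_mem_of_normalizes' le_rfl hn.cent hg
  have m := mul_mem ht (F.cjH k ht)
  have := conj_mem_cj (g := n) (F.ker _ (pow_mem m 2) (by
    rw [F.M_pow m, F.M_mul ht (F.cjH k ht), F.M_cj k ht, h _ (F.M_mem k)]))
  rw [nz_Q hn, ← conj_pow] at this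
  convert this using 2; group

end Fr

namespace NF
variable {z t : G} (N : NF z)
include N

theorem hs : HS N.Hb := ⟨N.hw, N.Ms ▸ N.M_mem N.sH, N.Md ▸ N.M_mem N.dH⟩
theorem d3 : N.d ^ 3 = 1 := N.x3 N.dz
theorem dQ : N.d ∉ QO z := fun e => absurd (N.Md.symm.trans (N.M_Q e)) (by decide +kernel)
theorem dr (i : Fin 3) : N.d ∈ cz (N.r i) := (N.comm_r N.dH).2 ⟨by simp [N.Md, δ, un], by simp [N.yd]⟩

/-- conjugating the normal form -/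
def cj (g : G) : NF (g * z * g⁻¹) where
  toFr := N.toFr.cj g
  s := g * N.s * g⁻¹
  d := g * N.d * g⁻¹
  sH := conj_mem_cz g N.sH
  dH := conj_mem_cz g N.dH
  Ms := (congrArg N.M (by group)).trans N.Ms
  Md := (congrArg N.M (by group)).trans N.Md
  ys := (congrArg N.y (by group)).trans N.ys
  yd := (congrArg N.y (by group)).trans N.yd
  s3 := by rw [conj_pow, N.s3]; simp
  sd := conj_mem_cz g N.sd
  dz := (isConj_iff.2 ⟨g, rfl⟩).symm.trans (N.dz.trans (isConj_iff.2 ⟨g, rfl⟩))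
  az := (isConj_iff.2 ⟨g, rfl⟩).symm.trans (N.az.trans (isConj_iff.2 ⟨g, rfl⟩))

theorem lemA (ht : t ∈ cz z) (t2 : t * t = 1) {g : G} (hg : g ∈ cz z) {k : ℕ} (g3 : g ^ 3 ^ k = 1)
    (h : QO z ⊓ cz t ≤ cz g) : g ∈ QO z ∨ ∀ v : V, N.M t • v = v → v = 0 := or_iff_not_imp_left.2 fun n v hv => by
  have k : ∀ v, N.M t • v = v → N.M g • v = v := fun v e =>
    ((N.comm_φ hg).1 (h ⟨N.φQ ⟨v, 0⟩, (N.fixφ ht t2).2 e⟩)).1
  exact nd_inv (N.M2 ht t2) hv fun u hu => N.hs.iso3 (N.M_mem hg) (by rw [← N.M_pow hg, g3, Fr.M_one])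
    (mt (N.ker g hg) n) (k v hv) (k u hu)

theorem sylV (ht : t ∈ cz z) (t2 : t * t = 1) (hv : ¬ ∀ v : V, N.M t • v = v → v = 0) {T : Subgroup G}
    (h : SylIn 3 T (cz t ⊓ cz z)) :
    QO z ⊓ cz t ≤ T ∧ z ∈ T ∧ (∀ g ∈ T, T ≤ cz g → g ∈ zpowers z) ∧ SylIn 3 T (cz t) := by
  have h1 : QO z ⊓ cz t ≤ T := h.le_of_normalized ((pQO z).to_le inf_le_left) (fun g hg => ⟨hg.2, QO_le z hg.1⟩)
    (le_normalizer_inf (h.le.trans (inf_le_right.trans (nQO z))) (h.le.trans (inf_le_left.trans le_normalizer)))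
  have h2 : ∀ g ∈ T, T ≤ cz g → g ∈ zpowers z := fun g hg e => by
    obtain ⟨k, g3⟩ := isPGroup_iff_forall_mem.1 h.pgroup g hg
    obtain ⟨q, rfl⟩ := N.exq ((N.lemA ht t2 (h.le hg).2 g3 (h1.trans e)).resolve_right hv)
    exact N.φZ.2 (nd_inv (N.M2 ht t2) ((N.fixφ ht t2).1 (h.le hg).1) fun u hu =>
      N.comm_φφ.1 (e (h1 ⟨N.φQ ⟨u, 0⟩, (N.fixφ ht t2).2 hu⟩)))
  have h3 := h1 ⟨N.zQ, mem_cz_comm.1 ht⟩
  refine ⟨h1, h3, h2, sylIn_up N.z1 N.z3 h fun g hg => h2 _ (conj_mem_of_normalizes le_rfl hg h3) ?_⟩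
  rw [cz_cj, ← cj_eq_of_mem_normalizer hg]; exact cj_mono g (h.le.trans inf_le_right)

theorem fusV (ht : t ∈ cz z) (t2 : t * t = 1) (hv : ¬ ∀ v : V, N.M t • v = v → v = 0) {u : G}
    (hu : u ∈ cz z) (u2 : u * u = 1) (hw : ¬ ∀ v : V, N.M u • v = v → v = 0) (e : IsConj t u) :
    ∃ n, NZ z n ∧ n * t * n⁻¹ = u := by
  obtain ⟨g, rfl⟩ := isConj_iff.1 e
  obtain ⟨T, hT⟩ := exists_sylIn 3 (cz t ⊓ cz z)
  obtain ⟨U, hU⟩ := exists_sylIn 3 (cz (g * t * g⁻¹) ⊓ cz z)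
  obtain ⟨-, k1, -, k2⟩ := N.sylV ht t2 hv hT
  obtain ⟨-, -, k3, k4⟩ := N.sylV hu u2 hw hU
  obtain ⟨c, hc, e⟩ := (cz_cj g t ▸ k2.cj g).exists_conj k4
  rw [← cj_mul] at e
  exact ⟨c * g, N.nz_of (k3 _ (e ▸ conj_mem_cj k1) (by
    rw [cz_cj, ← e]; exact cj_mono _ (hT.le.trans inf_le_right))), by rw [← mem_cz.1 hc]; group⟩

theorem r01 : N.r 0 * N.r 1 ∈ cz z ∧ N.r 0 * N.r 1 * (N.r 0 * N.r 1) = 1 ∧ N.M (N.r 0 * N.r 1) = fl 0 * fl 1 :=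
  ⟨mul_mem (N.rH _) (N.rH _), by
    rw [(show Commute (N.r 1) (N.r 0) from mem_cz'.1 (N.rr 1 0)).mul_mul_mul_comm, N.r2, N.r2, one_mul],
    by simp [N.M_mul (N.rH _) (N.rH _)]⟩

theorem f0 : ¬ ∀ v : V, N.M (N.r 0) • v = v → v = 0 := by rw [N.M_r]; decide +kernel
theorem f01 : ¬ ∀ v : V, N.M (N.r 0 * N.r 1) • v = v → v = 0 := by rw [N.r01.2.2]; decide +kernel

theorem n1 : ¬ IsConj (N.r 0) (N.r 0 * N.r 1) := fun e => by
  obtain ⟨n, h1, h2⟩ := N.fusV (N.rH 0) (N.r2 0) N.f0 N.r01.1 N.r01.2.1 N.f01 e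
  have := N.cardC N.r01.1 (N.fixy N.r01.1 N.r01.2.1)
  rw [← h2, cz_cj, ← nz_Q h1, ← cj_inf, card_cj, N.cardC (N.rH 0) (N.fixy (N.rH 0) (N.r2 0)), h2, N.r01.2.2,
    N.M_r] at this
  revert this; decide +kernel

theorem ncK : ∃ g ∈ cz (N.r 0), g * z * g⁻¹ ∈ cz z ∧ g * z * g⁻¹ ∉ zpowers z := by
  obtain ⟨N'⟩ : Nonempty (NF N.d) := by obtain ⟨g, e⟩ := isConj_iff.1 N.dz; exact ⟨e ▸ N.cj g⟩
  have zd := mem_cz_comm.1 N.dH
  have rd := mem_cz_comm.1 (N.dr 0)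
  have zr := mem_cz_comm.1 (N.rH 0)
  have n : ¬ QO N.d ⊓ cz (N.r 0) ≤ cz z := fun h => by
    have h1 := (N'.lemA rd (N.r2 0) zd (k := 1) N.z3 h).resolve_left fun e => N.dQ (N'.symmQ ⟨N.dz.symm, e,
      (N.symm ⟨N.dz, N.dH, fun e => N.dQ (N.ZQ e)⟩).nz⟩).mem
    have h2 := N'.small rd h1 (S := (QO z ⊓ cz (N.r 0) ⊓ cz N.d) ⊔ zpowers N.d) (sup_le
      (fun g hg => ⟨hg.2, hg.1.2⟩) (zpowers_le.2 ⟨mem_cz.2 (by simp), N.dr 0⟩)) (isPGroup_sup_of_normalizes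
        ((pQO z).to_le (inf_le_left.trans inf_le_left)) (pz N.d3) fun g hg => (NZ.of_comm (mem_cz'.1 hg.2)).mem)
    have h3 : 27 ≤ Nat.card (QO z ⊓ cz (N.r 0) ⊓ cz N.d : Subgroup G) := le_of_eq_of_le (by simp)
      (Nat.card_le_card_of_injective (fun q : Z3 × Z3 × Z3 => (⟨N.φ ⟨![0, (q.1, 0), (q.2.1, 0)], q.2.2⟩, ⟨N.φQ _,
        (N.comm_r (N.φH _)).2 (by simp)⟩, (N.comm_φ N.dH).2 ⟨funext fun j => by
          fin_cases j <;> simp [N.Md, δ_smul], by simp [N.yd]⟩⟩ : (QO z ⊓ cz (N.r 0) ⊓ cz N.d : Subgroup G)))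
        fun q q' e => by simpa [Prod.ext_iff, and_assoc] using N.inj (congrArg Subtype.val e))
    exact N.dQ ((eq_of_le_of_card_ge le_sup_left (h2.trans h3)).ge (mem_sup_right (mem_zpowers _))).1.1
  have p : IsPGroup 3 (QO N.d ⊓ cz (N.r 0) ⊔ zpowers z : Subgroup G) := isPGroup_sup_of_normalizes'
    ((pQO _).to_le inf_le_left) (pz N.z3) (zpowers_le.2 (le_normalizer_inf (nQO _ |>.trans' inf_le_left)
      (inf_le_right.trans le_normalizer) ⟨zd, zr⟩))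
  obtain ⟨g, h1, h2⟩ := SetLike.exists_of_lt (lt_inf_normalizer_of_lt p
    (inf_lt_left.2 fun e => n (le_sup_left.trans e) : _ ⊓ cz z < _))
  obtain ⟨k, g3⟩ := isPGroup_iff_forall_mem.1 p g h1.1
  exact ⟨g, sup_le inf_le_right (zpowers_le.2 zr) h1.1, (conj_mem_of_normalizes le_rfl h1.2
    ⟨mem_sup_right (mem_zpowers z), mem_cz.2 (by simp)⟩).2,
    fun e => h2 ⟨h1.1, mem_cz'.2 ((N.nz_of e).three N.z1 N.z3 g3)⟩⟩

theorem wp0 {x : G} (p : Pair z x) (h0 : N.y x = 0) {c n : Z3} (h : N.M x = un (fun _ => c) n) :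
    ∃ e ∈ QO x, IsConj z e ∧ N.w * e * N.w⁻¹ = e⁻¹ := by
  have xQ : x ∉ QO z := fun e => p.nz (N.memZ p.cm (N.M_Q e) h0)
  have zQ : z ∉ QO x := fun e => xQ ((N.exF p.cj).some.symmQ ⟨p.cj.symm, e, (N.symm p).nz⟩).mem
  have m := mul_mem (pow_mem N.sH n.val) (pow_mem N.dH c.val)
  have k := N.divZ p.cm m (by rw [h, un_c, N.M_mul (pow_mem N.sH _) (pow_mem N.dH _), N.M_pow N.sH, N.M_pow N.dH,
    N.Ms, N.Md]) (by simp [h0, N.y_mul (pow_mem N.sH _) (pow_mem N.dH _), N.y_pow N.sH N.ys, N.y_pow N.dH N.yd])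
  have cx : ∀ g ∈ cz z, N.s ∈ cz g → N.d ∈ cz g → g ∈ cz x := fun g h1 h2 h3 => mem_cz_comm.1 (by
    simpa only [inv_mul_cancel_right] using
      mul_mem (mem_cz'.2 (N.zc k h1)) (mul_mem (pow_mem h2 n.val) (pow_mem h3 c.val)))
  have hP : zpowers N.s ⊔ zpowers N.d ≤ cz z ⊓ cz x := sup_le
    (zpowers_le.2 ⟨N.sH, cx _ N.sH (mem_cz.2 (by simp)) (mem_cz_comm.1 N.sd)⟩)
    (zpowers_le.2 ⟨N.dH, cx _ N.dH N.sd (mem_cz.2 (by simp))⟩)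
  obtain ⟨g, hg, g1⟩ := (bot_or_exists_ne_one _).resolve_left (inf_centralizer_ne_bot (A := QO z ⊓ QO x)
    (isPGroup_sup_of_normalizes (pz N.s3) (pz N.d3) (zpowers_le.2 (NZ.of_comm (mem_cz'.1 N.sd)).mem))
    ((pQO z).to_le inf_le_left) (le_normalizer_inf ((hP.trans inf_le_left).trans (nQO z))
      ((hP.trans inf_le_right).trans (nQO x))) fun e => by
    have h1 := N.DE p.cj
    have h2 := fix_Tb c n
    rw [e, card_bot, N.cardC p.cm (by simp [h0]), h] at h1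
    omega)
  obtain ⟨⟨v, c⟩, rfl⟩ := N.exq hg.1.1
  obtain rfl : c = 0 := N.c0' zQ p.cm h0 hg.1.2
  have a1 := ((N.comm_φ N.sH).1 (mem_cz'.2 (hg.2 _ (mem_sup_left (mem_zpowers _))).symm)).1
  have a2 := ((N.comm_φ N.dH).1 (mem_cz'.2 (hg.2 _ (mem_sup_right (mem_zpowers _))).symm)).1
  refine ⟨_, hg.1.2, ?_, by rw [N.act_w, ← map_inv]; exact congrArg _ (He.ext rfl (by simp))⟩
  rcases fix_α v (N.Ms ▸ a1) (N.Md ▸ a2) with rfl | rfl | rfl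
  exacts [(g1 (map_one N.φ)).elim, N.az, N.az.trans (isConj_iff.2 ⟨_, N.act_w _⟩)]

theorem wp {x : G} (p : Pair z x) (h0 : x ∈ cz N.w) : ∃ e ∈ QO x, IsConj z e ∧ N.w * e * N.w⁻¹ = e⁻¹ := by
  obtain ⟨g', hg', c, n, e⟩ := N.hs.toT (N.M_mem p.cm) (k := 1) (by rw [← N.M_pow p.cm, pow_one, N.x3 p.cj, Fr.M_one])
  obtain ⟨g, hg, rfl, g0⟩ := N.lift hg'
  have gw := (N.comm_w hg).2 g0
  obtain ⟨e, h1, h2, h3⟩ := N.wp0 (p.conj hg) ((N.comm_w (N.cjH hg p.cm)).1 (mul_mem (mul_mem gw h0) (inv_mem gw)))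
    ((N.M_cj hg p.cm).trans e)
  rw [QO_cj, mem_cj] at h1
  refine ⟨_, h1, h2.trans (isConj_iff.2 ⟨g⁻¹, by simp⟩), ?_⟩
  calc _ = g⁻¹ * (g * N.w * g⁻¹) * e * (g * N.w * g⁻¹)⁻¹ * g := by group
    _ = g⁻¹ * (N.w * e * N.w⁻¹) * g := by rw [mem_cz.1 gw]; group
    _ = _ := by rw [h3]; group

variable {u : G} (hu : u ∈ cz z) (u2 : u * u = 1) {c : Z3} (Mu : N.M u = ⟨1, ![0, c, -c], swap 1 2⟩)
include hu u2 Mu

theorem fu : ¬ ∀ v : V, N.M u • v = v → v = 0 := by rw [Mu]; clear * -; revert c; decide +kernel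

theorem m12 (ht : t ∈ cz z) (t2 : t * t = 1) (hv : ¬ ∀ v : V, N.M t • v = v → v = 0)
    (h : ∀ g ∈ N.Hb, (N.M t * (g * N.M t * g⁻¹)) ^ 2 = 1) : ¬ IsConj u t := fun e => by
  obtain ⟨n, h1, rfl⟩ := N.fusV ht t2 hv hu u2 (N.fu hu u2 Mu) e.symm
  have := N.M_Q (N.invI ht h1 h N.sH)
  rw [N.M_pow (mul_mem hu (N.cjH N.sH hu)), N.M_mul hu (N.cjH N.sH hu), N.M_cj N.sH hu, Mu, N.Ms] at this
  revert this; clear * -; revert c; decide +kernel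

theorem m1' : ¬ IsConj u (N.r 0) := N.m12 hu u2 Mu (N.rH 0) (N.r2 0) N.f0 fun g _ => by
  rw [N.M_r, cj_fl]; generalize g.π 0 = j; revert j; decide +kernel

theorem m2' : ¬ IsConj u (N.r 0 * N.r 1) := N.m12 hu u2 Mu N.r01.1 N.r01.2.1 N.f01 fun g _ => by
  rw [N.r01.2.2, ← conj_mul, cj_fl, cj_fl]; generalize g.π 0 = j; generalize g.π 1 = k; revert j k; decide +kernel

theorem m3' : ¬ IsConj u N.w := fun e => by
  obtain ⟨g, e⟩ := isConj_iff.1 e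
  obtain ⟨T, hT⟩ := exists_sylIn 3 (cz u ⊓ cz z)
  obtain ⟨k1, -, -, k2⟩ := N.sylV hu u2 (N.fu hu u2 Mu) hT
  obtain ⟨b, hb, k3⟩ := (e ▸ cz_cj g u ▸ k2.cj g).exists_le_conj (pz N.z3) (zpowers_le.2 (mem_cz_comm.1 N.wH))
  rw [← cj_mul, zpowers_le] at k3
  have e1 : b * g * u * (b * g)⁻¹ = N.w := by rw [← mem_cz.1 hb, ← e]; group
  generalize b * g = g at k3 e1
  have k4 : g •ᶜ T ≤ cz N.w ⊓ cz (g * z * g⁻¹) := by rw [← e1, cz_cj, cz_cj, ← cj_inf]; exact cj_mono g hT.le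
  have k5 : g * z * g⁻¹ ∉ zpowers z := fun k => by
    have h1 := N.small N.wH (fun v hv => funext fun j => (show ∀ p : P2, -p = p → p = 0 by decide) _
      (by simpa [N.M_w, m1_smul] using congrFun hv j)) (S := g •ᶜ T) (by
        rw [← cj_eq_of_mem_normalizer (N.nz_of k).cent, ← cz_cj, inf_comm]; exact k4) (isPGroup_cj g hT.pgroup)
    have h2 := card_le_of_le k1
    rw [N.cardC hu (N.fixy hu u2), Mu] at h2
    rw [card_cj] at h1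
    exact absurd (h2.trans h1) (by clear * -; revert c; decide +kernel)
  obtain ⟨e, h1, h2, h3⟩ := N.wp ⟨isConj_iff.2 ⟨g, rfl⟩, mem_cz_comm.1 (k4 k3).2, k5⟩
    (e1 ▸ conj_mem_cz g (mem_cz_comm.1 hu))
  rw [QO_cj] at h1
  obtain ⟨e', h1', rfl⟩ := mem_cj'.1 h1
  obtain ⟨q, rfl⟩ := N.exq h1'
  have h4 : IsConj z (N.φ q) := h2.trans (isConj_iff.2 ⟨g, rfl⟩).symm
  have h5 : u * N.φ q * u⁻¹ = (N.φ q)⁻¹ := (MulAut.conj g).injective (by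
    simp only [MulAut.conj_apply, ← conj_inv, ← h3, ← e1]; group)
  rw [N.act u hu, ← map_inv, N.inj.eq_iff, Mu] at h5
  have h6 : q.v = 0 := by_contra fun n => N.full h4 n 0 ((show ∀ p : P2, p = -p → p = 0 by decide) _ (by
    simpa [smul_ap, ap, swap_apply_def] using congrFun (congrArg He.v h5) 0))
  have h7 : q.c = 0 := (show ∀ c : Z3, c = -c → c = 0 by decide) _ (by simpa [h6] using congrArg He.c h5)
  rw [show q = 1 from He.ext h6 h7, map_one] at h4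
  exact N.z1 (isConj_one_left.1 h4)

end NF

end CL.F3
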