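import Mathlib
import Cfsg.Agent.SPOR.FiA4
import Cfsg.Agent.KSG.PQ6
import Cfsg.Agent.PERM.FT3Count
import Cfsg.Agent.S0279

/-! Two facts about `U₆(2)`. -/

set_option autoImplicit false
set_option maxHeartbeats 200000
open Subgroup CL.Odd Cfsg

namespace CL.F3

variable {F : Type} [Field F] [Fintype F]

namespace U6

open Matrix Equiv

/-- monomial matrices -/
def mm (a : Fin 6 → Fˣ) (π : Perm (Fin 6)) : Matrix (Fin 6) (Fin 6) F :=
  diagonal (fun i => (a i : F)) * permMatrixHom π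

omit [Fintype F] in
theorem mm_mulVec (a : Fin 6 → Fˣ) (π : Perm (Fin 6)) (v : Fin 6 → F) (i : Fin 6) :
    (mm a π *ᵥ v) i = a i * v (π⁻¹ i) := by
  rw [mm, ← mulVec_mulVec, mulVec_diagonal, permMatrixHom_apply, permMatrix_mulVec]; rfl

omit [Fintype F] in
theorem ext_mulVec {A B : Matrix (Fin 6) (Fin 6) F} (h : ∀ v i, (A *ᵥ v) i = (B *ᵥ v) i) : A = B :=
  Matrix.toLin'.injective (LinearMap.ext fun v => funext (h v))

omit [Fintype F] in
theorem mm_mul (a b : Fin 6 → Fˣ) (π σ : Perm (Fin 6)) :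
    mm a π * mm b σ = mm (fun i => a i * b (π⁻¹ i)) (π * σ) := ext_mulVec fun v i => by
  simp only [← mulVec_mulVec, mm_mulVec, Units.val_mul, mul_assoc, _root_.mul_inv_rev, Perm.mul_apply]

omit [Fintype F] in
theorem mm_eq_one {a : Fin 6 → Fˣ} {π : Perm (Fin 6)} (h : mm a π = 1) : a = 1 ∧ π = 1 := by
  have k : ∀ (v : Fin 6 → F) i, a i * v (π⁻¹ i) = v i := fun v i => by rw [← mm_mulVec, h, one_mulVec]
  refine ⟨funext fun i => Units.ext (by simpa using k 1 i), inv_eq_one.1 (Equiv.ext fun i => ?_)⟩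
  by_contra e
  have := k (Pi.single i 1) i
  rw [Pi.single_eq_of_ne (show π⁻¹ i ≠ i from e), Pi.single_eq_same, mul_zero] at this
  exact zero_ne_one this

theorem card_R : Nat.card {π : Perm (Fin 6) // (![0, 0, 0, 1, 1, 1] : Fin 6 → Fin 2) ∘ π = ![0, 0, 0, 1, 1, 1]} = 36 := by
  rw [Nat.card_eq_fintype_card, DomMulAct.stabilizer_card]
  decide

variable (hF : Fintype.card F = 4)
include hF

theorem cube (a : Fˣ) : a ^ 3 = 1 := by
  classical
  have := pow_card_eq_one (x := a)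
  rwa [Fintype.card_units, hF] at this

theorem det_mm (a : Fin 6 → Fˣ) (π : Perm (Fin 6)) : (mm a π).det = ((∏ i, a i : Fˣ) : F) := by
  have : CharP F 2 := charP_of_card_eq_prime_pow (p := 2) (f := 2) hF
  rw [mm, det_mul, det_diagonal, permMatrixHom_apply, det_permutation, Units.coe_prod]
  rcases Int.units_eq_one_or (Perm.sign π⁻¹) with e | e <;> simp [e, CharTwo.neg_eq]

theorem herm_mm (a : Fin 6 → Fˣ) (π : Perm (Fin 6)) (u v : Fin 6 → F) :
    hermForm 6 F 2 (mm a π *ᵥ u) (mm a π *ᵥ v) = hermForm 6 F 2 u v := by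
  simp only [hermForm, mm_mulVec]
  rw [← Equiv.sum_comp π⁻¹ fun i => u i * v i ^ 2]
  refine Finset.sum_congr rfl fun i _ => ?_
  have : (a i : F) ^ 3 = 1 := congrArg Units.val (cube hF (a i))
  linear_combination u (π⁻¹ i) * v (π⁻¹ i) ^ 2 * this

/-- a monomial element of the unitary group -/
def su (a : Fin 6 → Fˣ) (π : Perm (Fin 6)) (h : ∏ i, a i = 1) : SU 6 F 2 :=
  ⟨⟨mm a π, by rw [det_mm hF, h, Units.val_one]⟩, herm_mm hF a π⟩

end U6

open U6 Matrix Equiv

theorem real3 (hF : Fintype.card F = 4) :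
    ∃ c : PSU 6 F 2, c ^ 3 = 1 ∧ c ≠ 1 ∧ 3 ^ 6 ∣ Nat.card (cz c) ∧ IsConj c c⁻¹ := by
  classical
  have cU : Nat.card Fˣ = 3 := by rw [Nat.card_eq_fintype_card, Fintype.card_units, hF]
  obtain ⟨ω, hω⟩ : ∃ ω : Fˣ, ω ≠ 1 :=
    have := Finite.one_lt_card_iff_nontrivial.1 (show 1 < Nat.card Fˣ by omega); exists_ne 1
  have ω3 : ω * (ω * ω) = 1 := by rw [← cube hF ω]; simp [pow_succ, mul_assoc]
  let f : Fin 6 → Fin 2 := ![0, 0, 0, 1, 1, 1]
  let a : Fin 6 → Fˣ := fun i => ![1, ω] (f i)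
  have ha : ∏ i, a i = 1 := by simpa [a, f, Fin.prod_univ_succ] using ω3
  let C := su hF a 1 ha
  have C3 : C * C * C = 1 := Subtype.ext (Subtype.ext (by
    change mm a 1 * mm a 1 * mm a 1 = 1
    rw [mm_mul, mm_mul]
    refine ext_mulVec fun v i => ?_
    rw [mm_mulVec, one_mulVec, show a i * a ((1 : Perm (Fin 6))⁻¹ i) * a ((1 * 1 : Perm (Fin 6))⁻¹ i) = 1 from (pow_three' _).symm.trans (cube hF (a i))]
    simp))
  let mk := QuotientGroup.mk' (center (SU 6 F 2))
  refine ⟨mk C, by rw [pow_three', ← map_mul, ← map_mul, C3, map_one], fun h => ?_, ?_, ?_⟩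
  · obtain ⟨s, hs⟩ := (CL.Uni.mem_center_SU_iff (q := 2) hF (by norm_num)).1 ((QuotientGroup.eq_one_iff C).1 h)
    have k : ∀ i, (a i : F) = s := fun i => by
      have := mm_mulVec a 1 1 i
      rw [show mm a 1 = s • 1 from hs] at this
      simpa [smul_mulVec] using this.symm
    exact hω (Units.ext ((k 3).trans (k 0).symm))
  · let R : Subgroup (Perm (Fin 6)) :=
      { carrier := {π | f ∘ π = f}
        one_mem' := rfl
        mul_mem' := fun {π σ} h1 h2 => by
          change (f ∘ π) ∘ σ = f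
          rw [h1, h2]
        inv_mem' := fun {π} h => funext fun i => by simpa using (congrFun h (π⁻¹ i)).symm }
    have cR : Nat.card R = 36 := card_R
    let Γ := (Fin 6 → Fˣ) ⋊[(mulAutArrow (G := Perm (Fin 6)) (A := Fin 6) (M := Fˣ)).comp R.subtype] R
    let δ : Γ →* Fˣ := MonoidHom.mk' (fun x => ∏ i, x.left i) fun x y => by
      rw [← Equiv.prod_comp (x.right : Perm (Fin 6))⁻¹ y.left, ← Finset.prod_mul_distrib]; rfl
    let Ψ : δ.ker →* SU 6 F 2 := MonoidHom.mk' (fun x => su hF x.1.left x.1.right x.2) fun x y =>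
      Subtype.ext (Subtype.ext (mm_mul _ _ _ _).symm)
    have hΨ : Function.Injective Ψ := (injective_iff_map_eq_one Ψ).2 fun x h => by
      obtain ⟨h1, h2⟩ := mm_eq_one (congrArg (fun g : SU 6 F 2 => g.1.1) h)
      exact Subtype.ext (SemidirectProduct.ext h1 (Subtype.ext h2))
    have c1 : Nat.card δ.ker * Nat.card δ.range = 3 ^ 6 * 36 := by
      rw [← index_ker, card_mul_index, SemidirectProduct.card, cR, Nat.card_fun, cU, Nat.card_fin]
    have c2 : Nat.card δ.range ∣ 3 := cU ▸ card_subgroup_dvd_card _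
    have c3 : Nat.card (mk.comp Ψ).ker ∣ 3 := by
      rw [← MonoidHom.comap_ker, QuotientGroup.ker_mk']
      exact (card_comap_dvd_of_injective _ _ hΨ).trans (Cfsg.Agent.S0279.result (q := 2) hF 6 (by norm_num)).dvd
    have c4 := (mk.comp Ψ).ker.card_mul_index
    rw [index_ker] at c4
    have c5 : (mk.comp Ψ).range ≤ cz (mk C) := by
      rintro _ ⟨x, rfl⟩
      refine mem_centralizer_singleton_iff.2 ?_
      rw [MonoidHom.comp_apply, ← map_mul, ← map_mul]
      refine congrArg mk (Subtype.ext (Subtype.ext ((mm_mul _ _ _ _).trans (Eq.trans ?_ (mm_mul _ _ _ _).symm))))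
      rw [mul_one, one_mul]
      refine congrArg (mm · _) (funext fun i => (mul_comm _ _).trans (congrArg (· * _) ?_))
      exact congrArg ![1, ω] (congrFun (R.inv_mem x.1.right.2) i)
    refine Dvd.dvd.trans ?_ (card_dvd_of_le c5)
    have : 3 ^ 6 * 9 ∣ Nat.card (mk.comp Ψ).range * 9 := by
      refine Dvd.dvd.trans ⟨4, ?_⟩ (mul_dvd_mul_left _ (mul_dvd_mul c3 c2))
      rw [← mul_assoc, mul_comm _ (Nat.card (mk.comp Ψ).ker), c4, c1]
      norm_num
    exact Nat.dvd_of_mul_dvd_mul_right (by norm_num) this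
  · let π : Perm (Fin 6) := swap 0 3 * swap 1 4 * swap 2 5
    let P := su hF 1 π (by simp)
    refine isConj_iff.2 ⟨mk P, eq_inv_of_mul_eq_one_left ?_⟩
    rw [← map_inv, ← map_mul, ← map_mul, ← map_mul]
    refine (QuotientGroup.eq_one_iff _).2 ((CL.Uni.mem_center_SU_iff (q := 2) hF (by norm_num)).2 ⟨ω, ?_⟩)
    have hP : P⁻¹ = P := inv_eq_of_mul_eq_one_right (Subtype.ext (Subtype.ext (by
      change mm 1 π * mm 1 π = 1
      rw [mm_mul, show π * π = 1 by decide]
      exact ext_mulVec fun v i => by simp [mm_mulVec])))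
    rw [hP]
    change mm 1 π * mm a 1 * mm 1 π * mm a 1 = _
    rw [mm_mul, mm_mul, mm_mul, show π * 1 * π = 1 by decide, show π⁻¹ = π by decide]
    refine ext_mulVec fun v i => ?_
    rw [mm_mulVec, smul_mulVec, one_mulVec]
    fin_cases i <;> simp [a, f, π, swap_apply_def]

theorem idx6 (hF : Fintype.card F = 4) {X : Type*} [Group X] [Finite X] {N : Subgroup X} [N.Normal]
    (e : N ≃* PSU 6 F 2) (h : centralizer (N : Set X) = ⊥) : N.index ∣ 6 := by
  have : Fact (Nat.Prime 2) := ⟨Nat.prime_two⟩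
  let φ : X →* MulAut (PSU 6 F 2) := (MulAut.congr e).toMonoidHom.comp MulAut.conjNormal
  have hφ : ∀ n : N, φ n = MulAut.conj (e n) := fun n => MulEquiv.ext fun y => by
    change e (MulAut.conjNormal (n : X) (e.symm y)) = e n * y * (e n)⁻¹
    rw [MulAut.conjNormal_val, MulAut.conj_apply, map_mul, map_mul, map_inv, e.apply_symm_apply]
  have hk : ((QuotientGroup.mk' (Inn (PSU 6 F 2))).comp φ).ker = N := by
    refine le_antisymm (fun x hx => ?_) fun x hx => (QuotientGroup.eq_one_iff _).2 ⟨_, (hφ ⟨x, hx⟩).symm⟩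
    obtain ⟨g, hg⟩ := (QuotientGroup.eq_one_iff _).1 hx
    obtain ⟨n, rfl⟩ := e.surjective g
    have h1 : MulAut.conjNormal (H := N) ((n : X)⁻¹ * x) = 1 := (MulAut.congr e).injective (by
      change φ _ = _
      rw [map_mul, map_inv, hφ, hg, inv_mul_cancel, map_one])
    have h2 : (n : X)⁻¹ * x ∈ centralizer (N : Set X) := fun y hy =>
      (mul_inv_eq_iff_eq_mul.1 (congrArg (fun α : MulAut N => (α ⟨y, hy⟩ : X)) h1)).symm
    rw [h, mem_bot, inv_mul_eq_one] at h2
    exact h2 ▸ n.2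
  rw [← hk, index_ker]
  refine (card_subgroup_dvd_card _).trans (dvd_of_eq ?_)
  rw [CL.PQ.card_out_PSU (q := 2) hF (by norm_num) (by norm_num), CL.FieldAut.card_ringAut (p := 2) (f := 2) hF]
  rfl

end CL.F3
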