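import Cfsg.Agent.PERM.F3.AutT2
import Cfsg.Agent.INV.IndexTwo

/-!
The automorphism group of `Fi₂₂` from an involution centralizer, part 3: fusion in the group
generated by the base, and the Thompson transfer.
-/

set_option autoImplicit false
set_option maxHeartbeats 200000

open Subgroup CL.Odd Cfsg CL.TT CL.TTU CL.TTU.U6 CL.Misc CL.K CL.FiA CL.FiRec

namespace CL.F3.AT

variable {G : Type*} [Group G]

/-- the witnesses -/
def W2 : List (ℕ × ℕ) := [(14, 2), (18, 6), (22, 2), (26, 3), (30, 3), (34, 7), (38, 7), (42, 3), (46, 3),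
  (50, 6), (54, 2), (58, 3), (62, 2), (66, 22), (70, 2), (74, 3), (78, 2), (82, 6), (86, 2), (90, 3),
  (94, 3), (98, 7), (102, 7), (106, 3), (110, 3), (114, 6), (118, 6), (122, 6)]

theorem chk_W2 : lall (fun p : ℕ × ℕ => an (Nat.blt p.2 (2 ^ 10)) (an (tb p.1 (ty1 p.2))
    (no (Nat.beq (cnt2 ty1 p.1 (2 ^ 10) 1) (cnt2 ty1 p.1 (2 ^ 10) p.2))))) W2 = true := by
  decide +kernel

theorem chk_T3 : allLt (fun k => imp (Nat.beq (ty1 k) 3) (lmem k (cs1.tail.map (Nat.xor 1)))) 1024 =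
    true ∧ lall (fun a => lall (fun b => ou (Nat.beq a b) (an (Nat.beq (ty1 (Nat.xor a b)) 4)
      (Nat.beq (ty1 (Nat.xor 1 (Nat.xor a b))) 5))) (cs1.tail.map (Nat.xor 1)))
      (cs1.tail.map (Nat.xor 1)) = true ∧ ∀ c ∈ [3, 5, 9, 129, 142], tb 10 (ty1 c) = true := by
  decide +kernel

theorem chk_s : ∀ s < 128, s % 4 = 2 → s ∉ W2.map Prod.fst → s = 2 ∨ s = 6 ∨ s = 10 ∨ s = 126 := by
  decide +kernel

namespace LK

variable {K0 : Subgroup G} {d : G} {X : Set G} {f : ℕ → G} (L : LK K0 d X f)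
include L

omit L in
theorem dA : d ∈ A1 d f := BB_le d f (d_mem_BB d f)

theorem exists_mask : ∃ s < 128, s % 4 = 2 ∧ (tb s 2 = true → ∀ x ∈ X, IsConj d x) ∧
    ∀ k < 2 ^ 10, (IsConj d (io d f k) ↔ tb s (ty1 k) = true) := by
  classical
  have t2 : ∀ x ∈ X, (IsConj d x ↔ ∃ x ∈ X, IsConj d x) := fun x hx =>
    ⟨fun h => ⟨x, hx, h⟩, fun ⟨y, hy, h⟩ => by
      obtain ⟨g, -, e⟩ := L.tr1 hy hx
      exact h.trans (isConj_iff.2 ⟨g, e⟩)⟩
  have t3 : ∀ x ∈ X, (IsConj d (x * d) ↔ ∃ x ∈ X, IsConj d (x * d)) := fun x hx =>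
    ⟨fun h => ⟨x, hx, h⟩, fun ⟨y, hy, h⟩ => by
      obtain ⟨g, hg, e⟩ := L.tr1 hy hx
      exact h.trans (isConj_iff.2 ⟨g, by rw [cj_mul, e, cj_eq_of_commute (L.cK hg)]⟩)⟩
  have t4 : ∀ x ∈ X, ∀ y ∈ nb X x,
      (IsConj d (x * y) ↔ ∃ x ∈ X, ∃ y ∈ nb X x, IsConj d (x * y)) := fun x hx y hy =>
    ⟨fun h => ⟨x, hx, y, hy, h⟩, fun ⟨x', hx', y', hy', h⟩ => by
      obtain ⟨g, -, e, e'⟩ := L.tr2 hx' hy' hx hy
      exact h.trans (isConj_iff.2 ⟨g, by rw [cj_mul, e, e']⟩)⟩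
  have t5 : ∀ x ∈ X, ∀ y ∈ nb X x,
      (IsConj d (x * y * d) ↔ ∃ x ∈ X, ∃ y ∈ nb X x, IsConj d (x * y * d)) := fun x hx y hy =>
    ⟨fun h => ⟨x, hx, y, hy, h⟩, fun ⟨x', hx', y', hy', h⟩ => by
      obtain ⟨g, hg, e, e'⟩ := L.tr2 hx' hy' hx hy
      exact h.trans (isConj_iff.2 ⟨g, by rw [cj_mul, cj_mul, e, e', cj_eq_of_commute (L.cK hg)]⟩)⟩
  generalize (∃ x ∈ X, IsConj d x) = p2 at t2
  generalize (∃ x ∈ X, IsConj d (x * d)) = p3 at t3
  generalize (∃ x ∈ X, ∃ y ∈ nb X x, IsConj d (x * y)) = p4 at t4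
  generalize (∃ x ∈ X, ∃ y ∈ nb X x, IsConj d (x * y * d)) = p5 at t5
  obtain ⟨p6, t6⟩ : ∃ p6 : Prop, IsConj d (io d f 22) ↔ p6 := ⟨_, Iff.rfl⟩
  have hs : ∀ q2 q3 q4 q5 q6 : Bool, ∃ s < 128, s % 4 = 2 ∧ tb s 0 = false ∧ tb s 1 = true ∧
      tb s 2 = q2 ∧ tb s 3 = q3 ∧ tb s 4 = q4 ∧ tb s 5 = q5 ∧ tb s 6 = q6 := by decide +kernel
  obtain ⟨s, s1, s2, b0, b1, b2, b3, b4, b5, b6⟩ := hs p2 p3 p4 p5 p6
  refine ⟨s, s1, s2, fun h x hx => (t2 x hx).2 (by simpa [b2] using h), fun k hk => ?_⟩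
  obtain ⟨ht, h⟩ := L.ty k hk
  generalize io d f k = u at h
  generalize ty1 k = t at h ht
  interval_cases t
  · obtain rfl : u = 1 := h
    simp [b0, L.ne]
  · obtain rfl : u = d := h
    exact iff_of_true (IsConj.refl _) b1
  · rw [b2, decide_eq_true_iff]; exact t2 u h
  · obtain ⟨x, hx, rfl⟩ := h
    rw [b3, decide_eq_true_iff]; exact t3 x hx
  · obtain ⟨x, hx, y, hy, rfl⟩ := h
    rw [b4, decide_eq_true_iff]; exact t4 x hx y hy
  · obtain ⟨x, hx, y, hy, rfl⟩ := h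
    rw [b5, decide_eq_true_iff]; exact t5 x hx y hy
  · rw [b6, decide_eq_true_iff, ← t6]
    exact ⟨fun h' => h'.trans (IsConj.symm h), fun h' => h'.trans h⟩

variable [Finite G]

theorem fus {e : G} (he : IsConj d e) (hA : e ∈ A1 d f) :
    ∃ n ∈ normalizer (A1 d f : Set G), n * d * n⁻¹ = e := by
  obtain ⟨g, rfl⟩ := isConj_iff.1 he
  exact L.jpK.fusion L.co.ea dA hA

theorem mask_not {s : ℕ} (key : ∀ k < 2 ^ 10, (IsConj d (io d f k) ↔ tb s (ty1 k) = true)) :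
    s ∉ W2.map Prod.fst := by
  have hcnt : ∀ m < 2 ^ 10, {u | u ∈ A1 d f ∧ IsConj d u ∧ IsConj d (u * io d f m)}.ncard =
      cnt2 ty1 s (2 ^ 10) m := fun m hm => L.co.ncard_eq (fun u hu => hu.1) fun k hk => by
    rw [an_iff, ← key k hk, ← key (Nat.xor k m) (Nat.xor_lt_two_pow hk hm), Set.mem_ofPred_eq,
      show io d f (Nat.xor k m) = _ from L.xor k m]
    exact ⟨fun h => h.2, fun h => ⟨L.ioA k, h⟩⟩
  intro h
  obtain ⟨⟨s', m⟩, hm, rfl⟩ := List.mem_map.1 h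
  have := lall_iff.1 chk_W2 _ hm
  simp only [an_iff, no_iff, beq_iff, blt_iff] at this
  obtain ⟨hm1, hm2, hm3⟩ := this
  apply hm3
  obtain ⟨n, hn, e⟩ := L.fus ((key m hm1).2 hm2) (L.ioA m)
  rw [← hcnt 1 (by norm_num), ← hcnt m hm1, io_one, ← e,
    ← Set.ncard_image_of_injective _ (f := fun x => n * x * n⁻¹) fun _ _ => cj_inj]
  congr 1
  ext u
  constructor
  · rintro ⟨u, ⟨h1, h2, h3⟩, rfl⟩
    exact ⟨cj_mem_of_mem_normalizer hn h1, cj_mem_cls n h2, by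
      rw [← cj_mul]; exact cj_mem_cls n h3⟩
  · rintro ⟨h1, h2, h3⟩
    refine ⟨n⁻¹ * u * n⁻¹⁻¹, ⟨cj_mem_of_mem_normalizer (inv_mem hn) h1, cj_mem_cls _ h2, ?_⟩,
      cj_inv_cj _ _⟩
    have := cj_mem_cls n⁻¹ h3
    rwa [cj_mul, inv_cj_cj] at this

theorem not_ten (key : ∀ k < 2 ^ 10, (IsConj d (io d f k) ↔ tb 10 (ty1 k) = true)) : False := by
  have c := fun c (hc : c ∈ [3, 5, 9, 129, 142]) => (key c (by revert c; decide)).2 (chk_T3.2.2 c hc)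
  obtain ⟨n, hn, e⟩ := L.fus (c 3 (by simp)) (L.ioA 3)
  have z : ∀ k ∈ [5, 9, 129, 142], ∃ y < 2 ^ 10, y ∈ cs1.tail.map (Nat.xor 1) ∧
      n * io d f y * n⁻¹ = io d f k := by
    intro k hk
    obtain ⟨y, hy, e1⟩ := L.surj (cj_mem_of_mem_normalizer (inv_mem hn) (L.ioA k))
    have e2 : n * io d f y * n⁻¹ = io d f k := by rw [e1, cj_inv_cj]
    refine ⟨y, hy, lmem_iff.1 (imp_iff.1 (allLt_iff.1 chk_T3.1 y hy) (beq_iff.2 ?_)), e2⟩
    have h1 := (key y hy).1 (e1 ▸ cj_mem_cls _ (c k (List.mem_cons_of_mem _ hk)))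
    obtain ⟨h2, h3⟩ := L.ty y hy
    refine ((by decide : ∀ t ≤ 6, tb 10 t = true → t = 1 ∨ t = 3) _ h2 h1).resolve_left fun h4 => ?_
    rw [h4] at h3
    rw [show io d f y = d from h3, e] at e2
    exact (by decide : ∀ k ∈ [5, 9, 129, 142], 3 ≠ k) k hk
      (L.eq_of (by norm_num) ((by decide : ∀ k ∈ [5, 9, 129, 142], k < 2 ^ 10) k hk) e2)
  obtain ⟨a, a1, a2, a3⟩ := z 5 (by simp)
  obtain ⟨b, b1, b2, b3⟩ := z 9 (by simp)
  obtain ⟨p, p1, p2, p3⟩ := z 129 (by simp)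
  obtain ⟨q, q1, q2, q3⟩ := z 142 (by simp)
  have h1 := (ou_iff.1 (lall_iff.1 (lall_iff.1 chk_T3.2.1 a a2) b b2)).resolve_left fun h =>
    absurd (L.eq_of (by norm_num) (by norm_num) (a3.symm.trans (beq_iff.1 h ▸ b3))) (by norm_num)
  have h2 := (ou_iff.1 (lall_iff.1 (lall_iff.1 chk_T3.2.1 p p2) q q2)).resolve_left fun h =>
    absurd (L.eq_of (by norm_num) (by norm_num) (p3.symm.trans (beq_iff.1 h ▸ q3))) (by norm_num)
  have h3 : 1 ^^^ (a ^^^ b) = p ^^^ q := L.eq_of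
    (Nat.xor_lt_two_pow (by norm_num) (Nat.xor_lt_two_pow a1 b1)) (Nat.xor_lt_two_pow p1 q1)
    (cj_inj (g := n) (by
      rw [L.xor, L.xor, L.xor, cj_mul, cj_mul, cj_mul, io_one, e, a3, b3, p3, q3, ← L.xor, ← L.xor,
        ← L.xor]; rfl))
  have h4 := beq_iff.1 (an_iff.1 h1).2
  rw [show Nat.xor 1 (Nat.xor a b) = Nat.xor p q from h3, beq_iff.1 (an_iff.1 h2).1] at h4
  omega

/-- The conjugates of `d` in `K0`. -/
theorem cls {a : G} (ha : a ∈ K0) (da : IsConj d a) (ad : a ≠ d) (n1 : ¬ IsConj d (d * a)) :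
    (∀ e ∈ K0, IsConj d e → e = d ∨ e ∈ X) ∧ ∀ x ∈ X, IsConj d x := by
  obtain ⟨s, s1, s2, b2, key⟩ := L.exists_mask
  have sq : ∀ e, IsConj d e → e * e = 1 := fun e he => by
    obtain ⟨g, rfl⟩ := isConj_iff.1 he
    rw [← cj_mul, L.sq]; group
  have loc : ∀ e ∈ K0, e * e = 1 → ∃ g ∈ K0, ∃ t ≤ 6, Ty d X (io d f 22) (g * e * g⁻¹) t ∧
      (IsConj d e ↔ tb s t = true) := fun e he h => by
    obtain ⟨g, hg, hA⟩ := L.inv e he h
    obtain ⟨k, hk, e1⟩ := L.surj hA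
    refine ⟨g, hg, _, (L.ty k hk).1, e1 ▸ (L.ty k hk).2, ?_⟩
    rw [← key k hk, e1]
    exact ⟨fun h => cj_mem_cls g h, fun h => mem_cls_of_cj h⟩
  rcases chk_s s s1 s2 (L.mask_not key) with rfl | rfl | rfl | rfl
  · obtain ⟨g, hg, t, ht, h1, h2⟩ := loc a ha (sq a da)
    obtain rfl := (by decide : ∀ t ≤ 6, tb 2 t = true → t = 1) t ht (h2.1 da)
    exact absurd (cj_inj (g := g) (by rw [cj_eq_of_commute (L.cK hg)]; exact h1)) ad
  · refine ⟨fun e he h => ?_, b2 (by decide)⟩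
    obtain ⟨g, hg, t, ht, h1, h2⟩ := loc e he (sq e h)
    rcases (by decide : ∀ t ≤ 6, tb 6 t = true → t = 1 ∨ t = 2) t ht (h2.1 h) with rfl | rfl
    · exact Or.inl (cj_inj (g := g) (by rw [cj_eq_of_commute (L.cK hg)]; exact h1))
    · have := L.cjX (inv_mem hg) h1
      rw [inv_cj_cj] at this
      exact Or.inr this
  · exact (L.not_ten key).elim
  · obtain ⟨g, hg, t, ht, h1, h2⟩ := loc (d * a) (mul_mem L.dK ha) (by
      rw [(L.cK ha).symm.symm.mul_mul_mul_comm, L.sq, sq a da, one_mul])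
    obtain rfl := (by decide : ∀ t ≤ 6, ¬ tb 126 t = true → t = 0) t ht fun h => n1 (h2.2 h)
    have h3 : d * a = 1 := cj_inj (g := g) (by rw [show g * (d * a) * g⁻¹ = 1 from h1]; group)
    exact absurd (mul_left_cancel (h3.trans L.sq.symm)) ad

section Cls

variable (hc : (∀ e ∈ K0, IsConj d e → e = d ∨ e ∈ X) ∧ ∀ x ∈ X, IsConj d x)
include hc

omit [Finite G] in
theorem mem_base {e : G} : e ∈ BB d f ↔ IsConj d e ∧ e ∈ A1 d f := by
  rw [← L.inter]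
  constructor
  · rintro (rfl | h)
    exacts [⟨IsConj.refl _, dA⟩, ⟨hc.2 _ h.1, h.2⟩]
  · rintro ⟨h1, h2⟩
    exact (hc.1 e (L.A_le h2) h1).imp id fun h => ⟨h, h2⟩

theorem NA_le {n : G} (hn : n ∈ normalizer (A1 d f : Set G)) : n ∈ normalizer (BB d f) :=
  mem_normalizer_of_conj_mem fun _ hx => (L.mem_base hc).2
    ⟨cj_mem_cls n ((L.mem_base hc).1 hx).1, cj_mem_of_mem_normalizer hn (BB_le d f hx)⟩

theorem trB {e : G} (he : e ∈ BB d f) : ∃ n ∈ normalizer (BB d f), n * d * n⁻¹ = e := by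
  obtain ⟨n, hn, h⟩ := L.fus ((L.mem_base hc).1 he).1 (BB_le d f he)
  exact ⟨n, L.NA_le hc hn, h⟩

theorem jp_at {e : G} (he : e ∈ BB d f) : JP (cz e) (A1 d f) := by
  obtain ⟨n, hn, rfl⟩ := L.trB hc he
  have := L.jpK.conj n
  rw [show (A1 d f).map (MulAut.conj n).toMonoidHom = A1 d f from
    mem_normalizer_iff_map_conj_eq.1 (NB_le hn)] at this
  refine this.mono fun x hx => ⟨n⁻¹ * x * n⁻¹⁻¹, mem_cz'.2 ?_, cj_inv_cj _ _⟩
  exact ((commute_cj_left_iff _ _ _).1 (show Commute x _ from mem_cz'.1 hx).symm).symm.eq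

theorem jp_top : JP ⊤ (A1 d f) := by
  intro F _ hFN hF hc'
  obtain ⟨e, he, hi⟩ := exists_small_orbit hF.isPGroup (Δ := BB d f)
    (fun g hg e he => (L.NA_le hc (hFN hg) e).1 he) (by rw [L.ncard_BB]; decide)
  have heA := BB_le d f he
  have he2 := L.co.ea e heA
  by_cases hle : F ≤ cz e
  · exact L.jp_at hc he F hle hFN hF hc'
  exfalso
  obtain ⟨t, ht, htc⟩ := SetLike.not_le_iff_exists.1 hle
  have heF : e ∉ F := fun h => htc (mem_cz'.2 (hF.commute ht h))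
  set F₀ := cz e ⊓ F with hF₀
  have hcom : ∀ f ∈ F₀, Commute e f := fun f hf => (mem_cz'.1 hf.1).symm
  have hcard : Nat.card F ≤ 2 * Nat.card F₀ := by
    have := relIndex_mul_relIndex ⊥ F₀ F bot_le inf_le_right
    rw [relIndex_bot_left, relIndex_bot_left, hF₀, inf_relIndex_right] at this
    rw [← this, mul_comm]
    exact Nat.mul_le_mul_right _ hi
  have hlt : F₀ < F₀ ⊔ zpowers e := lt_of_le_of_ne le_sup_left fun h =>
    heF (show e ∈ F₀ from h ▸ mem_sup_right (mem_zpowers e)).2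
  have hcard' : 2 * Nat.card F₀ ≤ Nat.card (F₀ ⊔ zpowers e : Subgroup G) := by
    obtain ⟨k, hk⟩ := card_dvd_of_le hlt.le
    have h1 : Nat.card F₀ ≠ Nat.card (F₀ ⊔ zpowers e : Subgroup G) := fun h =>
      hlt.ne (eq_of_le_of_card_ge hlt.le h.ge)
    have h2 : 0 < Nat.card (F₀ ⊔ zpowers e : Subgroup G) := Nat.card_pos
    rw [hk] at h1 h2 ⊢
    match k, h1, h2 with
    | 0, _, h2 => simp at h2
    | 1, h1, _ => simp at h1
    | k + 2, _, _ => nlinarith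
  have hA : F₀ ⊔ zpowers e = A1 d f := L.jp_at hc he _
    (sup_le inf_le_left (zpowers_le.2 (mem_cz'.2 rfl)))
    (sup_le (inf_le_right.trans hFN) (zpowers_le.2 (le_normalizer heA)))
    ((hF.mono inf_le_right).sup_zpowers he2 hcom) (by omega)
  exact htc (mem_cz'.2 (L.no_trans (idx2_of_card (hA ▸ le_sup_left) (hc'.trans hcard)) (hF t ht)
    (L.NA_le hc (hFN ht)) (fun a ha => hF.commute ht (mem_inf.1 ha).2) he))

omit [Finite G] hc in
theorem mem_X {y : G} (hy : y ∈ BB d f) (h : y ≠ d) : y ∈ X := by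
  rw [← L.inter] at hy
  exact (hy.resolve_left h).1

/-- The classes of involutions of `K0`. -/
theorem inv_cls {a b : G} (ha : a ∈ X) (hb : b ∈ nb X a) {w : G} (hw : w ∈ K0) (w2 : w * w = 1) :
    w = 1 ∨ IsConj w d ∨ IsConj w (d * a) ∨ IsConj w (d * a * b) := by
  obtain ⟨g, hg, hA⟩ := L.inv w hw w2
  obtain ⟨k, hk, e⟩ := L.surj hA
  obtain ⟨ht, h⟩ := L.ty k hk
  have c : IsConj w (g * w * g⁻¹) := isConj_iff.2 ⟨g, rfl⟩
  have f0 := f_mem_BB d f (p := 0) (by decide)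
  have f5 := f_mem_BB d f (p := 5) (by decide)
  have f23 := f_mem_BB d f (p := 23) (by decide)
  obtain ⟨n, hn, en⟩ := L.trB hc f0
  have m : ∀ p ∈ [5, 23], n⁻¹ * f p * n⁻¹⁻¹ ∈ X := fun p hp => L.mem_X
    ((inv_mem hn _).1 (f_mem_BB d f (by revert p; decide))) fun h => by
      rw [← h, cj_inv_cj] at en
      exact (by decide : ∀ p ∈ [5, 23], p ≠ 0) p hp (L.R.inj
        ((by decide : ∀ p ∈ [5, 23], p < 693) p hp) (by norm_num) en)
  have e0 : n⁻¹ * f 0 * n⁻¹⁻¹ = d := by rw [← en, inv_cj_cj]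
  have k3 : ∀ x ∈ X, IsConj (d * x) (d * a) := fun x hx => by
    obtain ⟨u, hu, e⟩ := L.tr1 hx ha
    exact isConj_iff.2 ⟨u, by rw [cj_mul, e, cj_eq_of_commute (L.cK hu)]⟩
  have k5 : ∀ x ∈ X, ∀ y ∈ nb X x, IsConj (d * x * y) (d * a * b) := fun x hx y hy => by
    obtain ⟨u, hu, e, e'⟩ := L.tr2 hx hy ha hb
    exact isConj_iff.2 ⟨u, by rw [cj_mul, cj_mul, e, e', cj_eq_of_commute (L.cK hu)]⟩
  rw [e] at h
  generalize g * w * g⁻¹ = v at h c
  generalize ty1 k = t at h ht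
  interval_cases t
  · obtain rfl : v = 1 := h
    exact Or.inl (isConj_one_left.1 c)
  · obtain rfl : v = d := h
    exact Or.inr (Or.inl c)
  · exact Or.inr (Or.inl (c.trans (hc.2 v h).symm))
  · obtain ⟨x, hx, rfl⟩ := h
    exact Or.inr (Or.inr (Or.inl (c.trans ((L.com hx).eq ▸ k3 x hx))))
  · obtain ⟨x, hx, y, hy, rfl⟩ := h
    obtain ⟨u, -, e1, e2⟩ := L.tr2 hx hy (L.R.mem (a := 0) (by norm_num))
      (memT L.R (a := 5) (by decide +kernel))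
    refine Or.inr (Or.inr (Or.inl (c.trans (IsConj.trans (isConj_iff.2 ⟨n⁻¹ * u, ?_⟩)
      (k3 _ (m 5 (by simp)))))))
    rw [← cj_cj, cj_mul u, e1, e2, cj_mul, e0]
  · obtain ⟨x, hx, y, hy, rfl⟩ := h
    refine Or.inr (Or.inr (Or.inr (c.trans ?_)))
    rw [← ((L.com hx).mul_right (L.com hy.1)).eq, ← mul_assoc]
    exact k5 x hx y hy
  · refine Or.inr (Or.inr (Or.inr (c.trans ((IsConj.symm h).trans (IsConj.trans
      (isConj_iff.2 ⟨n⁻¹, ?_⟩) (k5 _ (m 5 (by simp)) _ ⟨m 23 (by simp), fun e => absurd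
        (L.R.inj (by norm_num) (by norm_num) (cj_inj e)) (by norm_num),
        (commute_cj_iff _ _ _).2 (com_true L.R (by decide +kernel))⟩))))))
    rw [show io d f 22 = f 0 * f 5 * f 23 by simp [io, iota_cons, ps, iota_zero, mul_assoc], cj_mul,
      cj_mul, e0]

/-- An even involution is conjugate into `K0`. -/
theorem ev_inv {w : G} (hw : w ∈ EV (BB d f)) (w2 : w * w = 1) : ∃ n : G, n * w * n⁻¹ ∈ K0 := by
  have hN := (idx2_EV _).le hw
  have h := (ev_iff hN fun x _ => by rw [cj_cj, w2]; simp).1 hw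
  rcases Set.eq_empty_or_nonempty {x | x ∈ BB d f ∧ w * x * w⁻¹ = x} with e | ⟨p, hp, e⟩
  · rw [e, L.ncard_BB, Set.ncard_empty] at h
    exact absurd h (by decide)
  obtain ⟨n, hn, rfl⟩ := L.trB hc hp
  exact ⟨n⁻¹, L.mem_of_ev (mem_cz'.2 ((commute_cj_left_iff _ _ _).1 (commute_of_cj_eq e).symm).symm.eq)
    (((idx2_EV _).cj_mem_iff (inv_mem hn) hN).2 hw)⟩

theorem transfer {a b : G} (ha : a ∈ X) (hb : b ∈ nb X a) {u : G} (u1 : u ≠ 1) (u2 : u * u = 1)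
    (m1 : ¬ IsConj u d) (m2 : ¬ IsConj u (d * a)) (m3 : ¬ IsConj u (d * a * b)) :
    ∃ G0 : Subgroup G, G0.index = 2 ∧ u ∉ G0 := by
  have : Fact (Nat.Prime 2) := ⟨Nat.prime_two⟩
  obtain ⟨T, hT⟩ := L.co.ea.isPGroup.exists_le_sylow
  have hN : (T : Subgroup G) ≤ normalizer (BB d f) := fun g hg =>
    L.NA_le hc ((L.jp_top hc).le_normalizer L.co.ea T.isPGroup' le_top hT hg)
  have ou : orderOf u = 2 := orderOf_eq_prime (by rw [pow_two, u2]) u1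
  obtain ⟨S, hS⟩ := (IsPGroup.of_card (G := zpowers u) (p := 2) (n := 1)
    (by rw [Nat.card_zpowers, ou]; rfl)).exists_le_sylow
  obtain ⟨g, hg⟩ := MulAction.exists_smul_eq G S T
  have hx : g * u * g⁻¹ ∈ (T : Subgroup G) := by
    rw [← hg]; exact ⟨u, hS (mem_zpowers u), rfl⟩
  obtain ⟨s, -, -, s1, s2⟩ := L.exists_odd
  obtain ⟨G0, h0, h1⟩ := CL.Iso.thompson_transfer_inv (H := normalizer (BB d f)) (M := EV (BB d f))
    ((CL.Iso.sylow_two_odd_index T).of_dvd_nat (index_dvd_of_le hN))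
    (index_eq_two_iff.2 ⟨⟨s, s1⟩, fun b => by
      simp only [mem_subgroupOf, coe_mul, (idx2_EV _).mul_mem_iff b.2 s1, s2, iff_false]
      exact xor_not_left.2 Iff.rfl⟩) (hN hx)
    ((MulAut.conj g).orderOf_eq u ▸ ou) fun k hk => by
      have k2 : ∀ y : G, y * u * y⁻¹ * (y * u * y⁻¹) = 1 := fun y => by rw [← cj_mul, u2]; group
      rw [cj_cj] at hk
      obtain ⟨n, hn⟩ := L.ev_inv hc hk (k2 _)
      rw [cj_cj] at hn
      have c : IsConj u (n * (k * g) * u * (n * (k * g))⁻¹) := isConj_iff.2 ⟨_, rfl⟩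
      rcases L.inv_cls hc ha hb hn (k2 _) with h | h | h | h
      exacts [u1 (isConj_one_left.1 (h ▸ c)), m1 (c.trans h), m2 (c.trans h), m3 (c.trans h)]
  exact ⟨G0, h0, fun h => h1 ((normal_of_index_eq_two h0).conj_mem u h g)⟩

end Cls

end LK

end CL.F3.AT
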