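import Mathlib
import Cfsg.Agent.SPOR.FiRec10
import Cfsg.Agent.PERM.McL3L
import Cfsg.Agent.S1713
import Cfsg.Agent.S2079
import Cfsg.Agent.PERM.F3.AutT3

/-!
The automorphism group of `Fi₂₂` from an involution centralizer `2.U₆(2).2` (Thompson transfer).
The local analysis is in `PERM/F3/AutT1-3`.
-/

set_option autoImplicit false
open Subgroup CL.Odd Cfsg

namespace CL.F3

theorem autT {G : Type*} [Group G] [Finite G] {d : G} (d2 : d * d = 1) (d1 : d ≠ 1) {K0 : Subgroup G}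
    (hK : K0 ≤ cz d) (hi : K0.relIndex (cz d) = 2) (hp : Group.IsPerfect K0)
    {F : Type} [Field F] [Fintype F] (hF : Fintype.card F = 4) (ρ : K0 →* PSU 6 F 2)
    (hρ : Function.Surjective ρ) (hk : ∀ g : K0, ρ g = 1 ↔ (g : G) ∈ zpowers d) (dK : d ∈ K0)
    (hC : ∀ g ∈ cz d, (∀ k ∈ K0, g * k * g⁻¹ * k⁻¹ ∈ zpowers d) → g ∈ zpowers d)
    {a b : G} (ha : a ∈ K0) (hb : b ∈ K0) (da : IsConj d a) (db : IsConj d b) (ad : a ≠ d) (bd : b ≠ d)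
    (ab : a ≠ b) (c : a * b = b * a) (n1 : ¬ IsConj d (d * a))
    {u : G} (hu : u ∈ cz d) (u0 : u ∉ K0) (u2 : u * u = 1) (m1 : ¬ IsConj u d)
    (m2 : ¬ IsConj u (d * a)) (m3 : ¬ IsConj u (d * a * b)) :
    Nonempty (G ≃* MulAut Spor.Fi22) := by
  obtain ⟨X, f, L⟩ := AT.exists_LK d2 d1 hK hi hp hF ρ hρ hk dK hC hu u0
  have hc := L.cls ha da ad n1
  have aX := (hc.1 a ha da).resolve_left ad
  obtain ⟨G0, h0, h1⟩ := L.transfer hc aX ⟨(hc.1 b hb db).resolve_left bd, ab.symm, c⟩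
    (fun e => u0 (by rw [e]; exact one_mem _)) u2 m1 m2 m3
  have I : FiRec.Idx2 G0 ⊤ := AT.idx2_of le_top (by rwa [relIndex_top_right])
  have hle : K0 ≤ G0 := fun g hg => (mem_inf.1 ((show FiRec.Idx2 (G0 ⊓ K0) K0 from
    ⟨inf_le_right, fun x hx y hy n1 n2 => ⟨I.mul x trivial y trivial (fun h => n1 ⟨h, hx⟩)
      fun h => n2 ⟨h, hy⟩, K0.mul_mem hx hy⟩⟩).le_of_perfect hp hg)).1
  have hz : ∀ g ∈ G0, g ∈ cz d → g ∈ K0 := fun g hg h => by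
    by_contra n
    exact h1 ((G0.mul_mem_cancel_left hg).1 (hle (L.idx.mul g h u hu n u0)))
  obtain ⟨g, hg, e⟩ : ∃ g ∈ G0, g * d * g⁻¹ = a := by
    obtain ⟨g, e⟩ := isConj_iff.1 da
    by_cases hg : g ∈ G0
    · exact ⟨g, hg, e⟩
    · exact ⟨g * u, I.mul g trivial u trivial hg h1, by rw [← TTU.cj_cj, mem_cz.1 hu, e]⟩
  obtain ⟨ε⟩ := F4.nonempty_equiv hF
  obtain ⟨X', f', M⟩ := FiRec.exists_M1 (AT.ce_sub d2 d1 hK hρ hk hle (hle dK) hz)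
    (FiA.is21_TV hF ε) (FiA.gl_TV hF ε) (AT.perfect_sub hp hK hle (hle dK) hz)
    ⟨⟨g, hg⟩, mem_centralizer_singleton_iff.2 (Subtype.ext (show g * d * g⁻¹ * d = d * (g * d * g⁻¹) from
      e ▸ mem_cz'.1 (hK ha))), fun h => ad (e.symm.trans (congrArg Subtype.val h))⟩
  obtain ⟨φ⟩ := FiRec.isoFi22_of M.is22 M.gp
  refine McL3.iso_aut h0 φ (fun z hz' => ?_) Agent.S2079.result
  rcases TT.mem_zpowers_of_sq d2 (hC z (mem_cz'.2 (hz' d (hle dK))) fun k hk => by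
    rw [hz' k (hle hk)]; simp) with h | h
  · exact h
  · exact absurd (by rw [← e, ← h, ← hz' g hg, mul_inv_cancel_right]) ad

end CL.F3
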