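import Cfsg.Agent.SPOR.FiRec10
import Cfsg.Agent.SPOR.FiA6
import Cfsg.Agent.PERM.FT3Count

/-!
The automorphism group of `Fi₂₂` from an involution centralizer, part 1: the local data in a subgroup
`K0` of index two of the centralizer of `d`, and the action of the outer elements on the base.
-/

set_option autoImplicit false
set_option maxHeartbeats 200000

open Subgroup CL.Odd Cfsg CL.TT CL.TTU CL.TTU.U6 CL.Misc CL.K CL.FiA CL.FiRec

namespace CL.F3.AT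

variable {G : Type*} [Group G]

/-- the base -/
def BB (d : G) (f : ℕ → G) : Set G := {a | a ∈ d :: ps.map f}

/-- coordinates -/
def io (d : G) (f : ℕ → G) (k : ℕ) : G := iota (d :: ps.map f) k

/-- The local data in `K0`. -/
structure LK (K0 : Subgroup G) (d : G) (X : Set G) (f : ℕ → G) : Prop where
  R : Real 693 op X f
  sq : d * d = 1
  ne : d ≠ 1
  dK : d ∈ K0
  idx : Idx2 K0 (cz d)
  gen : closure X = K0
  card : Nat.card K0 = 2 * 9196830720
  ln : wd f ln0 = d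
  h1 : J f HM1 = 1
  h2 : J f HM2 = d
  co : Co (d :: ps.map f) 10 cs1 (A1 d f)
  jp : JP K0 (A1 d f)
  inv : ∀ t ∈ K0, t * t = 1 → ∃ g ∈ K0, g * t * g⁻¹ ∈ A1 d f
  ty : ∀ k < 2 ^ 10, ty1 k ≤ 6 ∧ Ty d X (io d f 22) (io d f k) (ty1 k)
  inter : insert d (X ∩ A1 d f) = BB d f
  nm0 : ∀ g ∈ cz d, ∀ x ∈ X, g * x * g⁻¹ ∈ X ∨ g * x * g⁻¹ * d ∈ X
  hC : ∀ g ∈ cz d, (∀ k ∈ K0, Commute g k) → g ∈ K0
  out : ∃ u ∈ cz d, u ∉ K0

section push

variable {H : Type*} [Group H] (φ : H →* G)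

theorem iota_hom (l : List H) (m : ℕ) : iota (l.map φ) m = φ (iota l m) := by
  induction l generalizing m with
  | nil => simp [iota_nil]
  | cons b bs ih =>
    rw [List.map_cons, iota_cons, iota_cons, map_mul, ih]
    split_ifs <;> simp

theorem pts_hom (d : H) (f : ℕ → H) : φ d :: ps.map (φ ∘ f) = (d :: ps.map f).map φ := by
  simp

theorem set_hom (l : List H) : {a | a ∈ l.map φ} = φ '' {a | a ∈ l} := by
  ext a; simp

theorem A1_hom (d : H) (f : ℕ → H) : A1 (φ d) (φ ∘ f) = (A1 d f).map φ := by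
  rw [A1, A1, pts_hom, set_hom, MonoidHom.map_closure]

theorem wd_hom (f : ℕ → H) (w : List ℕ) : wd (φ ∘ f) w = φ (wd f w) := by
  rw [wd, wd, map_list_prod, List.map_map]

theorem J_hom (f : ℕ → H) (m : ℕ) : J (φ ∘ f) m = φ (J f m) := by
  rw [J, J, ← iota_hom, List.map_map]

variable {φ} (hφ : Function.Injective φ)
include hφ

theorem co_hom {l : List H} {r : ℕ} {cs : List ℕ} {A : Subgroup H} (C : Co l r cs A) :
    Co (l.map φ) r cs (A.map φ) := by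
  refine ⟨⟨?_, ?_⟩, ?_, C.lt, fun k hk h => C.inj k hk (hφ (by rw [← iota_hom, h, map_one])), ?_⟩
  · intro a ha
    obtain ⟨a, ha', rfl⟩ := List.mem_map.1 ha
    rw [← map_mul, C.ci.sq a ha', map_one]
  · intro a ha b hb
    obtain ⟨a, ha', rfl⟩ := List.mem_map.1 ha
    obtain ⟨b, hb', rfl⟩ := List.mem_map.1 hb
    exact (C.ci.com a ha' b hb').map φ
  · conv_rhs => rw [← C.map]
    rw [List.map_map]
    exact List.map_congr_left fun c _ => iota_hom φ l c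
  · rw [C.gen, set_hom, MonoidHom.map_closure]

theorem isoOn_hom (X : Set H) : IsoOn φ X (φ '' X) :=
  ⟨hφ.injOn.bijOn_image, fun _ _ _ _ => by rw [map_mul, map_mul]⟩

theorem fs_hom {X : Set H} (hX : FS X) : FS (φ '' X) := by
  refine fs_of ?_ ?_ ?_ ?_
  · rintro _ ⟨a, ha, rfl⟩ h
    exact hX.ne_one ha (hφ (h.trans (map_one φ).symm))
  · rintro _ ⟨a, ha, rfl⟩
    rw [← map_mul, hX.sq ha, map_one]
  · rintro _ ⟨a, ha, rfl⟩ _ ⟨b, hb, rfl⟩
    by_cases h : Commute a b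
    · exact Or.inl (h.map φ)
    · right; simp only [← map_mul]; rw [hX.braid ha hb h]
  · rintro _ ⟨a, ha, rfl⟩ _ ⟨b, hb, rfl⟩
    exact ⟨_, hX.conj a ha b hb, by simp only [map_mul]⟩

theorem nb_hom {X : Set H} {x y : H} (h : y ∈ nb X x) : φ y ∈ nb (φ '' X) (φ x) :=
  ⟨⟨y, h.1, rfl⟩, fun e => h.2.1 (hφ e), h.2.2.map φ⟩

theorem ty_hom {d z u : H} {X : Set H} {t : ℕ} (h : Ty d X z u t) :
    Ty (φ d) (φ '' X) (φ z) (φ u) t := by
  match t, h with
  | 0, h => exact (congrArg φ h).trans (map_one φ)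
  | 1, h => exact congrArg φ h
  | 2, h => exact ⟨u, h, rfl⟩
  | 3, ⟨x, hx, e⟩ => exact ⟨_, ⟨x, hx, rfl⟩, by rw [e, map_mul]⟩
  | 4, ⟨x, hx, y, hy, e⟩ => exact ⟨_, ⟨x, hx, rfl⟩, _, nb_hom hφ hy, by rw [e, map_mul]⟩
  | 5, ⟨x, hx, y, hy, e⟩ => exact ⟨_, ⟨x, hx, rfl⟩, _, nb_hom hφ hy, by rw [e, map_mul, map_mul]⟩
  | _ + 6, h => exact φ.map_isConj h

theorem jp_hom [Finite G] {A C : Subgroup H} (hC : ∀ g, g ∈ C) (h : JP C A) :
    JP φ.range (A.map φ) := by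
  intro F hF hN hE hc
  have e : (F.comap φ).map φ = F := map_comap_eq_self hF
  have := Finite.of_injective φ hφ
  have h1 : F.comap φ = A := by
    refine h (F.comap φ) (fun g _ => hC g) (fun g hg => mem_normalizer_of_forall fun a ha => ?_)
      (fun g hg => hφ (by rw [map_mul, hE _ hg, map_one])) ?_
    · obtain ⟨b, hb, e⟩ := cj_mem_of_mem_normalizer (hN hg) (mem_map_of_mem φ ha)
      rw [← map_inv, ← map_mul, ← map_mul] at e
      exact hφ e ▸ hb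
    · rwa [← e, card_map_of_injective hφ, card_map_of_injective hφ] at hc
  rw [← e, h1]

end push

section ce

variable {Q : Type*} [Group Q] {d : G} {K0 : Subgroup G} (ρ : K0 →* Q) (H : Subgroup G)

open Classical in
/-- the extension of `ρ` by `1` -/
noncomputable def rho (g : H) : Q := if h : (g : G) ∈ K0 then ρ ⟨g, h⟩ else 1

variable {ρ H}

theorem rho_eq {g : H} (h : (g : G) ∈ K0) : rho ρ H g = ρ ⟨g, h⟩ := dif_pos h

theorem ce_sub (d2 : d * d = 1) (d1 : d ≠ 1) (hK : K0 ≤ cz d) (hρ : Function.Surjective ρ)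
    (hk : ∀ g : K0, ρ g = 1 ↔ (g : G) ∈ zpowers d) (hH : K0 ≤ H) (dH : d ∈ H)
    (h : ∀ g ∈ H, g ∈ cz d → g ∈ K0) : CE (⟨d, dH⟩ : H) (rho ρ H) := by
  have m : ∀ g : H, Commute g ⟨d, dH⟩ → (g : G) ∈ K0 := fun g hg =>
    h g g.2 (mem_cz'.2 (congrArg Subtype.val hg.eq))
  refine ⟨Subtype.ext d2, fun e => d1 (congrArg Subtype.val e), fun g k hg hk' => ?_, fun q => ?_,
    fun g hg => ?_⟩
  · rw [rho_eq (m g hg), rho_eq (m k hk'), rho_eq (m _ (hg.mul_left hk')), ← map_mul]; rfl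
  · obtain ⟨g, rfl⟩ := hρ q
    exact ⟨⟨g, hH g.2⟩, Subtype.ext (mem_cz'.1 (hK g.2)), rho_eq g.2⟩
  · rw [rho_eq (m g hg), hk]
    refine ⟨fun e => (mem_zpowers_of_sq d2 e).imp Subtype.ext Subtype.ext, ?_⟩
    rintro (rfl | rfl)
    exacts [one_mem _, mem_zpowers _]

theorem perfect_sub (hp : Group.IsPerfect K0) (hK : K0 ≤ cz d) (hH : K0 ≤ H) (dH : d ∈ H)
    (h : ∀ g ∈ H, g ∈ cz d → g ∈ K0) :
    Group.IsPerfect (centralizer ({⟨d, dH⟩} : Set H)) := by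
  let ψ : K0 →* centralizer ({⟨d, dH⟩} : Set H) := (inclusion hH).codRestrict _ fun g =>
    mem_centralizer_singleton_iff.2 (Subtype.ext (mem_cz'.1 (hK g.2)))
  exact Group.IsPerfect.ofSurjective (f := ψ) fun g => ⟨⟨g.1, h _ g.1.2 (mem_cz'.2
    (congrArg Subtype.val (mem_centralizer_singleton_iff.1 g.2)))⟩, rfl⟩

theorem idx2_of {K L : Subgroup G} (hK : K ≤ L) (hi : K.relIndex L = 2) : Idx2 K L :=
  ⟨hK, fun g hg k hk h1 h2 => by
    have := (mul_mem_iff_of_index_two hi (a := ⟨g, hg⟩) (b := ⟨k, hk⟩)).2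
      (by simp [mem_subgroupOf, h1, h2])
    exact this⟩

theorem exists_aut (hρ : Function.Surjective ρ) (θ : K0 ≃* K0) (h : ∀ g, ρ (θ g) = 1 ↔ ρ g = 1) :
    ∃ τ : Q ≃* Q, ∀ g, τ (ρ g) = ρ (θ g) := by
  have e : ρ.ker = (ρ.comp θ.toMonoidHom).ker := by ext g; exact (h g).symm
  refine ⟨(QuotientGroup.quotientKerEquivOfSurjective ρ hρ).symm.trans
    ((QuotientGroup.quotientMulEquivOfEq e).trans (QuotientGroup.quotientKerEquivOfSurjective _
      (hρ.comp θ.surjective))), fun g => ?_⟩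
  rw [MulEquiv.trans_apply, show (QuotientGroup.quotientKerEquivOfSurjective ρ hρ).symm (ρ g) = g from
    (MulEquiv.symm_apply_eq _).2 rfl]
  rfl

end ce

theorem exists_LK [Finite G] {d : G} (d2 : d * d = 1) (d1 : d ≠ 1) {K0 : Subgroup G}
    (hK : K0 ≤ cz d) (hi : K0.relIndex (cz d) = 2) (hp : Group.IsPerfect K0)
    {F : Type} [Field F] [Fintype F] (hF : Fintype.card F = 4) (ρ : K0 →* PSU 6 F 2)
    (hρ : Function.Surjective ρ) (hk : ∀ g : K0, ρ g = 1 ↔ (g : G) ∈ zpowers d) (dK : d ∈ K0)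
    (hC : ∀ g ∈ cz d, (∀ k ∈ K0, g * k * g⁻¹ * k⁻¹ ∈ zpowers d) → g ∈ zpowers d)
    {u : G} (hu : u ∈ cz d) (u0 : u ∉ K0) : ∃ X f, LK K0 d X f := by
  obtain ⟨ε⟩ := F4.nonempty_equiv hF
  have ce := ce_sub d2 d1 hK hρ hk le_rfl dK fun g h _ => h
  obtain ⟨X, f, L, T⟩ := exists_L1 ce (is21_TV hF ε) (gl_TV hF ε)
    (perfect_sub hp hK le_rfl dK fun g h _ => h)
  have hz : ∀ g : K0, Commute g ⟨d, dK⟩ := fun g => Subtype.ext (mem_cz'.1 (hK g.2))
  have hφ := K0.subtype_injective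
  have I := idx2_of hK hi
  have hr : ∀ g : K0, rho ρ K0 g = ρ g := fun g => rho_eq g.2
  refine ⟨K0.subtype '' X, K0.subtype ∘ f, L.R.map (isoOn_hom hφ X) (fs_hom hφ L.R.fs), d2, d1, dK, I,
    ?_, ?_, ?_, ?_, ?_, ?_, ?_, ?_, ?_, ?_, ?_, ?_, u, hu, u0⟩
  · rw [← MonoidHom.map_closure, show closure X = ⊤ from eq_top_iff.2 fun g _ => L.gen g (hz g),
      ← MonoidHom.range_eq_map, range_subtype]
  · rw [← L.card, show centralizer ({⟨d, dK⟩} : Set K0) = ⊤ from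
      eq_top_iff.2 fun g _ => mem_centralizer_singleton_iff.2 (hz g), card_top]
  · rw [wd_hom, L.ln]; rfl
  · rw [J_hom, L.h1]; rfl
  · rw [J_hom, L.h2]; rfl
  · have := co_hom hφ L.co
    rwa [← pts_hom, ← A1_hom] at this
  · have := jp_hom hφ (fun g => mem_centralizer_singleton_iff.2 (hz g)) L.jp
    rwa [← A1_hom, range_subtype] at this
  · intro t ht h
    obtain ⟨g, -, e⟩ := L.pre.inv ⟨t, ht⟩ (hz _) (Subtype.ext h)
    have := mem_map_of_mem K0.subtype e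
    rw [← A1_hom] at this
    exact ⟨g, g.2, this⟩
  · intro k hk
    have := ty_hom hφ (L.ty hk).2
    rw [← iota_hom, ← iota_hom, ← pts_hom] at this
    exact ⟨(L.ty hk).1, this⟩
  · have := congrArg (Set.image K0.subtype) L.inter
    rw [← set_hom, ← pts_hom, Set.image_insert_eq, Set.image_inter hφ, ← coe_map, ← A1_hom] at this
    exact this
  · rintro g hg _ ⟨x, hx, rfl⟩
    have n : ∀ g ∈ cz d, ∀ k ∈ K0, g * k * g⁻¹ ∈ K0 := fun g hg k hk =>
      (I.cj_mem_iff hg (hK hk)).2 hk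
    let θ : K0 ≃* K0 := K0.normalizerMonoidHom ⟨g, mem_normalizer_of_forall (n g hg)⟩
    have hθ : ∀ k, (θ k : G) = g * k * g⁻¹ := fun _ => rfl
    have z : ∀ g ∈ cz d, ∀ k ∈ zpowers d, g * k * g⁻¹ ∈ zpowers d := fun g hg k hk => by
      rcases mem_zpowers_of_sq d2 hk with rfl | rfl
      exacts [by simp, by rw [mem_cz.1 hg]; exact hk]
    obtain ⟨τ, hτ⟩ := exists_aut hρ θ fun k => by
      rw [hk, hk, hθ]
      exact ⟨fun h => by simpa [mul_assoc] using z _ (inv_mem hg) _ h, z g hg _⟩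
    have h1 := (gl_TV hF ε).aut_mem (ch_TV hF ε) τ (T.iso.mem hx)
    rw [hr, hτ, ← hr] at h1
    exact (T.mem_or ce (hz _) h1).imp (fun h => ⟨_, h, rfl⟩) fun h => ⟨_, h, rfl⟩
  · intro g hg h
    exact zpowers_le.2 dK (hC g hg fun k hk => by
      rw [cj_eq_of_commute (h k hk), mul_inv_cancel]; exact one_mem _)

/-- the code of a point -/
def cd1 (p : ℕ) : ℕ := cs1.getD (ps.idxOf p + 1) 0
/-- the code of a word -/
def xc1 (w : List ℕ) : ℕ := (w.map cd1).foldr Nat.xor 0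
/-- the outer automorphism on the first nine points -/
def oP : List ℕ := [0, 1, 6, 15, 20, 5, 2, 19, 8]

theorem chk_kd1 : ∀ j < 3, ∀ i < 2, (∀ x ∈ ps, kp^[i] (dl^[j] x) ∈ ps) ∧
    xc1 (ln0.map fun x => kp^[i] (dl^[j] x)) = 1 ∧
    (xc1 ([0, 5, 23, 30, 408, 417].map fun x => kp^[i] (dl^[j] x)) = 0 →
      xc1 ([0, 5, 23, 117, 350, 420].map fun x => kp^[i] (dl^[j] x)) = 1 →
      (i = 0 ∧ j = 0) ∨ (ps.take 9).map (fun x => kp^[i] (dl^[j] x)) = oP.map (ps.getD · 0)) := by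
  intro j hj i hi
  interval_cases j <;> interval_cases i <;> decide +kernel

theorem chk_HM : sel (sing ps) HM1 = [0, 5, 23, 30, 408, 417] ∧
    sel (sing ps) HM2 = [0, 5, 23, 117, 350, 420] := by decide +kernel

theorem xc1_lt (w : List ℕ) : xc1 w < 2 ^ 10 := by
  induction w with
  | nil => exact Nat.two_pow_pos _
  | cons p w ih =>
    refine Nat.xor_lt_two_pow ?_ ih
    unfold cd1
    by_cases hi : ps.idxOf p + 1 < cs1.length
    · rw [List.getD_eq_getElem _ _ hi]; exact chk_cs1.2.2.1 _ (List.getElem_mem hi)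
    · rw [List.getD_eq_default _ _ (by omega)]; norm_num

theorem io_one (d : G) (f : ℕ → G) : io d f 1 = d := L1.iota_one

theorem io_zero (d : G) (f : ℕ → G) : io d f 0 = 1 := iota_zero _

theorem A1_BB (d : G) (f : ℕ → G) : A1 d f = closure (BB d f) := rfl

omit [Group G] in
theorem d_mem_BB (d : G) (f : ℕ → G) : d ∈ BB d f := List.mem_cons_self

theorem BB_le (d : G) (f : ℕ → G) {x : G} (h : x ∈ BB d f) : x ∈ A1 d f := subset_closure h

omit [Group G] in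
theorem f_mem_BB (d : G) (f : ℕ → G) {p : ℕ} (h : p ∈ ps) : f p ∈ BB d f :=
  List.mem_cons_of_mem _ (List.mem_map_of_mem h)

namespace LK

variable {K0 : Subgroup G} {d : G} {X : Set G} {f : ℕ → G} (L : LK K0 d X f)
include L

theorem XK {x : G} (h : x ∈ X) : x ∈ K0 := L.gen ▸ subset_closure h

theorem cK {g : G} (h : g ∈ K0) : Commute g d := mem_cz'.1 (L.idx.le h)

theorem com {x : G} (h : x ∈ X) : Commute d x := (L.cK (L.XK h)).symm

theorem is21 : Is21 X := ⟨f, L.R⟩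

theorem dX : d ∉ X := fun h => by
  obtain ⟨c, hc⟩ := L.is21.far_nonempty h
  exact hc.2 (L.com hc.1)

theorem cjX {g : G} (hg : g ∈ K0) {x : G} (hx : x ∈ X) : g * x * g⁻¹ ∈ X :=
  L.R.fs.cj_mem subset_rfl (L.gen ▸ hg) hx

theorem hc : ∀ z ∈ zpowers d, ∀ x ∈ X, Commute z x := by
  rintro _ ⟨k, rfl⟩ x hx
  exact (L.com hx).zpow_left k

theorem tr2 {a b a' b' : G} (ha : a ∈ X) (hb : b ∈ nb X a) (ha' : a' ∈ X) (hb' : b' ∈ nb X a') :
    ∃ g ∈ K0, g * a * g⁻¹ = a' ∧ g * b * g⁻¹ = b' := by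
  obtain ⟨g, hg, e⟩ := T21.tf L.is21 [a, b] [a', b'] (fr_two.2 ⟨ha, hb⟩) (fr_two.2 ⟨ha', hb'⟩) rfl rfl
  simp only [List.map_cons, List.map_nil, List.cons.injEq, and_true] at e
  exact ⟨g, L.gen ▸ hg, e⟩

theorem tr1 {a a' : G} (ha : a ∈ X) (ha' : a' ∈ X) : ∃ g ∈ K0, g * a * g⁻¹ = a' := by
  obtain ⟨b, hb⟩ := L.is21.nb_nonempty ha
  obtain ⟨b', hb'⟩ := L.is21.nb_nonempty ha'
  obtain ⟨g, h1, h2, -⟩ := L.tr2 ha hb ha' hb'
  exact ⟨g, h1, h2⟩

theorem xor (m n : ℕ) : io d f (m ^^^ n) = io d f m * io d f n := L.co.xor m n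

theorem ioA (m : ℕ) : io d f m ∈ A1 d f := L.co.mem m

theorem eq_of {m n : ℕ} (hm : m < 2 ^ 10) (hn : n < 2 ^ 10) (e : io d f m = io d f n) : m = n :=
  L.co.eq_of hm hn e

theorem surj {a : G} (ha : a ∈ A1 d f) : ∃ k < 2 ^ 10, io d f k = a := L.co.surj ha

theorem mem_BB {a : G} : a ∈ BB d f ↔ ∃ c ∈ cs1, io d f c = a := by
  rw [BB, Set.mem_ofPred_eq, ← L.co.map, List.mem_map]; rfl

theorem iota_cs {i : ℕ} (hi : i < 21) : io d f (cs1.getD (i + 1) 0) = f (ps.getD i 0) := by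
  rw [io, L.co.get (Nat.succ_lt_succ hi), List.getD_cons_succ, getD_map f hi]

theorem wd_eq {w : List ℕ} (h : ∀ p ∈ w, p ∈ ps) : wd f w = io d f (xc1 w) := by
  induction w with
  | nil => exact (io_zero d f).symm
  | cons p w ih =>
    have hp := List.idxOf_lt_length_of_mem (h p List.mem_cons_self)
    rw [wd_cons, ih fun q hq => h q (List.mem_cons_of_mem _ hq),
      show xc1 (p :: w) = cd1 p ^^^ xc1 w from rfl, L.xor, cd1, L.iota_cs hp,
      List.getD_eq_getElem _ _ hp, List.getElem_idxOf]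

theorem cj_pts {g : G} (hg : Commute g d) {p : List ℕ} (hp : ∀ i ∈ p, i < 21)
    (h : (ps.take 9).map (fun x => g * f x * g⁻¹) = p.map fun i => f (ps.getD i 0)) {m : ℕ}
    (hm : m < 2 ^ 10) :
    g * io d f m * g⁻¹ = io d f (lin (1 :: p.map fun i => cs1.getD (i + 1) 0) m) := by
  refine L.co.cj ?_ hm
  rw [List.take_succ_cons, List.map_cons, List.map_cons, L1.iota_one, cj_eq_of_commute hg,
    ← List.map_take, List.map_map, List.map_map]
  congr 1
  exact h.trans (List.map_congr_left fun i hi => (L.iota_cs (hp i hi)).symm)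

theorem K_le : KG f (zpowers d) ≤ K0 := KG_le L.R (fun _ hx => L.XK hx) (zpowers_le.2 L.dK)

theorem A_le : A1 d f ≤ K0 := L1.A_le_K.trans L.K_le

theorem coset {x : G} (hx : x ∈ KG f (zpowers d)) :
    ∃ j < 64, ∃ a ∈ A1 d f, x = wd f (sel gs j) * a := by
  rw [A1_eq]
  exact exists_coset L.R L.hc (fun a ha => mem_of_central L.R L.hc (L.ln ▸ mem_zpowers _)
    (L.h1 ▸ one_mem _) (L.h2 ▸ mem_zpowers _) (mem_sup_left ha)) hx

theorem cj_coset' {j : ℕ} (hj : j < 64) {a : G} (ha : a ∈ A1 d f) {m : ℕ} (hm : m < 2 ^ 10) :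
    wd f (sel gs j) * a * io d f m * (wd f (sel gs j) * a)⁻¹ = io d f (lin (im j) m) := by
  rw [← cj_cj, cj_eq_of_commute (L.co.ea.commute ha (L.ioA m))]
  have := L.cj_pts (g := wd f (sel gs j)) (L.cK (L.K_le (wd_sel_mem _ j)))
    (p := (List.range 9).map (sg j)) (fun i hi => by
      obtain ⟨t, ht, rfl⟩ := List.mem_map.1 hi
      exact (cj_coset L.R hj (List.mem_range.1 ht)).1) (by
      rw [show ps.take 9 = (List.range 9).map (ps.getD · 0) from rfl, List.map_map, List.map_map]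
      exact List.map_congr_left fun t ht => (cj_coset L.R hj (List.mem_range.1 ht)).2) hm
  rwa [List.map_map] at this

theorem card_zpowers : Nat.card (zpowers d) = 2 := by
  rw [Nat.card_zpowers]; exact orderOf_eq_prime (by rw [pow_two, L.sq]) L.ne

theorem mul_d_not {x : G} (hx : x ∈ X) : x * d ∉ X := fun h => by
  obtain ⟨c, hc⟩ := L.is21.far_nonempty hx
  have := L.R.fs.eq_of_mul_central hx h hc.1 hc.2 fun y hy => by
    rw [L.R.fs.cancel_left hx]; exact L.com hy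
  exact L.ne (left_eq_mul.1 this)

/-- The action of the centralizer of `d` on `X`. -/
theorem act_cls {g : G} (hg : g ∈ cz d) : ∃ k ∈ K0, ∃ j < 3, ∃ i < 2,
    ∀ x < 693, g * f x * g⁻¹ = k * f (kp^[i] (dl^[j] x)) * k⁻¹ := by
  have gd : Commute g d := mem_cz'.1 hg
  obtain ⟨ε, hε, hm⟩ : ∃ ε, (ε = 1 ∨ ε = d) ∧ ∀ x ∈ X, g * x * g⁻¹ * ε ∈ X := by
    by_cases h : ∀ x ∈ X, g * x * g⁻¹ ∈ X
    · exact ⟨1, Or.inl rfl, by simpa using h⟩
    push Not at h
    obtain ⟨y, hy, h⟩ := h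
    refine ⟨d, Or.inr rfl, fun x hx => ?_⟩
    obtain ⟨k, hk, rfl⟩ := L.tr1 hy hx
    have h1 := (L.idx.cj_mem_iff hg (L.idx.le hk)).2 hk
    have := L.cjX h1 ((L.nm0 g hg y hy).resolve_left h)
    rw [cj_mul, cj_eq_of_commute (L.cK h1)] at this
    convert this using 2
    group
  have e2 : ε * ε = 1 := by rcases hε with rfl | rfl; exacts [one_mul _, L.sq]
  have ec : ∀ y ∈ cz d, Commute y ε := fun y hy => by
    rcases hε with rfl | rfl; exacts [Commute.one_right _, mem_cz'.1 hy]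
  have cm : ∀ x ∈ X, g * x * g⁻¹ ∈ cz d := fun x hx =>
    mul_mem (mul_mem hg (L.idx.le (L.XK hx))) (inv_mem hg)
  have hI : IsoOn (fun x => g * x * g⁻¹ * ε) X X := by
    refine ⟨(L.R.finite.injOn_iff_bijOn_of_mapsTo hm).1 fun a _ b _ e => cj_inj (mul_right_cancel e),
      fun a _ b hb => ?_⟩
    rw [cj_mul, cj_mul, mul_assoc _ ε, ← mul_assoc ε, ← (ec _ (cm b hb)).eq, mul_assoc _ ε, e2, mul_one]
    simp only [mul_assoc]
  obtain ⟨j, hj, i, hi, k, hk, e⟩ := real_classify L.R (L.R.map hI L.R.fs)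
  rw [L.gen] at hk
  refine ⟨k, hk, j, hj, i, hi, ?_⟩
  rcases hε with rfl | rfl
  · simpa using e
  exfalso
  obtain ⟨c1, c2, -⟩ := chk_kd1 j hj i hi
  have R' := L.R.map ((isoOn_cj_image g X)) (fs_cj L.R.fs g)
  have h1 := ln_mul R' L.sq (by rintro _ ⟨x, hx, rfl⟩; exact mem_cz'.1 (cm x hx))
  have h2 : wd ((fun x => g * x * g⁻¹) ∘ f) ln0 = ε := by
    conv_rhs => rw [← cj_eq_of_commute gd, ← L.ln]
    rw [wd, wd, ← prod_map_cj, List.map_map]
  have h3 : wd (fun i => ((fun x => g * x * g⁻¹) ∘ f) i * ε) ln0 = ε := by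
    conv_rhs => rw [← cj_eq_of_commute (L.cK hk), ← io_one ε f, ← c2, ← L.wd_eq (by
      simpa using fun p hp => c1 p ((by decide : ∀ p ∈ ln0, p ∈ ps) p hp))]
    rw [wd, wd, ← prod_map_cj, List.map_map, List.map_map]
    exact congrArg _ (List.map_congr_left fun p hp => e p ((by decide : ∀ p ∈ ln0, p < 693) p hp))
  rw [h2, h3, L.sq] at h1
  exact L.ne h1

theorem nm {g : G} (hg : g ∈ cz d) : Nm X g := by
  intro x hx
  obtain ⟨k, hk, j, -, i, -, e⟩ := L.act_cls hg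
  obtain ⟨p, hp, rfl⟩ := L.R.surj hx
  rw [e p hp]
  refine L.cjX hk (L.R.mem ?_)
  have h1 : ∀ j, dl^[j] p < 693 := fun j => Function.Iterate.rec (· < 693) hp
    (fun a ha => (ma_dl L.R).lt a ha) j
  exact Function.Iterate.rec (· < 693) (h1 j) (fun a ha => (ma_kp L.R).lt a ha) i

/-- An outer element with a known action on the base. -/
theorem exists_outer : ∃ s ∈ cz d, s ∉ K0 ∧ ∀ m < 2 ^ 10,
    s * io d f m * s⁻¹ = io d f (lin (1 :: oP.map fun i => cs1.getD (i + 1) 0) m) := by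
  obtain ⟨u, hu, u0⟩ := L.out
  obtain ⟨k, hk, j, hj, i, hi, e⟩ := L.act_cls hu
  have hs := mul_mem (inv_mem (L.idx.le hk)) hu
  have s0 : k⁻¹ * u ∉ K0 := fun h => u0 ((K0.mul_mem_cancel_left (inv_mem hk)).1 h)
  have e' : ∀ x < 693, k⁻¹ * u * f x * (k⁻¹ * u)⁻¹ = f (kp^[i] (dl^[j] x)) := fun x hx => by
    rw [← cj_cj, e x hx, inv_cj_cj]
  generalize k⁻¹ * u = s at hs s0 e'
  obtain ⟨c1, -, c3⟩ := chk_kd1 j hj i hi
  have key : ∀ w : List ℕ, (∀ p ∈ w, p ∈ ps) →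
      io d f (xc1 (w.map fun x => kp^[i] (dl^[j] x))) = s * wd f w * s⁻¹ := fun w hw => by
    rw [← L.wd_eq (by simpa using fun p hp => c1 p (hw p hp)), wd, wd, ← prod_map_cj, List.map_map,
      List.map_map]
    exact congrArg _ (List.map_congr_left fun p hp => (e' p (ps_lt (hw p hp))).symm)
  rcases c3 (L.eq_of (xc1_lt _) (by norm_num) (by
      rw [key _ (by decide), ← chk_HM.1, ← J_eq_wd, L.h1, io_zero]; group))
    (L.eq_of (xc1_lt _) (by norm_num) (by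
      rw [key _ (by decide), ← chk_HM.2, ← J_eq_wd, L.h2, io_one, mem_cz.1 hs])) with ⟨rfl, rfl⟩ | h
  · refine absurd (L.hC s hs fun k hk => (TTU.commute_of_mem_closure (S := X) (fun x hx => ?_)
      (L.gen ▸ hk)).symm) s0
    obtain ⟨p, hp, rfl⟩ := L.R.surj hx
    exact (commute_of_cj_eq (e' p hp)).symm
  · refine ⟨s, hs, s0, fun m hm => L.cj_pts (mem_cz'.1 hs) (by decide) ?_ hm⟩
    have := congrArg (List.map f) h
    rw [List.map_map, List.map_map] at this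
    exact (List.map_congr_left fun x hx => e' x (ps_lt (List.mem_of_mem_take hx))).trans this

variable [Finite G]

theorem isPGroup_K : IsPGroup 2 (KG f (zpowers d)) :=
  IsPGroup.of_card (n := 16) (by
    rw [card_KG L.R L.hc (L.ln ▸ mem_zpowers _) (L.h1 ▸ one_mem _) (L.h2 ▸ mem_zpowers _),
      L.card_zpowers]; rfl)

theorem syl {P : Subgroup G} (hP : IsPGroup 2 P) (h : P ≤ K0) :
    ∃ g ∈ K0, ∀ x ∈ P, g * x * g⁻¹ ∈ KG f (zpowers d) := by
  have ho := odd_relIndex L.R (H := K0) (fun x hx => L.XK hx) (zpowers_le.2 L.dK) L.hc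
    (L.ln ▸ mem_zpowers _) (L.h1 ▸ one_mem _) (L.h2 ▸ mem_zpowers _)
    (by rw [L.card, L.card_zpowers])
  obtain ⟨g, hg, h1⟩ := (MSS.sylIn_of_not_dvd_relIndex L.isPGroup_K L.K_le
    (fun h => (Nat.not_even_iff_odd.2 ho) (even_iff_two_dvd.2 h))).exists_conj_le hP h
  exact ⟨g, hg, fun x hx => h1 ⟨x, hx, rfl⟩⟩

theorem conjN {P : Subgroup G} (hP : IsPGroup 2 P) (h : P ≤ K0)
    (hN : P ≤ normalizer (A1 d f : Set G)) : ∃ g ∈ K0, g ∈ normalizer (A1 d f : Set G) ∧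
      ∀ x ∈ P, g * x * g⁻¹ ∈ KG f (zpowers d) := by
  obtain ⟨g, hg, h1⟩ := L.syl (P := A1 d f ⊔ P)
    (IsPGroup.to_sup_of_normal_left' L.co.ea.isPGroup hP hN) (sup_le L.A_le h)
  have e := L.jp.eq_of_le L.co.ea L.isPGroup_K L.K_le L1.A_le_K
    (F := (A1 d f).map (MulAut.conj g).toMonoidHom)
    (by rintro _ ⟨x, hx, rfl⟩; exact h1 x (mem_sup_left hx)) (L.co.ea.conj g)
    (card_map_of_injective (MulAut.conj g).injective).ge
  exact ⟨g, hg, mem_normalizer_of_forall fun a ha => e ▸ ⟨a, ha, rfl⟩,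
    fun x hx => h1 x (mem_sup_right hx)⟩

end LK

end CL.F3.AT
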