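import Cfsg.Agent.PERM.F3.AutT1

/-!
The automorphism group of `Fi₂₂` from an involution centralizer, part 2: the parity of the action on
the base, and the group generated by the base is weakly closed in the centralizer of `d`.
-/

set_option autoImplicit false
set_option maxHeartbeats 200000

open Subgroup CL.Odd Cfsg CL.TT CL.TTU CL.TTU.U6 CL.Misc CL.K CL.FiA CL.FiRec

namespace CL.F3.AT

variable {G : Type*} [Group G]

/-- the action of the normalizer of a set -/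
def pB (B : Set G) : normalizer B →* Equiv.Perm B where
  toFun g :=
    { toFun := fun x => ⟨g * x * (g : G)⁻¹, (g.2 x).1 x.2⟩
      invFun := fun x => ⟨(g : G)⁻¹ * x * (g : G)⁻¹⁻¹, ((inv_mem g.2) x).1 x.2⟩
      left_inv := fun x => Subtype.ext (inv_cj_cj _ _)
      right_inv := fun x => Subtype.ext (cj_inv_cj _ _) }
  map_one' := Equiv.ext fun x => Subtype.ext (by simp)
  map_mul' a b := Equiv.ext fun x => Subtype.ext (cj_cj _ _ _).symm

open Classical in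
/-- the sign of the action -/
noncomputable def sB [Finite G] (B : Set G) : normalizer B →* ℤˣ :=
  letI := Fintype.ofFinite B
  Equiv.Perm.sign.comp (pB B)

/-- the elements inducing even permutations -/
noncomputable def EV [Finite G] (B : Set G) : Subgroup G := (sB B).ker.map (normalizer B).subtype

theorem idx2_EV [Finite G] (B : Set G) : Idx2 (EV B) (normalizer B) := idx2_ker _

theorem ev_iff [Finite G] {B : Set G} {g : G} (hg : g ∈ normalizer B)
    (h2 : ∀ x ∈ B, g * (g * x * g⁻¹) * g⁻¹ = x) :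
    g ∈ EV B ↔ Even ((B.ncard - {x | x ∈ B ∧ g * x * g⁻¹ = x}.ncard) / 2) := by
  classical
  let _ := Fintype.ofFinite B
  have e1 : g ∈ EV B ↔ Equiv.Perm.sign (pB B ⟨g, hg⟩) = 1 :=
    ⟨by rintro ⟨x, hx, rfl⟩; exact hx, fun h => ⟨⟨g, hg⟩, h, rfl⟩⟩
  have e2 : Fintype.card (Function.fixedPoints (pB B ⟨g, hg⟩)) =
      {x | x ∈ B ∧ g * x * g⁻¹ = x}.ncard := by
    rw [← Nat.card_eq_fintype_card, Nat.card_coe_set_eq,
      ← Set.ncard_image_of_injective _ Subtype.val_injective]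
    congr 1
    ext x
    exact ⟨by rintro ⟨y, hy, rfl⟩; exact ⟨y.2, congrArg Subtype.val hy⟩,
      fun h => ⟨⟨x, h.1⟩, Subtype.ext h.2, rfl⟩⟩
  rw [e1, Equiv.Perm.sign_of_pow_two_eq_one (Equiv.ext fun x => Subtype.ext (h2 x x.2)), e2,
    ← Nat.card_eq_fintype_card, Nat.card_coe_set_eq, neg_one_pow_eq_one_iff_even (by decide)]

theorem ev_of_commute [Finite G] {B : Set G} {g : G} (h : ∀ x ∈ B, Commute g x) : g ∈ EV B := by
  have e : ∀ x ∈ B, g * x * g⁻¹ = x := fun x hx => cj_eq_of_commute (h x hx)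
  rw [ev_iff (mem_normalizer_of_conj_mem fun x hx => by rwa [e x hx]) fun x hx => by rw [e x hx, e x hx],
    show {x | x ∈ B ∧ g * x * g⁻¹ = x} = B from Set.ext fun x => ⟨fun h => h.1, fun h => ⟨h, e x h⟩⟩]
  simp

theorem pow_mem_iff {K H : Subgroup G} (h : Idx2 K H) {g : G} (hg : g ∈ H) {m : ℕ} (hm : Odd m) :
    g ^ m ∈ K ↔ g ∈ K := by
  obtain ⟨k, rfl⟩ := hm
  rw [pow_succ, pow_mul, K.mul_mem_cancel_left (pow_mem (by
    rw [pow_two, h.mul_mem_iff hg hg]) k)]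

theorem idx2_of_card [Finite G] {K H : Subgroup G} (h : K ≤ H) (hc : Nat.card H ≤ 2 * Nat.card K) :
    Idx2 K H := by
  have h1 := relIndex_mul_relIndex ⊥ K H bot_le h
  rw [relIndex_bot_left, relIndex_bot_left] at h1
  have h2 : 0 < Nat.card H := Nat.card_pos
  have h3 : 0 < Nat.card K := Nat.card_pos
  have h4 : K.relIndex H ≤ 2 := by nlinarith
  have h5 : K.relIndex H ≠ 0 := fun e => by rw [e] at h1; omega
  rcases (by omega : K.relIndex H = 1 ∨ K.relIndex H = 2) with e | e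
  · exact ⟨h, fun g hg _ _ n _ => absurd (relIndex_eq_one.1 e hg) n⟩
  · exact idx2_of h e

theorem card_le_two [Finite G] {K H F : Subgroup G} (h : Idx2 K H) (hF : F ≤ H) :
    Nat.card F ≤ 2 * Nat.card (F ⊓ K : Subgroup G) := by
  rw [← SetLike.coe_sort_coe (F ⊓ K), Nat.card_coe_set_eq, coe_inf]
  by_cases h0 : F ≤ K
  · refine (card_le_mul (T := [0]) (r := fun _ => 1) fun x hx => ⟨0, by simp, x, h0 hx, by simp⟩).trans ?_
    simp only [List.length_cons, List.length_nil]; omega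
  obtain ⟨t, ht, n⟩ := SetLike.not_le_iff_exists.1 h0
  refine card_le_mul (T := [0, 1]) (r := fun i => t ^ i) fun x hx => ?_
  by_cases hx' : x ∈ K
  · exact ⟨0, by simp, x, hx', by simp⟩
  · exact ⟨1, by simp, t⁻¹ * x, h.mul _ (inv_mem (hF ht)) _ (hF hx) (by simpa using n) hx', by simp⟩

/-- check of an involutory action on the base with `n` fixed points -/
noncomputable def okM (M : List ℕ) (n : ℕ) : Bool :=
  an (lall (fun c => an (lmem (lin M c) cs1) (Nat.beq (lin M (lin M c)) c)) cs1)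
    (Nat.beq (cntB (fun k => an (lmem k cs1) (Nat.beq (lin M k) k)) 1024) n)

theorem chk_ev : lall (fun j => okM (im j) 6) [1, 2, 4, 8, 16, 32] = true ∧
    okM (1 :: oP.map fun i => cs1.getD (i + 1) 0) 8 = true ∧
    gs = [1, 2, 4, 8, 16, 32].map (sel gs) := by decide +kernel

theorem chk_r2 : allLt (fun i => allLt (fun j => ou (Nat.beq i j) (lany (fun w =>
    an (Nat.beq (lin cs1 (Nat.xor w (Nat.pow 2 i))) (cs1.getD i 0))
      (an (no (tb (Nat.xor w (Nat.pow 2 i)) i)) (no (tb (Nat.xor w (Nat.pow 2 i)) j))))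
    [2144683, 2049620, 93849, 4100454, 192853, 4001450, 2657941, 1536362, 1213335, 2980968])) 22) 22 =
    true := by decide +kernel

/-- the cosets with a large common fixed space -/
def TL (j : ℕ) : List ℕ := ([[0, 16, 32, 48], [0, 20, 40, 60], [0, 24, 44, 52], [0, 28, 36, 56]].find?
  (j ∈ ·)).getD []

theorem chk_FL4 : lall (fun a : ℕ × List ℕ × ℕ => ou (Nat.blt a.1 16) (lall (fun b : ℕ × List ℕ × ℕ =>
    ou (lmem b.1 (TL a.1)) (force (Nat.land a.2.2 b.2.2) fun M => Nat.ble (cntB (tb M) 1024) 18)) FL))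
    FL = true ∧ ∀ a ∈ FL, 16 ≤ a.1 → (TL a.1).length = 4 ∧ 0 ∈ TL a.1 := by
  decide +kernel

theorem chk_reg : lall (fun c => ou (Nat.beq (lin (im 1) c) c)
    (anyLt (fun j => Nat.beq (lin (im j) 16) c) 16)) cs1 = true ∧ lin (im 1) 16 ≠ 16 ∧
    [1, 8739, 31, 8794, 2, 512, 8, 8945, 8192, 16, 621, 8854, 32, 8391, 128, 696, 4, 715, 8308, 254, 8365,
      64].map (lin (1 :: (List.range 16).map fun j => lin (im j) 16)) = cs1 := by
  decide +kernel

theorem lin_im_lt (j m : ℕ) : lin (im j) m < 2 ^ 10 := by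
  refine lin_lt (fun c hc => ?_) _
  rcases List.mem_cons.1 hc with rfl | hc
  · norm_num
  · obtain ⟨t, -, rfl⟩ := List.mem_map.1 hc
    by_cases hi : sg j t + 1 < cs1.length
    · rw [List.getD_eq_getElem _ _ hi]; exact chk_cs1.2.2.1 _ (List.getElem_mem hi)
    · rw [List.getD_eq_default _ _ (by omega)]; norm_num

namespace LK

variable {K0 : Subgroup G} {d : G} {X : Set G} {f : ℕ → G} (L : LK K0 d X f)
include L

theorem ncard_BB : (BB d f).ncard = 22 := L.co.ncard_pts chk_cs1.2.2.2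

theorem mem_BB' {a : G} : a ∈ BB d f ↔ ∃ i < 22, io d f (cs1.getD i 0) = a := L.co.mem_pts

theorem r1 {a b c e : G} (ha : a ∈ BB d f) (hb : b ∈ BB d f) (hc : c ∈ BB d f) (he : e ∈ BB d f)
    (hab : a ≠ b) (h : a * b = c * e) : a = c ∨ a = e := by
  have hrel := chk_rel1
  simp only [relOK, force_eq, ou_iff, an_iff, beq_iff, blt_iff, allLt_iff, no_iff, lany_iff] at hrel
  have C := L.co
  obtain ⟨i, hi, rfl⟩ := L.mem_BB'.1 ha
  obtain ⟨j, hj, rfl⟩ := L.mem_BB'.1 hb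
  obtain ⟨l, hl, rfl⟩ := L.mem_BB'.1 hc
  obtain ⟨m, hm', rfl⟩ := L.mem_BB'.1 he
  rcases (hrel.1 i hi j hj l hl).2 with rfl | rfl | h'
  · exact absurd rfl hab
  · exact Or.inl rfl
  rcases h' m hm' with rfl | h'
  · exact Or.inr rfl
  refine absurd (L.eq_of (Nat.xor_lt_two_pow (Nat.xor_lt_two_pow (C.get_lt i) (C.get_lt j))
    (C.get_lt l)) (C.get_lt m) ?_) h'
  show io d f (_ ^^^ _ ^^^ _) = _
  rw [L.xor, L.xor, h, (C.ea.commute (L.ioA _) (L.ioA _)).eq, mul_assoc, C.ea _ (L.ioA _), mul_one]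

theorem r2 {p q : G} (hp : p ∈ BB d f) (hq : q ∈ BB d f) (h : p ≠ q) :
    p ∈ closure (BB d f \ {p, q}) := by
  have C := L.co
  obtain ⟨i, hi, rfl⟩ := L.mem_BB'.1 hp
  obtain ⟨j, hj, rfl⟩ := L.mem_BB'.1 hq
  obtain ⟨w, -, h1⟩ := lany_iff.1 ((ou_iff.1 (allLt_iff.1 (allLt_iff.1 chk_r2 i hi) j hj)).resolve_left
    fun e => h (by rw [beq_iff.1 e]))
  simp only [an_iff, beq_iff, no_iff, tb_eq] at h1
  obtain ⟨e1, e2, e3⟩ := h1
  generalize Nat.xor w (Nat.pow 2 i) = v at e1 e2 e3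
  have e4 : io d f v = io d f (cs1.getD i 0) := by rw [← e1, io, io, C.ci.iota_lin, C.map]
  refine e4 ▸ iota_mem fun l hl hb => subset_closure ?_
  rw [← C.length] at hl
  rw [← C.get hl, e4]
  refine ⟨L.mem_BB'.2 ⟨l, hl, rfl⟩, ?_⟩
  rintro (e | e)
  · exact C.ne_of chk_cs1.2.2.2 hl hi (by rintro rfl; exact e2 hb) e
  · exact C.ne_of chk_cs1.2.2.2 hl hj (by rintro rfl; exact e3 hb) e

/-- There are no transvections. -/
theorem no_trans {F : Subgroup G} (hF : Idx2 F (A1 d f)) {t : G} (t2 : t * t = 1)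
    (ht : t ∈ normalizer (BB d f)) (hc : ∀ a ∈ F, Commute t a) {p : G} (hp : p ∈ BB d f) :
    Commute t p := by
  by_contra hn
  have hp' := (ht p).1 hp
  have hne : p ≠ t * p * t⁻¹ := fun h => hn (commute_of_cj_eq h.symm)
  have pF : p ∉ F := fun h => hn (hc p h)
  refine pF ((closure_le F).2 ?_ (L.r2 hp hp' hne))
  rintro y ⟨hy, hy'⟩
  by_contra yF
  have h1 := cj_eq_of_commute (hc _ (hF.mul y (BB_le d f hy) p (BB_le d f hp) yF pF))
  rw [cj_mul] at h1
  have h2 : p * (t * p * t⁻¹) = y * (t * y * t⁻¹) := by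
    have h3 : t * y * t⁻¹ = y * p * (t * p * t⁻¹) := by
      rw [← h1, mul_assoc (t * y * t⁻¹), L.co.ea _ (BB_le d f hp'), mul_one]
    rw [h3, ← mul_assoc y, ← mul_assoc y, L.co.ea y (BB_le d f hy), one_mul]
  rcases L.r1 hp hp' hy ((ht y).1 hy) hne h2 with h4 | h4
  · exact hy' (Or.inl h4.symm)
  · refine hy' (Or.inr ?_)
    rw [Set.mem_singleton_iff, h4, cj_cj, t2]
    simp

variable [Finite G]

theorem ev_of {g : G} {M : List ℕ} {n : ℕ} (hM : okM M n = true)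
    (h : ∀ m < 2 ^ 10, g * io d f m * g⁻¹ = io d f (lin M m)) (lt : ∀ m, lin M m < 2 ^ 10) :
    g ∈ normalizer (BB d f) ∧ (g ∈ EV (BB d f) ↔ Even ((22 - n) / 2)) := by
  simp only [okM, an_iff, lall_iff, lmem_iff, beq_iff] at hM
  have lc := chk_cs1.2.2.1
  have hN : g ∈ normalizer (BB d f) := mem_normalizer_of_conj_mem fun x hx => by
    obtain ⟨c, hc, rfl⟩ := L.mem_BB.1 hx
    exact L.mem_BB.2 ⟨_, (hM.1 c hc).1, (h c (lc c hc)).symm⟩
  refine ⟨hN, ?_⟩
  rw [ev_iff hN fun x hx => ?_, L.ncard_BB, ← hM.2, L.co.ncard_eq (fun x hx => BB_le d f hx.1)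
    fun k hk => ?_]
  · rfl
  · rw [an_iff, lmem_iff, beq_iff]
    refine and_congr ⟨fun h1 => ?_, fun h1 => L.mem_BB.2 ⟨k, h1, rfl⟩⟩ ?_
    · obtain ⟨c, hc, e⟩ := L.mem_BB.1 h1
      exact L.eq_of (lc c hc) hk e ▸ hc
    · exact ⟨fun e => L.eq_of (lt k) hk ((h k hk).symm.trans e), fun e => (h k hk).trans (by rw [e]; rfl)⟩
  · obtain ⟨c, hc, rfl⟩ := L.mem_BB.1 hx
    rw [h c (lc c hc), h _ (lt c), (hM.1 c hc).2]

theorem K_le_EV : KG f (zpowers d) ≤ EV (BB d f) := by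
  refine sup_le ((A1_eq d f).ge.trans fun a ha => ev_of_commute fun x hx =>
    L.co.ea.commute ha (BB_le d f hx)) ((closure_le _).2 fun a ha => ?_)
  obtain ⟨w, hw, rfl⟩ := List.mem_map.1 ha
  rw [chk_ev.2.2] at hw
  obtain ⟨j, hj, rfl⟩ := List.mem_map.1 hw
  refine (L.ev_of (lall_iff.1 chk_ev.1 j hj) (fun m hm => ?_) (lin_im_lt j)).2.2 (by decide)
  simpa using L.cj_coset' ((by decide : ∀ j ∈ [1, 2, 4, 8, 16, 32], j < 64) j hj) (one_mem _) hm

omit L in
theorem NB_le {g : G} (hg : g ∈ normalizer (BB d f)) : g ∈ normalizer (A1 d f : Set G) := by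
  have : A1 d f ≤ (A1 d f).comap (MulAut.conj g).toMonoidHom :=
    (closure_le _).2 fun x hx => BB_le d f ((hg x).1 hx)
  exact mem_normalizer_of_forall fun a ha => this ha

theorem mem_NB {g : G} (hg : g ∈ cz d) (hN : g ∈ normalizer (A1 d f : Set G)) :
    g ∈ normalizer (BB d f) := by
  refine mem_normalizer_of_conj_mem fun x hx => ?_
  rw [← L.inter] at hx ⊢
  rcases hx with rfl | hx
  exacts [Or.inl (mem_cz.1 hg), Or.inr ⟨L.nm hg x hx.1, cj_mem_of_mem_normalizer hN hx.2⟩]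

theorem ev_of_K0 {n : G} (hn : n ∈ normalizer (BB d f)) (h0 : n ∈ K0) : n ∈ EV (BB d f) := by
  obtain ⟨k, m, hm, e⟩ := Nat.exists_eq_two_pow_mul_odd (orderOf_pos n).ne'
  rw [← pow_mem_iff (idx2_EV _) hn hm]
  obtain ⟨g, hg, gN, h⟩ := L.conjN (P := zpowers (n ^ m)) (IsPGroup.of_card (n := k) (by
    rw [Nat.card_zpowers, orderOf_pow' n hm.pos.ne', e, Nat.gcd_eq_right (Dvd.intro_left _ rfl),
      Nat.mul_div_cancel _ hm.pos])) (zpowers_le.2 (pow_mem h0 m)) (zpowers_le.2 (pow_mem (NB_le hn) m))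
  exact ((idx2_EV _).cj_mem_iff (L.mem_NB (L.idx.le hg) gN) (pow_mem hn m)).1
    (L.K_le_EV (h _ (mem_zpowers _)))

theorem exists_odd : ∃ s ∈ cz d, s ∉ K0 ∧ s ∈ normalizer (BB d f) ∧ s ∉ EV (BB d f) := by
  obtain ⟨s, hs, s0, h⟩ := L.exists_outer
  obtain ⟨h1, h2⟩ := L.ev_of chk_ev.2.1 h (lin_lt (by decide))
  exact ⟨s, hs, s0, h1, fun e => absurd (h2.1 e) (by decide)⟩

theorem mem_of_ev {n : G} (hd : n ∈ cz d) (h : n ∈ EV (BB d f)) : n ∈ K0 := by
  by_contra h0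
  obtain ⟨s, hs, s0, h1, h2⟩ := L.exists_odd
  exact h2 ((EV _).mul_mem_cancel_left h |>.1 (L.ev_of_K0 (mul_mem ((idx2_EV _).le h) h1)
    (L.idx.mul n hd s hs h0 s0)))

omit [Finite G] in
theorem cos_inv {F : Subgroup G} (hK : F ≤ KG f (zpowers d)) (hF : EA F) {x : G} (hx : x ∈ F) :
    ∃ j ∈ invL, ∃ a ∈ A1 d f, x = wd f (sel gs j) * a := by
  obtain ⟨j, hj, a, ha, rfl⟩ := L.coset (hK hx)
  refine ⟨j, ?_, a, ha, rfl⟩
  rcases ou_iff.1 (allLt_iff.1 chk_invL j hj) with h | h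
  · exact lmem_iff.1 h
  obtain ⟨p, hp, h⟩ := lany_iff.1 h
  rw [no_iff, beq_iff] at h
  have hw := okW_sel (goodOK_ok chk_good) j
  refine absurd ((commute_wd_iff L.R (by simpa [or_imp, forall_and] using hw) (ps_lt hp)).1 ?_) h
  have h1 := hF _ hx
  have h2 : ∀ q ∈ ps, Commute a (f q) := fun q hq => commute_BG L.R L.hc (A1_eq d f ▸ ha) hq
  have h3 : wd f (sel gs j) * f p * (wd f (sel gs j))⁻¹ ∈ A1 d f := by
    obtain ⟨k, hk, e⟩ := L.surj (BB_le d f (f_mem_BB d f hp))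
    have := L.cj_coset' hj (one_mem _) hk
    rw [mul_one, e] at this
    exact this ▸ L.ioA _
  refine commute_of_cj_eq ?_
  rw [wd_append, ← cj_cj, ← cj_eq_of_commute (L.co.ea.commute ha h3)]
  conv_lhs => rw [← cj_eq_of_commute (h2 p hp)]
  rw [cj_cj, cj_cj, cj_cj, mul_assoc (_ * a) _ a, h1, one_mul, inv_one, mul_one]

omit [Finite G] in
theorem fix_FL {F : Subgroup G} (hF : EA F) {b : ℕ × List ℕ × ℕ} (hb : b ∈ FL)
    (h : ∃ a ∈ A1 d f, wd f (sel gs b.1) * a ∈ F) {k : ℕ} (hk : k < 2 ^ 10)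
    (hF' : io d f k ∈ (F : Set G) ∩ A1 d f) : tb b.2.2 k = true := by
  obtain ⟨a, ha, h⟩ := h
  have hj : b.1 < 64 := (by decide : ∀ b ∈ FL, b.1 < 64) b hb
  have e := L.cj_coset' hj ha hk
  rw [cj_eq_of_commute (hF.commute h hF'.1)] at e
  have := L.eq_of (lin_im_lt _ _) hk e.symm
  rw [im, ← chk_FL.1 b hb] at this
  exact imp_iff.1 (allLt_iff.1 (an_iff.1 (lall_iff.1 chk_FL2 b hb)).2 k hk) (beq_iff.2 this)

/-- A large elementary abelian subgroup of the Sylow subgroup. -/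
theorem big {F : Subgroup G} (hK : F ≤ KG f (zpowers d)) (hF : EA F) (hc : 2 ^ 9 ≤ Nat.card F)
    (hA : ¬ F ≤ A1 d f) {j : ℕ} (hj : j < 16) : ∃ a ∈ A1 d f, wd f (sel gs j) * a ∈ F := by
  have h0 := fun x hx => L.cos_inv hK hF (x := x) hx
  have hFL : ∀ j ∈ invL, j = 0 ∨ ∃ b ∈ FL, b.1 = j := fun j hj => by
    rw [← chk_FL.2] at hj
    simpa only [List.mem_cons, List.mem_map] using hj
  have two : ∀ b ∈ FL, ∀ b' ∈ FL, (∃ a ∈ A1 d f, wd f (sel gs b.1) * a ∈ F) →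
      (∃ a ∈ A1 d f, wd f (sel gs b'.1) * a ∈ F) →
      ((F : Set G) ∩ A1 d f).ncard ≤ cntB (tb (Nat.land b.2.2 b'.2.2)) 1024 := fun b hb b' hb' q q' =>
    L.co.ncard_le (S := (F : Set G) ∩ A1 d f) Set.inter_subset_right fun k hk h => by
      have e1 := L.fix_FL hF hb q hk h
      have e2 := L.fix_FL hF hb' q' hk h
      rw [tb_eq] at e1 e2 ⊢
      rw [show Nat.land b.2.2 b'.2.2 = b.2.2 &&& b'.2.2 from rfl, Nat.testBit_and, e1, e2]; rfl
  have cnt : ∀ T : List ℕ, 0 ∈ T → (∀ b ∈ FL, (∃ a ∈ A1 d f, wd f (sel gs b.1) * a ∈ F) → b.1 ∈ T) →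
      512 ≤ T.length * ((F : Set G) ∩ A1 d f).ncard := fun T T0 hT =>
    hc.trans (card_le_mul (r := fun j => wd f (sel gs j)) fun y hy => by
      obtain ⟨j, hj, a, ha, rfl⟩ := h0 y hy
      refine ⟨j, ?_, a, ha, rfl⟩
      rcases hFL j hj with rfl | ⟨b', hb', rfl⟩
      exacts [T0, hT b' hb' ⟨a, ha, hy⟩])
  have h32 : ((F : Set G) ∩ A1 d f).ncard ≤ 32 := by
    obtain ⟨x, hx, hxA⟩ := SetLike.not_le_iff_exists.1 hA
    obtain ⟨j, hj, a, ha, rfl⟩ := h0 x hx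
    rcases hFL j hj with rfl | ⟨b, hb, rfl⟩
    · rw [wd_sel, iota_zero, one_mul] at hxA; exact absurd ha hxA
    by_contra hn
    have c1 := L.co.ncard_le (S := (F : Set G) ∩ A1 d f) Set.inter_subset_right (p := tb b.2.2)
      fun k hk h => L.fix_FL hF hb ⟨a, ha, hx⟩ hk h
    have c2 := ble_iff.1 (an_iff.1 (lall_iff.1 chk_FL2 b hb)).1
    have c3 := cnt [0, b.1] (by simp) fun b' hb' q => by
      by_contra hne
      have key : ∀ b ∈ FL, ∀ b' ∈ FL, b'.1 < b.1 → cntB (tb (Nat.land b.2.2 b'.2.2)) 1024 ≤ 32 := by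
        intro b hb b' hb' hlt
        have c2 := (ou_iff.1 (lall_iff.1 (lall_iff.1 chk_FL3 b hb) b' hb')).resolve_left
          (by rw [ble_iff]; omega)
        rwa [force_eq, ble_iff] at c2
      rcases Nat.lt_or_gt_of_ne (show b'.1 ≠ b.1 from fun e => hne (by simp [e])) with h | h
      exacts [hn ((two b hb b' hb' ⟨a, ha, hx⟩ q).trans (key b hb b' hb' h)),
        hn ((two b' hb' b hb q ⟨a, ha, hx⟩).trans (key b' hb' b hb h))]
    norm_num at c1 c3
    omega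
  have h16 : ∀ b ∈ FL, (∃ a ∈ A1 d f, wd f (sel gs b.1) * a ∈ F) → b.1 < 16 := by
    intro b hb q
    by_contra hn
    have c1 := (ou_iff.1 (lall_iff.1 chk_FL4.1 b hb)).resolve_left (by rwa [blt_iff])
    obtain ⟨c2, c3⟩ := chk_FL4.2 b hb (by omega)
    have c4 := cnt _ c3 fun b' hb' q' => by
      refine lmem_iff.1 ((ou_iff.1 (lall_iff.1 c1 b' hb')).resolve_right fun h => ?_)
      rw [force_eq, ble_iff] at h
      have c5 := cnt invL (by decide) fun b hb _ => (by decide : ∀ b ∈ FL, b.1 ∈ invL) b hb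
      have := (two b hb b' hb' q q').trans h
      rw [show invL.length = 28 from rfl] at c5
      omega
    rw [c2] at c4
    omega
  rcases Nat.eq_zero_or_pos j with rfl | j0
  · exact ⟨1, one_mem _, by rw [wd_sel, iota_zero, one_mul]; exact one_mem _⟩
  by_contra hn
  have c := cnt ((List.range 16).erase j) ((List.mem_erase_of_ne j0.ne).2 (by simp)) fun b hb q =>
    (List.mem_erase_of_ne (by rintro rfl; exact hn q)).2 (List.mem_range.2 (h16 b hb q))
  rw [List.length_erase_of_mem (List.mem_range.2 hj), List.length_range] at c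
  omega

theorem jp_core {F : Subgroup G} (hF : F ≤ cz d) (hN : F ≤ normalizer (A1 d f : Set G)) (hE : EA F)
    (hc : 2 ^ 10 ≤ Nat.card F) (hK : F ⊓ K0 ≤ KG f (zpowers d)) : F ≤ K0 := by
  intro t ht
  by_contra t0
  have c1 := card_le_two L.idx hF
  have NB := fun g (hg : g ∈ F) => L.mem_NB (hF hg) (hN hg)
  by_cases hA : F ⊓ K0 ≤ A1 d f
  · exact t0 (L.mem_of_ev (hF ht) (ev_of_commute fun p hp => L.no_trans
      (idx2_of_card hA (L.co.card ▸ hc.trans c1)) (hE t ht) (NB t ht) (fun a ha => hE.commute ht ha.1) hp))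
  choose! a ha hg using fun j hj => L.big hK (hE.mono inf_le_left) (by omega) hA (j := j) hj
  have act := fun j (hj : j < 16) m hm => L.cj_coset' (j := j) (by omega) (ha j hj) (m := m) hm
  have gF := fun j hj => (mem_inf.1 (hg j hj)).1
  obtain ⟨c, hc', e⟩ := L.mem_BB.1 ((NB t ht _).1 (L.mem_BB.2 ⟨16, by decide, rfl⟩))
  rcases ou_iff.1 (lall_iff.1 chk_reg.1 c hc') with h | h
  · have h1 := act 1 (by norm_num) c (chk_cs1.2.2.1 c hc')
    rw [beq_iff.1 h, e, cj_cj, ← (hE.commute ht (gF 1 (by norm_num))).eq, ← cj_cj,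
      act 1 (by norm_num) 16 (by norm_num)] at h1
    exact chk_reg.2.1 (L.eq_of (lin_im_lt _ _) (by norm_num) (cj_inj h1))
  obtain ⟨j, hj, h⟩ := anyLt_iff.1 h
  have hF' := F.mul_mem (F.inv_mem (gF j hj)) ht
  have h1 : Commute ((wd f (sel gs j) * a j)⁻¹ * t) (io d f 16) := commute_of_cj_eq (by
    rw [← cj_cj, ← e, ← beq_iff.1 h, ← act j hj 16 (by norm_num), inv_cj_cj])
  refine t0 ((K0.mul_mem_cancel_left (K0.inv_mem (mem_inf.1 (hg j hj)).2)).1 (L.mem_of_ev (hF hF')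
    (ev_of_commute fun p hp => ?_)))
  obtain ⟨c, hc, rfl⟩ := L.mem_BB.1 hp
  rw [← chk_reg.2.2] at hc
  obtain ⟨w, -, rfl⟩ := List.mem_map.1 hc
  rw [io, L.co.ci.iota_lin]
  refine commute_iota (fun y hy => ?_) w
  obtain ⟨k, hk, rfl⟩ := List.mem_map.1 hy
  rcases List.mem_cons.1 hk with rfl | hk
  · rw [L1.iota_one]; exact mem_cz'.1 (hF hF')
  obtain ⟨i, hi, rfl⟩ := List.mem_map.1 hk
  have hi' := List.mem_range.1 hi
  have c := hE.commute hF' (gF i hi')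
  have := (c.mul_right h1).mul_right c.inv_right
  rwa [act i hi' 16 (by norm_num)] at this

theorem jpK : JP (cz d) (A1 d f) := by
  intro F hF hN hE hc
  obtain ⟨g, hg, gN, h⟩ := L.conjN (P := F ⊓ K0) (hE.mono inf_le_left).isPGroup inf_le_right
    (inf_le_left.trans hN)
  have := L.jp_core (F := F.map (MulAut.conj g).toMonoidHom) ?_ ?_ (hE.conj g) ?_ ?_
  · exact L.jp F (fun x hx => (L.idx.cj_mem_iff (L.idx.le hg) (hF hx)).1 (this ⟨x, hx, rfl⟩)) hN hE hc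
  · rintro _ ⟨x, hx, rfl⟩
    exact mul_mem (mul_mem (L.idx.le hg) (hF hx)) (inv_mem (L.idx.le hg))
  · rintro _ ⟨x, hx, rfl⟩
    exact mul_mem (mul_mem gN (hN hx)) (inv_mem gN)
  · rwa [card_map_of_injective (MulAut.conj g).injective, ← L.co.card]
  · rintro _ ⟨⟨x, hx, rfl⟩, h2⟩
    exact h x ⟨hx, (L.idx.cj_mem_iff (L.idx.le hg) (hF hx)).1 h2⟩

end LK

end CL.F3.AT
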